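/-
Quadratic forms with non-degenerate polar form: isometries, reflections, Siegel transformations, complements.
-/
import Mathlib.LinearAlgebra.QuadraticForm.Basic
import Mathlib.LinearAlgebra.BilinearForm.Orthogonal
import Mathlib.LinearAlgebra.FiniteDimensional.Lemmas
import Mathlib.LinearAlgebra.Dual.Lemmas
import Mathlib.FieldTheory.Finite.Basic
import Mathlib.Tactic.LinearCombination
import Mathlib.Tactic.Module
import Mathlib.Tactic.FieldSimp

set_option autoImplicit false

namespace Cfsg.Agent.Orth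

open QuadraticMap Module

variable {F V : Type*} [Field F] [AddCommGroup V] [Module F V] (Q : QuadraticForm F V)

/-- The isometries of Q. -/
def oGroup : Subgroup (V ≃ₗ[F] V) where
  carrier := {g | ∀ x, Q (g x) = Q x}
  mul_mem' {a b} ha hb x := (ha (b x)).trans (hb x)
  one_mem' _ := rfl
  inv_mem' {a} ha x := by
    have h := ha (a⁻¹ x)
    rw [show a (a⁻¹ x) = x from a.apply_symm_apply x] at h
    exact h.symm

variable {Q}

theorem q_add (x y : V) : Q (x + y) = Q x + Q y + polar Q x y := QuadraticMap.map_add (⇑Q) x y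

theorem q_smul (c : F) (x : V) : Q (c • x) = c * c * Q x := by
  rw [QuadraticMap.map_smul, smul_eq_mul]

theorem q_sub (x y : V) : Q (x - y) = Q x + Q y - polar Q x y := by
  rw [sub_eq_add_neg, q_add, QuadraticMap.map_neg, polar_comm, polar_neg_left, polar_comm]
  ring

theorem b_self (x : V) : polar Q x x = 2 * Q x := by
  rw [polar_self, two_nsmul, two_mul]

theorem b_comm (x y : V) : polar Q x y = polar Q y x := polar_comm _ x y

theorem b_add_left (x x' y : V) : polar Q (x + x') y = polar Q x y + polar Q x' y := polar_add_left Q x x' y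

theorem b_smul_left (c : F) (x y : V) : polar Q (c • x) y = c * polar Q x y := polar_smul_left Q c x y

theorem b_add_right (x y y' : V) : polar Q x (y + y') = polar Q x y + polar Q x y' := by
  rw [b_comm, b_add_left, b_comm y, b_comm y']

theorem b_smul_right (c : F) (x y : V) : polar Q x (c • y) = c * polar Q x y := by
  rw [b_comm, b_smul_left, b_comm]

theorem b_sub_left (x x' y : V) : polar Q (x - x') y = polar Q x y - polar Q x' y := by
  rw [sub_eq_add_neg, b_add_left, polar_neg_left]; ring

theorem b_sub_right (x y y' : V) : polar Q x (y - y') = polar Q x y - polar Q x y' := by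
  rw [b_comm, b_sub_left, b_comm y, b_comm y']

theorem b_zero_left (y : V) : polar Q 0 y = 0 := by
  simpa using b_smul_left (Q := Q) 0 y y

theorem b_zero_right (y : V) : polar Q y 0 = 0 := by rw [b_comm, b_zero_left]

theorem b_map {g : V ≃ₗ[F] V} (hg : g ∈ oGroup Q) (x y : V) : polar Q (g x) (g y) = polar Q x y := by
  simp only [polar, ← map_add, hg _]

theorem eq_zero_of_b (hQ : (polarBilin Q).Nondegenerate) {x : V} (h : ∀ y, polar Q x y = 0) : x = 0 :=
  hQ.1 x h

theorem exists_rep [FiniteDimensional F V] (hQ : (polarBilin Q).Nondegenerate) (f : Dual F V) :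
    ∃ y, ∀ x, polar Q x y = f x := by
  have hinj : Function.Injective (polarBilin Q) := by
    rw [← LinearMap.ker_eq_bot, LinearMap.ker_eq_bot']
    exact fun x hx => eq_zero_of_b hQ fun y => LinearMap.congr_fun hx y
  obtain ⟨y, hy⟩ := (LinearMap.injective_iff_surjective_of_finrank_eq_finrank
    Subspace.dual_finrank_eq.symm).1 hinj f
  exact ⟨y, fun x => by rw [b_comm]; exact LinearMap.congr_fun hy x⟩

theorem exists_orth_not [FiniteDimensional F V] (hQ : (polarBilin Q).Nondegenerate) {S : Submodule F V} {u : V}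
    (hu : u ∉ S) (c : F) : ∃ y, (∀ s ∈ S, polar Q s y = 0) ∧ polar Q u y = c := by
  obtain ⟨f, hf, hS⟩ := Submodule.exists_dual_map_eq_bot_of_notMem hu inferInstance
  obtain ⟨y, hy⟩ := exists_rep hQ ((c / f u) • f)
  refine ⟨y, fun s hs => ?_, by rw [hy, LinearMap.smul_apply, smul_eq_mul, div_mul_cancel₀ _ hf]⟩
  have h0 : f s ∈ S.map f := Submodule.mem_map_of_mem hs
  rw [hS, Submodule.mem_bot] at h0
  rw [hy, LinearMap.smul_apply, h0, smul_zero]

/-! ### Reflections -/

theorem exists_refl {a : V} (ha : Q a ≠ 0) :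
    ∃ r ∈ oGroup Q, ∀ x, r x = x - (polar Q x a / Q a) • a := by
  let f : V →ₗ[F] V :=
    { toFun := fun x => x - (polar Q x a / Q a) • a
      map_add' := fun x y => by rw [b_add_left, add_div, add_smul]; abel
      map_smul' := fun c x => by
        rw [RingHom.id_apply, b_smul_left, mul_div_assoc, mul_smul, smul_sub] }
  have hinv : Function.Involutive f := fun x => by
    show x - (polar Q x a / Q a) • a - (polar Q (x - (polar Q x a / Q a) • a) a / Q a) • a = x
    rw [b_sub_left, b_smul_left, b_self]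
    match_scalars <;> field_simp <;> ring
  refine ⟨LinearEquiv.ofInvolutive f hinv, fun x => ?_, fun x => rfl⟩
  show Q (x - (polar Q x a / Q a) • a) = Q x
  rw [q_sub, q_smul, b_smul_right]
  field_simp
  ring

/-- r is the reflection in a. -/
def IsRefl (r : V ≃ₗ[F] V) (Q : QuadraticForm F V) (a : V) : Prop :=
  Q a ≠ 0 ∧ ∀ x, r x = x - (polar Q x a / Q a) • a

theorem exists_isRefl {a : V} (ha : Q a ≠ 0) : ∃ r ∈ oGroup Q, IsRefl r Q a := by
  obtain ⟨r, hr, h⟩ := exists_refl ha
  exact ⟨r, hr, ha, h⟩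

theorem IsRefl.mem {r : V ≃ₗ[F] V} {a : V} (h : IsRefl r Q a) : r ∈ oGroup Q := by
  obtain ⟨r', hr', h'⟩ := exists_refl h.1
  rwa [show r = r' from LinearEquiv.ext fun x => by rw [h.2, h']]

theorem IsRefl.fix {r : V ≃ₗ[F] V} {a x : V} (h : IsRefl r Q a) (hx : polar Q x a = 0) : r x = x := by
  rw [h.2, hx, zero_div, zero_smul, sub_zero]

theorem IsRefl.move {r : V ≃ₗ[F] V} {u w : V} (h : IsRefl r Q (w - u)) (hq : Q u = Q w) : r u = w := by
  have h1 : polar Q u (w - u) = -Q (w - u) := by
    rw [b_sub_right, b_self, q_sub, hq, b_comm w u]; ring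
  rw [h.2, h1, neg_div, div_self h.1, neg_smul, one_smul, sub_neg_eq_add, add_sub_cancel]

/-! ### Siegel transformations -/

/-- g is x ↦ x + B(x,u) y − (B(x,y) + Q(y) B(x,u)) u. -/
def IsSiegel (g : V ≃ₗ[F] V) (Q : QuadraticForm F V) (u y : V) : Prop :=
  ∀ x, g x = x + polar Q x u • y - (polar Q x y + Q y * polar Q x u) • u

/-- The map underlying a Siegel transformation. -/
def siegelMap (Q : QuadraticForm F V) (u y : V) : V →ₗ[F] V where
  toFun x := x + polar Q x u • y - (polar Q x y + Q y * polar Q x u) • u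
  map_add' x x' := by rw [b_add_left, b_add_left]; module
  map_smul' c x := by rw [RingHom.id_apply, b_smul_left, b_smul_left]; module

theorem siegelMap_comp {u y y' : V} (hu : Q u = 0) (hy : polar Q u y = 0) (hy' : polar Q u y' = 0) (x : V) :
    siegelMap Q u y (siegelMap Q u y' x) = siegelMap Q u (y + y') x := by
  have huu : polar Q u u = 0 := by rw [b_self, hu, mul_zero]
  simp only [siegelMap, LinearMap.coe_mk, AddHom.coe_mk, b_sub_left, b_add_left, b_smul_left, b_add_right,
    huu, hy, q_add, b_comm y' u, hy', b_comm y' y, mul_zero, add_zero, sub_zero]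
  module

theorem siegelMap_zero (u x : V) : siegelMap Q u 0 x = x := by
  simp [siegelMap, b_zero_right]

theorem exists_siegel {u y : V} (hu : Q u = 0) (hy : polar Q u y = 0) :
    ∃ g ∈ oGroup Q, IsSiegel g Q u y := by
  have hny : polar Q u (-y) = 0 := by rw [← neg_one_smul F y, b_smul_right, hy, mul_zero]
  refine ⟨LinearEquiv.ofLinear (siegelMap Q u y) (siegelMap Q u (-y))
    (LinearMap.ext fun x => by
      rw [LinearMap.comp_apply, siegelMap_comp hu hy hny, add_neg_cancel, siegelMap_zero, LinearMap.id_apply])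
    (LinearMap.ext fun x => by
      rw [LinearMap.comp_apply, siegelMap_comp hu hny hy, neg_add_cancel, siegelMap_zero, LinearMap.id_apply]),
    fun x => ?_, fun x => rfl⟩
  show Q (x + polar Q x u • y - (polar Q x y + Q y * polar Q x u) • u) = Q x
  simp only [q_sub, q_add, q_smul, b_add_left, b_smul_left, b_smul_right, hu, b_comm y u, hy]
  ring

theorem IsSiegel.mem {g : V ≃ₗ[F] V} {u y : V} (h : IsSiegel g Q u y) (hu : Q u = 0) (hy : polar Q u y = 0) :
    g ∈ oGroup Q := by
  obtain ⟨g', hg', h'⟩ := exists_siegel hu hy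
  rwa [show g = g' from LinearEquiv.ext fun x => by rw [h, h']]

theorem IsSiegel.fix {g : V ≃ₗ[F] V} {u y x : V} (h : IsSiegel g Q u y) (h1 : polar Q x u = 0)
    (h2 : polar Q x y = 0) : g x = x := by
  rw [h, h1, h2]; simp

theorem IsSiegel.eq {g g' : V ≃ₗ[F] V} {u y : V} (h : IsSiegel g Q u y) (h' : IsSiegel g' Q u y) : g = g' :=
  LinearEquiv.ext fun x => by rw [h, h']

theorem IsSiegel.mul {g g' : V ≃ₗ[F] V} {u y y' : V} (hu : Q u = 0) (hy : polar Q u y = 0)
    (hy' : polar Q u y' = 0) (h : IsSiegel g Q u y) (h' : IsSiegel g' Q u y') : IsSiegel (g * g') Q u (y + y') :=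
  fun x => by
    rw [LinearEquiv.mul_apply, h, h']
    exact siegelMap_comp hu hy hy' x

/-- A Siegel transformation with non-singular y is a product of two reflections. -/
theorem IsSiegel.eq_refl_mul {g r r' : V ≃ₗ[F] V} {u y : V} (hu : Q u = 0) (hy : polar Q u y = 0)
    (h : IsSiegel g Q u y) (hr' : IsRefl r' Q y) (hr : IsRefl r Q (y - Q y • u)) : g = r * r' := by
  refine LinearEquiv.ext fun x => ?_
  have hq : Q (y - Q y • u) = Q y := by rw [q_sub, q_smul, b_smul_right, hu, b_comm y u, hy]; ring
  rw [LinearEquiv.mul_apply, h, hr.2, hr'.2, hq]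
  simp only [b_sub_left, b_sub_right, b_smul_left, b_smul_right, b_self, b_comm y u, hy, hu]
  have hy0 := hr'.1
  match_scalars <;> field_simp <;> ring

/-! ### Hyperbolic pairs -/

theorem exists_partner [FiniteDimensional F V] (hQ : (polarBilin Q).Nondegenerate) {e : V} (he0 : e ≠ 0)
    (he : Q e = 0) : ∃ d, polar Q e d = 1 ∧ Q d = 0 := by
  obtain ⟨y, -, hy⟩ := exists_orth_not hQ (S := (⊥ : Submodule F V)) (u := e) (by simpa using he0) 1
  refine ⟨y - Q y • e, ?_, ?_⟩
  · rw [b_sub_right, b_smul_right, b_self, he, hy]; ring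
  · rw [q_sub, q_smul, b_smul_right, he, b_comm y e, hy]; ring

end Cfsg.Agent.Orth
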