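/-
Witt's extension theorem for quadratic forms over any field, with control of the group of the extension.
-/
import Cfsg.Agent.Lib.Orthogonal.Basic

set_option autoImplicit false

namespace Cfsg.Agent.Orth

open QuadraticMap Module

variable {F V : Type*} [Field F] [AddCommGroup V] [Module F V] {Q : QuadraticForm F V}

/-- K contains the reflections and the Siegel transformations. -/
structure Full (K : Subgroup (V ≃ₗ[F] V)) (Q : QuadraticForm F V) : Prop where
  refl : ∀ {r : V ≃ₗ[F] V} {a : V}, IsRefl r Q a → r ∈ K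
  siegel : ∀ {g : V ≃ₗ[F] V} {u y : V}, Q u = 0 → polar Q u y = 0 → IsSiegel g Q u y → g ∈ K

theorem full_oGroup : Full (oGroup Q) Q := ⟨fun h => h.mem, fun hu hy h => h.mem hu hy⟩

variable [FiniteDimensional F V]

/-- One step: moving u to w while fixing H pointwise. -/
theorem exists_step (hQ : (polarBilin Q).Nondegenerate) {K : Subgroup (V ≃ₗ[F] V)} (hK : Full K Q)
    {H : Submodule F V} {u w : V} (hu : u ∉ H) (hw : w ∉ H) (hq : Q u = Q w)
    (hb : ∀ h ∈ H, polar Q u h = polar Q w h) :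
    ∃ g ∈ K, g ∈ oGroup Q ∧ g u = w ∧ ∀ h ∈ H, g h = h := by
  set a := w - u with ha
  have haH : ∀ h ∈ H, polar Q h a = 0 := fun h hh => by
    rw [ha, b_sub_right, b_comm h w, b_comm h u, hb h hh, sub_self]
  rcases ne_or_eq (Q a) 0 with hqa | hqa
  · obtain ⟨r, hr, hr'⟩ := exists_isRefl hqa
    exact ⟨r, hK.refl hr', hr, hr'.move hq, fun h hh => hr'.fix (haH h hh)⟩
  have huw : polar Q u w = 2 * Q u := by
    rw [ha, q_sub, b_comm w u, ← hq] at hqa
    linear_combination -hqa
  have hua : polar Q u a = 0 := by rw [ha, b_sub_right, b_self, huw, sub_self]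
  rcases eq_or_ne a 0 with ha0 | ha0
  · exact ⟨1, K.one_mem, one_mem _, (sub_eq_zero.1 (ha ▸ ha0)).symm, fun h _ => rfl⟩
  by_cases hS : u ∈ H ⊔ Submodule.span F {a}
  swap
  · obtain ⟨y, hy, huy⟩ := exists_orth_not hQ hS (-1)
    have hay : polar Q a y = 0 := hy a (Submodule.mem_sup_right (Submodule.mem_span_singleton_self a))
    obtain ⟨g, hg, hg'⟩ := exists_siegel hqa hay
    refine ⟨g, hK.siegel hqa hay hg', hg, ?_, fun h hh => hg'.fix (haH h hh) (hy h (Submodule.mem_sup_left hh))⟩
    rw [hg', hua, huy, ha]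
    module
  obtain ⟨h₀, hh₀, x, hx, hux⟩ := Submodule.mem_sup.1 hS
  obtain ⟨c, rfl⟩ := Submodule.mem_span_singleton.1 hx
  have hc0 : c ≠ 0 := fun hc => hu (by rw [← hux, hc, zero_smul, add_zero]; exact hh₀)
  have hwx : w = h₀ + (c + 1) • a := by
    rw [add_smul, one_smul, ← add_assoc, hux, ha, add_sub_cancel]
  have hc1 : c + 1 ≠ 0 := fun hc => hw (by rw [hwx, hc, zero_smul, add_zero]; exact hh₀)
  have haH' : a ∉ H := fun h => hu (by rw [← hux]; exact H.add_mem hh₀ (H.smul_mem c h))
  obtain ⟨y, hy, hay⟩ := exists_orth_not hQ haH' 1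
  set d := y - Q y • a with hd
  have hdd : Q d = 0 := by rw [hd, q_sub, q_smul, b_smul_right, hqa, b_comm y a, hay]; ring
  have had : polar Q a d = 1 := by rw [hd, b_sub_right, b_smul_right, b_self, hqa, hay]; ring
  have hdH : ∀ h ∈ H, polar Q h d = 0 := fun h hh => by
    rw [hd, b_sub_right, b_smul_right, hy h hh, haH h hh]; ring
  set k := (c + 1) / c with hk
  have hk0 : k ≠ 0 := div_ne_zero hc1 hc0
  obtain ⟨r, hr, hr'⟩ := exists_isRefl (a := a - d) (Q := Q) (by
    rw [q_sub, hqa, hdd, had]; simp)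
  obtain ⟨s, hs, hs'⟩ := exists_isRefl (a := k • a - d) (Q := Q) (by
    rw [q_sub, q_smul, b_smul_left, hqa, hdd, had]; simpa using hk0)
  refine ⟨s * r, K.mul_mem (hK.refl hs') (hK.refl hr'), mul_mem hs hr, ?_, fun h hh => ?_⟩
  · have e1 : r a = d := by
      have h1 : IsRefl r Q (d - a) := ⟨by rw [q_sub, hqa, hdd, b_comm, had]; simp, fun x => by
        rw [hr'.2, show Q (d - a) = Q (a - d) from QuadraticMap.map_sub Q d a,
          show polar Q x (d - a) = -polar Q x (a - d) by rw [← neg_sub a d, ← neg_one_smul F (a - d), b_smul_right, neg_one_mul],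
          show d - a = -(a - d) by abel, neg_div, smul_neg, neg_smul, neg_neg]⟩
      exact h1.move (by rw [hqa, hdd])
    have e2 : s d = k • a := hs'.move (by rw [hdd, q_smul, hqa, mul_zero])
    have hfix : ∀ h ∈ H, (s * r) h = h := fun h hh => by
      rw [LinearEquiv.mul_apply, hr'.fix (by rw [b_sub_right, haH h hh, hdH h hh, sub_self]),
        hs'.fix (by rw [b_sub_right, b_smul_right, haH h hh, hdH h hh]; ring)]
    rw [← hux, map_add, map_smul, hfix h₀ hh₀, LinearEquiv.mul_apply, e1, e2, smul_smul, hk,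
      mul_div_cancel₀ _ hc0, hwx]
  · rw [LinearEquiv.mul_apply, hr'.fix (by rw [b_sub_right, haH h hh, hdH h hh, sub_self]),
      hs'.fix (by rw [b_sub_right, b_smul_right, haH h hh, hdH h hh]; ring)]

/-- Witt's extension theorem. -/
theorem witt (hQ : (polarBilin Q).Nondegenerate) {K : Subgroup (V ≃ₗ[F] V)} (hK : Full K Q) :
    ∀ (X : Submodule F V) (φ : X →ₗ[F] V), Function.Injective φ → (∀ x : X, Q (φ x) = Q (x : V)) →
      ∃ g ∈ K, g ∈ oGroup Q ∧ ∀ x : X, g x = φ x := by
  suffices H : ∀ (n : ℕ) (X : Submodule F V), finrank F X = n → ∀ φ : X →ₗ[F] V, Function.Injective φ →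
      (∀ x : X, Q (φ x) = Q (x : V)) → ∃ g ∈ K, g ∈ oGroup Q ∧ ∀ x : X, g x = φ x from
    fun X => H _ X rfl
  intro n
  induction n with
  | zero =>
    intro X hX φ _ _
    obtain rfl := Submodule.finrank_eq_zero.1 hX
    exact ⟨1, K.one_mem, one_mem _, fun x => by rw [Subsingleton.elim x 0]; simp⟩
  | succ n ih =>
    intro X hX φ hφ hq
    let b := Module.finBasisOfFinrankEq F X hX
    set H : Submodule F V := Submodule.span F (Set.range fun i : Fin n => (b i.castSucc : V)) with hH
    set u : X := b (Fin.last n) with hu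
    have hHX : H ≤ X := Submodule.span_le.2 (by rintro _ ⟨i, rfl⟩; exact (b i.castSucc).2)
    have hli : LinearIndependent F fun i : Fin (n + 1) => (b i : V) :=
      b.linearIndependent.map' X.subtype X.ker_subtype
    have hHdim : finrank F H = n := by
      have := finrank_span_eq_card (hli.comp _ (Fin.castSucc_injective n))
      rw [Fintype.card_fin] at this
      exact this
    have huH : (u : V) ∉ H := by
      have h := hli.notMem_span_image (s := Set.range Fin.castSucc) (x := Fin.last n)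
        (fun ⟨i, hi⟩ => (Fin.castSucc_lt_last i).ne hi)
      rwa [← Set.range_comp] at h
    obtain ⟨g, hg, hgo, hgφ⟩ := ih H hHdim (φ.comp (Submodule.inclusion hHX))
      (hφ.comp (Submodule.inclusion_injective hHX)) fun x => hq _
    -- reduce to an element fixing H
    have hgH : ∀ h : H, g (h : V) = φ ⟨h.1, hHX h.2⟩ := fun h => hgφ h
    set w := g.symm (φ u) with hw
    have hgw : g w = φ u := g.apply_symm_apply _
    have hwq : Q (u : V) = Q w := by rw [← hgo w, hgw, hq]
    have hwH : w ∉ H := fun h => huH (by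
      have h1 := hgH ⟨w, h⟩
      rw [hgw] at h1
      have h2 := congrArg Subtype.val (hφ h1)
      rw [h2]; exact h)
    have hpol : ∀ h ∈ H, polar Q (u : V) h = polar Q w h := fun h hh => by
      rw [← b_map hgo w h, hgw, hgH ⟨h, hh⟩]
      simp only [polar]
      rw [← map_add, hq, hq, hq]
      rfl
    obtain ⟨t, ht, hto, htu, htH⟩ := exists_step hQ hK huH hwH hwq hpol
    refine ⟨g * t, K.mul_mem hg ht, mul_mem hgo hto, ?_⟩
    have : (g * t).toLinearMap.comp X.subtype = φ := b.ext fun i => by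
      show g (t (b i : V)) = φ (b i)
      induction i using Fin.lastCases with
      | last => rw [← hu, htu, hgw]
      | cast i =>
        have hi : (b i.castSucc : V) ∈ H := Submodule.subset_span ⟨i, rfl⟩
        rw [htH _ hi, hgH ⟨_, hi⟩]
    exact fun x => LinearMap.congr_fun this x

theorem witt_pair (hQ : (polarBilin Q).Nondegenerate) {X Y : Submodule F V} (φ : X ≃ₗ[F] Y)
    (hφ : ∀ x : X, Q (φ x : V) = Q (x : V)) : ∃ g ∈ oGroup Q, ∀ x : X, g x = (φ x : V) := by
  obtain ⟨g, -, hg, hgφ⟩ := witt hQ full_oGroup X (Y.subtype.comp φ.toLinearMap)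
    (fun a b h => φ.injective (Subtype.ext h)) hφ
  exact ⟨g, hg, hgφ⟩

theorem b_eq_zero_of_singular {W : Submodule F V} (hW : ∀ w ∈ W, Q w = 0) {x y : V} (hx : x ∈ W) (hy : y ∈ W) :
    polar Q x y = 0 := by
  rw [polar, hW _ (W.add_mem hx hy), hW x hx, hW y hy, sub_zero, sub_zero]

theorem finrank_singular_le (hQ : (polarBilin Q).Nondegenerate) {W : Submodule F V} (hW : ∀ w ∈ W, Q w = 0) :
    2 * finrank F W ≤ finrank F V := by
  have hinj : Function.Injective (polarBilin Q) := by
    rw [← LinearMap.ker_eq_bot, LinearMap.ker_eq_bot']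
    exact fun x hx => eq_zero_of_b hQ fun y => LinearMap.congr_fun hx y
  have hle : W.map (polarBilin Q) ≤ W.dualAnnihilator := by
    rintro _ ⟨y, hy, rfl⟩
    rw [Submodule.mem_dualAnnihilator]
    exact fun x hx => b_eq_zero_of_singular hW hy hx
  have h := Submodule.finrank_mono hle
  rw [← LinearEquiv.finrank_eq (Submodule.equivMapOfInjective (polarBilin Q) hinj W)] at h
  have h1 : finrank F W ≤ finrank F W.dualAnnihilator := h
  have h2 := Subspace.finrank_add_finrank_dualAnnihilator_eq W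
  omega

/-- Maximal totally singular subspaces have the same dimension. -/
theorem finrank_maximal_le (hQ : (polarBilin Q).Nondegenerate) {W₁ W₂ : Submodule F V}
    (h₁ : ∀ w ∈ W₁, Q w = 0) (h₂ : ∀ w ∈ W₂, Q w = 0)
    (hmax : ∀ W : Submodule F V, W₁ ≤ W → (∀ w ∈ W, Q w = 0) → W = W₁) :
    finrank F W₂ ≤ finrank F W₁ := by
  by_contra! hlt
  obtain ⟨φ, hφ⟩ : ∃ φ : W₁ →ₗ[F] W₂, Function.Injective φ := Module.Free.exists_linearMap_injective_of_rank_lt (by rw [← finrank_eq_rank, ← finrank_eq_rank]; exact_mod_cast hlt)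
  obtain ⟨g, -, hg, hgφ⟩ := witt hQ full_oGroup W₁ (W₂.subtype.comp φ) (W₂.injective_subtype.comp hφ)
    fun x => by rw [h₁ _ x.2]; exact h₂ _ (φ x).2
  have hle : W₁ ≤ W₂.map g.symm.toLinearMap := fun x hx =>
    ⟨φ ⟨x, hx⟩, (φ ⟨x, hx⟩).2, g.symm_apply_eq.2 (hgφ ⟨x, hx⟩).symm⟩
  have heq := hmax _ hle (by
    rintro _ ⟨y, hy, rfl⟩
    show Q (g.symm y) = 0
    rw [← hg (g.symm y), g.apply_symm_apply]
    exact h₂ y hy)
  have := congrArg (fun W : Submodule F V => finrank F W) heq
  rw [← LinearEquiv.finrank_eq (Submodule.equivMapOfInjective _ g.symm.injective W₂)] at this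
  omega

end Cfsg.Agent.Orth
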