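/-
Bridge between the matrix isometry groups of the prelude and linear isometries.
-/
import Cfsg.Agent.Lib.Orthogonal.Witt
import Cfsg.Prelude.Def_ClassicalGeometry
import Mathlib.LinearAlgebra.Matrix.SchurComplement

set_option autoImplicit false

namespace Cfsg.Agent.Orth

open QuadraticMap Matrix

variable {ι : Type} [Fintype ι] [DecidableEq ι] {F : Type*} [Field F]

/-- Invertible matrices as linear automorphisms of column vectors. -/
def glEquiv (ι : Type) [Fintype ι] [DecidableEq ι] (F : Type*) [Field F] :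
    GL ι F ≃* ((ι → F) ≃ₗ[F] (ι → F)) :=
  Matrix.GeneralLinearGroup.toLin.trans (LinearMap.GeneralLinearGroup.generalLinearEquiv F (ι → F))

theorem glEquiv_apply (g : GL ι F) (x : ι → F) : glEquiv ι F g x = (g : Matrix ι ι F) *ᵥ x := rfl

theorem mem_isometryGroup {Q : (ι → F) → F} {g : GL ι F} :
    g ∈ Cfsg.isometryGroup F Q ↔ ∀ x, Q ((g : Matrix ι ι F) *ᵥ x) = Q x :=
  ⟨fun h x => h x 0, fun h x _ => h x⟩

variable (Q : QuadraticForm F (ι → F))

theorem polarVec_dot (v x : ι → F) : Cfsg.polarVec (⇑Q) v ⬝ᵥ x = polar Q v x := by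
  have h : x = ∑ j, x j • (Pi.single j 1 : ι → F) := by
    ext i; simp [Finset.sum_apply, Pi.single_apply]
  conv_rhs => rw [show polar (⇑Q) v x = polarBilin Q v x from rfl, h, map_sum]
  simp [dotProduct, Cfsg.polarVec, mul_comm]

theorem reflectionMatrix_mulVec (v x : ι → F) :
    Cfsg.reflectionMatrix (⇑Q) v *ᵥ x = x - (polar Q x v / Q v) • v := by
  rw [Cfsg.reflectionMatrix, Matrix.sub_mulVec, Matrix.one_mulVec, Matrix.smul_mulVec,
    Matrix.vecMulVec_mulVec, polarVec_dot, op_smul_eq_smul, smul_smul, b_comm, div_eq_inv_mul]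

theorem siegelMatrix_mulVec (u v : ι → F) (c : F) (x : ι → F) :
    Cfsg.siegelMatrix (⇑Q) u v c *ᵥ x = x + c • (polar Q x u • v - polar Q x v • u) := by
  rw [Cfsg.siegelMatrix, Matrix.add_mulVec, Matrix.one_mulVec, Matrix.smul_mulVec, Matrix.sub_mulVec,
    Matrix.vecMulVec_mulVec, Matrix.vecMulVec_mulVec, polarVec_dot, polarVec_dot, op_smul_eq_smul,
    op_smul_eq_smul, b_comm u, b_comm v]

theorem siegelMatrix_isSiegel {u v : ι → F} (hv : Q v = 0) (c : F) (g : (ι → F) ≃ₗ[F] (ι → F))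
    (hg : ∀ x, g x = Cfsg.siegelMatrix (⇑Q) u v c *ᵥ x) : IsSiegel g Q u (c • v) := fun x => by
  rw [hg, siegelMatrix_mulVec, b_smul_right, q_smul, hv]
  module

theorem det_reflectionMatrix {v : ι → F} (hv : Q v ≠ 0) : (Cfsg.reflectionMatrix (⇑Q) v).det = -1 := by
  rw [show Cfsg.reflectionMatrix (⇑Q) v
      = 1 + replicateCol Unit (-(Q v)⁻¹ • v) * replicateRow Unit (Cfsg.polarVec (⇑Q) v) from ?_,
    Matrix.det_one_add_replicateCol_mul_replicateRow, polarVec_dot, b_smul_right, b_self]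
  · field_simp; ring
  · rw [← Matrix.vecMulVec_eq, Cfsg.reflectionMatrix, sub_eq_add_neg]
    ext i j
    simp [Matrix.vecMulVec_apply]

/-- The isometry group of Q, as linear maps. -/
def isoEquiv : ↥(Cfsg.isometryGroup F (⇑Q)) ≃* ↥(oGroup Q) where
  toFun g := ⟨glEquiv ι F g.1, fun x => mem_isometryGroup.1 g.2 x⟩
  invFun g := ⟨(glEquiv ι F).symm g.1, mem_isometryGroup.2 fun x => by
    rw [← glEquiv_apply, MulEquiv.apply_symm_apply]; exact g.2 x⟩
  left_inv g := Subtype.ext (MulEquiv.symm_apply_apply _ _)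
  right_inv g := Subtype.ext (MulEquiv.apply_symm_apply _ _)
  map_mul' a b := Subtype.ext (map_mul _ _ _)

theorem isoEquiv_apply (g : Cfsg.isometryGroup F (⇑Q)) (x : ι → F) :
    ((isoEquiv Q g : (ι → F) ≃ₗ[F] (ι → F))) x = ((g : GL ι F) : Matrix ι ι F) *ᵥ x := rfl

theorem exists_reflection {v : ι → F} (hv : Q v ≠ 0) :
    ∃ g : Cfsg.isometryGroup F (⇑Q), ((g : GL ι F) : Matrix ι ι F) = Cfsg.reflectionMatrix (⇑Q) v ∧
      IsRefl (isoEquiv Q g : (ι → F) ≃ₗ[F] (ι → F)) Q v := by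
  obtain ⟨r, hr, hr'⟩ := exists_isRefl hv
  refine ⟨(isoEquiv Q).symm ⟨r, hr⟩, Matrix.ext_iff_mulVec.2 fun x => ?_, by rwa [MulEquiv.apply_symm_apply]⟩
  rw [reflectionMatrix_mulVec, ← isoEquiv_apply, MulEquiv.apply_symm_apply]
  exact hr'.2 x

theorem eq_reflectionMatrix_iff {v : ι → F} (hv : Q v ≠ 0) (g : Cfsg.isometryGroup F (⇑Q)) :
    ((g : GL ι F) : Matrix ι ι F) = Cfsg.reflectionMatrix (⇑Q) v ↔
      IsRefl (isoEquiv Q g : (ι → F) ≃ₗ[F] (ι → F)) Q v := by
  refine ⟨fun h => ⟨hv, fun x => ?_⟩, fun h => Matrix.ext_iff_mulVec.2 fun x => ?_⟩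
  · rw [isoEquiv_apply, h, reflectionMatrix_mulVec]
  · rw [← isoEquiv_apply, h.2, reflectionMatrix_mulVec]

theorem toMatrix_det_ne_zero (hQ : (polarBilin Q).Nondegenerate) :
    (LinearMap.toMatrix₂' F (polarBilin Q)).det ≠ 0 :=
  Matrix.nondegenerate_iff_det_ne_zero.1 (LinearMap.nondegenerate_toMatrix₂'_iff.2 hQ)

theorem det_sq (hQ : (polarBilin Q).Nondegenerate) (g : Cfsg.isometryGroup F (⇑Q)) :
    ((g : GL ι F) : Matrix ι ι F).det ^ 2 = 1 := by
  set M := ((g : GL ι F) : Matrix ι ι F)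
  have h : (polarBilin Q).compl₁₂ (Matrix.toLin' M) (Matrix.toLin' M) = polarBilin Q :=
    LinearMap.ext fun x => LinearMap.ext fun y => b_map (isoEquiv Q g).2 x y
  have h1 := congrArg Matrix.det (LinearMap.toMatrix₂'_compl₁₂ (polarBilin Q) (Matrix.toLin' M) (Matrix.toLin' M))
  rw [h, LinearMap.toMatrix'_toLin', Matrix.det_mul, Matrix.det_mul, Matrix.det_transpose] at h1
  apply mul_right_cancel₀ (toMatrix_det_ne_zero Q hQ)
  rw [one_mul]
  linear_combination -h1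

theorem det_eq_or (hQ : (polarBilin Q).Nondegenerate) (g : Cfsg.isometryGroup F (⇑Q)) :
    ((g : GL ι F) : Matrix ι ι F).det = 1 ∨ ((g : GL ι F) : Matrix ι ι F).det = -1 :=
  sq_eq_one_iff.1 (det_sq Q hQ g)

end Cfsg.Agent.Orth
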