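/-
Generation of orthogonal groups by reflections.
-/
import Cfsg.Agent.Lib.Orthogonal.Matrix

set_option autoImplicit false

namespace Cfsg.Agent.Orth

open QuadraticMap Module

variable {F V : Type*} [Field F] [AddCommGroup V] [Module F V] {Q : QuadraticForm F V}

theorem IsRefl.mul_self {r : V ≃ₗ[F] V} {a : V} (h : IsRefl r Q a) : r * r = 1 :=
  LinearEquiv.ext fun x => by
    have ha := h.1
    rw [LinearEquiv.mul_apply, LinearEquiv.coe_one, id, h.2, h.2, b_sub_left, b_smul_left, b_self]
    match_scalars <;> field_simp <;> ring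

theorem exists_split [FiniteDimensional F V] [Fintype F] (hQ : (polarBilin Q).Nondegenerate)
    (h : Fintype.card F ≠ 2 ∨ finrank F V ≠ 4) {u y : V} (hu0 : u ≠ 0) (hu : Q u = 0)
    (huy : polar Q u y = 0) (hy : Q y = 0) (hyu : y ∉ Submodule.span F {u}) :
    ∃ y', polar Q u y' = 0 ∧ Q y' ≠ 0 ∧ Q (y - y') ≠ 0 := by
  obtain ⟨z₀, hz₀, hyz₀⟩ := exists_orth_not hQ hyu 1
  have huz₀ : polar Q u z₀ = 0 := hz₀ u (Submodule.mem_span_singleton_self u)
  set z := z₀ - Q z₀ • y with hzdef
  have huz : polar Q u z = 0 := by rw [hzdef, b_sub_right, b_smul_right, huz₀, huy]; ring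
  have hyz : polar Q y z = 1 := by rw [hzdef, b_sub_right, b_smul_right, b_self, hy, hyz₀]; ring
  have hz : Q z = 0 := by rw [hzdef, q_sub, q_smul, b_smul_right, hy, b_comm z₀ y, hyz₀]; ring
  clear_value z
  by_cases h3 : ∃ α : F, α ≠ 0 ∧ α ≠ 1
  · obtain ⟨α, hα0, hα1⟩ := h3
    refine ⟨α • y + z, by rw [b_add_right, b_smul_right, huy, huz]; ring, ?_, ?_⟩
    · rw [q_add, q_smul, b_smul_left, hy, hz, hyz]; simpa using hα0
    · rw [q_sub, q_add, q_smul, b_add_right, b_smul_right, b_smul_left, b_self, hy, hz, hyz,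
        show α * α * 0 + 0 + α * 1 = α by ring, show (0 : F) + α - (α * (2 * 0) + 1) = α - 1 by ring]
      exact sub_ne_zero.2 hα1
  · classical
    push Not at h3
    have hc : Fintype.card F = 2 := by
      rw [← Finset.card_univ, show (Finset.univ : Finset F) = {0, 1} from Finset.ext fun a => by
        simpa using (em (a = 0)).imp id (h3 a), Finset.card_pair zero_ne_one]
    have h4 : finrank F V ≠ 4 := h.resolve_left (fun hh => hh hc)
    have hune : u ∉ Submodule.span F {y, z} := by
      rw [Submodule.mem_span_pair]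
      rintro ⟨a, b, hab⟩
      have h1 := huy
      rw [← hab, b_add_left, b_smul_left, b_smul_left, b_self, hy, b_comm z y, hyz] at h1
      have hb0 : b = 0 := by linear_combination h1
      rw [hb0, zero_smul, add_zero] at hab
      refine hyu (Submodule.mem_span_singleton.2 ⟨a⁻¹, ?_⟩)
      have ha : a ≠ 0 := fun ha => hu0 (by rw [← hab, ha, zero_smul])
      rw [← hab, smul_smul, inv_mul_cancel₀ ha, one_smul]
    obtain ⟨w, hw, huw⟩ := exists_orth_not hQ hune 1
    have hyw : polar Q y w = 0 := hw y (Submodule.subset_span (by simp))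
    have hzw : polar Q z w = 0 := hw z (Submodule.subset_span (by simp))
    have h5 : 5 ≤ finrank F V := by
      have h2 : finrank F (Submodule.span F {u, y}) = 2 := by
        have hli : LinearIndependent F ![u, y] := (LinearIndependent.pair_iff' hu0).2 fun a ha =>
          hyu (Submodule.mem_span_singleton.2 ⟨a, ha⟩)
        have h := finrank_span_eq_card hli
        rwa [Fintype.card_fin, Matrix.range_cons, Matrix.range_cons, Matrix.range_empty, Set.union_empty,
          Set.singleton_union] at h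
      have h := finrank_singular_le hQ (W := Submodule.span F {u, y}) fun x hx => by
        obtain ⟨a, b, rfl⟩ := Submodule.mem_span_pair.1 hx
        rw [q_add, q_smul, q_smul, b_smul_left, b_smul_right, hu, hy, huy]; ring
      omega
    let p : V → V := fun x => x - (polar Q x w - polar Q x u * polar Q w w) • u - polar Q x u • w
      - polar Q x z • y - polar Q x y • z
    have hp : ∀ x, polar Q u (p x) = 0 ∧ polar Q w (p x) = 0 ∧ polar Q y (p x) = 0 ∧ polar Q z (p x) = 0 := by
      intro x
      simp only [p, b_sub_right, b_smul_right, b_comm w u, b_comm y u, b_comm z u, b_comm w y, b_comm w z,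
        b_comm z y, b_self, hu, hy, hz, huw, huy, huz, hyw, hzw, hyz, b_comm x]
      refine ⟨?_, ?_, ?_, ?_⟩ <;> ring
    obtain ⟨x₁, hx₁⟩ : ∃ x, p x ≠ 0 := by
      by_contra! hall
      have htop : (⊤ : Submodule F V) ≤ Submodule.span F (({u, w, y, z} : Finset V) : Set V) := fun x _ => by
        have hx : x = (polar Q x w - polar Q x u * polar Q w w) • u + polar Q x u • w + polar Q x z • y
            + polar Q x y • z := by
          rw [← sub_eq_zero, ← hall x]; simp only [p]; abel
        rw [hx]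
        refine add_mem (add_mem (add_mem ?_ ?_) ?_) ?_ <;>
          exact Submodule.smul_mem _ _ (Submodule.subset_span (by simp))
      have h := (Submodule.finrank_mono htop).trans (finrank_span_finset_le_card _)
      rw [finrank_top] at h
      have hcard : ({u, w, y, z} : Finset V).card ≤ 4 := Finset.card_le_four
      omega
    obtain ⟨m, hm, hm'⟩ : ∃ m, (polar Q u m = 0 ∧ polar Q w m = 0 ∧ polar Q y m = 0 ∧ polar Q z m = 0) ∧ Q m ≠ 0 := by
      by_contra! hall
      refine hx₁ (eq_zero_of_b hQ fun x => ?_)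
      obtain ⟨a1, a2, a3, a4⟩ := hp x₁
      obtain ⟨c1, c2, c3, c4⟩ := hp x
      have hx : x = p x + (polar Q x w - polar Q x u * polar Q w w) • u + polar Q x u • w + polar Q x z • y
            + polar Q x y • z := by simp only [p]; abel
      have h0 : polar Q (p x₁) (p x) = 0 := by
        rw [polar, hall _ ⟨a1, a2, a3, a4⟩, hall _ ⟨c1, c2, c3, c4⟩, hall (p x₁ + p x)]
        · ring
        · refine ⟨?_, ?_, ?_, ?_⟩ <;> simp [b_add_right, a1, a2, a3, a4, c1, c2, c3, c4]
      rw [hx, b_add_right, b_add_right, b_add_right, b_add_right, b_smul_right, b_smul_right, b_smul_right,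
        b_smul_right, h0, b_comm (p x₁) u, b_comm (p x₁) w, b_comm (p x₁) y, b_comm (p x₁) z, a1, a2, a3, a4]
      ring
    exact ⟨m, hm.1, hm', by rw [q_sub, hy, hm.2.2.1]; simpa using hm'⟩

/-- A subgroup containing all reflections contains all Siegel transformations. -/
theorem full_of_refl [FiniteDimensional F V] [Fintype F] (hQ : (polarBilin Q).Nondegenerate)
    (h : Fintype.card F ≠ 2 ∨ finrank F V ≠ 4) {K : Subgroup (V ≃ₗ[F] V)}
    (hK : ∀ {r : V ≃ₗ[F] V} {a : V}, IsRefl r Q a → r ∈ K) : Full K Q := by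
  refine ⟨hK, ?_⟩
  have main : ∀ {g : V ≃ₗ[F] V} {u y : V}, Q u = 0 → polar Q u y = 0 → Q y ≠ 0 → IsSiegel g Q u y → g ∈ K := by
    intro g u y hu hy hqy hg
    obtain ⟨r', -, hr'⟩ := exists_isRefl hqy
    obtain ⟨r, -, hr⟩ := exists_isRefl (a := y - Q y • u) (Q := Q) (by
      rw [q_sub, q_smul, b_smul_right, hu, b_comm y u, hy]; simpa using hqy)
    rw [hg.eq_refl_mul hu hy hr' hr]
    exact K.mul_mem (hK hr) (hK hr')
  intro g u y hu hy hg
  by_cases hqy : Q y ≠ 0
  · exact main hu hy hqy hg
  rw [not_not] at hqy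
  by_cases hone : u = 0 ∨ y ∈ Submodule.span F {u}
  · rw [show g = 1 from LinearEquiv.ext fun x => ?_]
    · exact K.one_mem
    · rw [hg, hqy]
      rcases hone with rfl | hmem
      · simp [b_zero_right]
      · obtain ⟨c, rfl⟩ := Submodule.mem_span_singleton.1 hmem
        rw [b_smul_right, LinearEquiv.coe_one, id]
        module
  push Not at hone
  obtain ⟨y', huy', hqy', hqy''⟩ := exists_split hQ h hone.1 hu hy hqy hone.2
  have huy'' : polar Q u (y - y') = 0 := by rw [b_sub_right, hy, huy', sub_zero]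
  obtain ⟨g₁, -, hg₁⟩ := exists_siegel hu huy'
  obtain ⟨g₂, -, hg₂⟩ := exists_siegel hu huy''
  have h12 := hg₁.mul hu huy' huy'' hg₂
  rw [add_sub_cancel] at h12
  rw [hg.eq h12]
  exact K.mul_mem (main hu huy' hqy' hg₁) (main hu huy'' hqy'' hg₂)

/-- A subgroup containing all reflections contains the isometry group. -/
theorem oGroup_le_of_refl [FiniteDimensional F V] [Fintype F] (hQ : (polarBilin Q).Nondegenerate)
    (h : Fintype.card F ≠ 2 ∨ finrank F V ≠ 4) {K : Subgroup (V ≃ₗ[F] V)}
    (hK : ∀ {r : V ≃ₗ[F] V} {a : V}, IsRefl r Q a → r ∈ K) : oGroup Q ≤ K := by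
  intro g hg
  obtain ⟨k, hk, -, hkg⟩ := witt hQ (full_of_refl hQ h hK) ⊤ (g.toLinearMap.comp (⊤ : Submodule F V).subtype)
    (g.injective.comp Subtype.val_injective) (fun x => hg x)
  rwa [show g = k from LinearEquiv.ext fun x => (hkg ⟨x, trivial⟩).symm]

variable {ι : Type} [Fintype ι] [DecidableEq ι]

/-- The isometry group is generated by its reflections. -/
theorem closure_reflections_eq_top [Fintype F] (Q : QuadraticForm F (ι → F))
    (hQ : (polarBilin Q).Nondegenerate) (h : Fintype.card F ≠ 2 ∨ Fintype.card ι ≠ 4) :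
    Subgroup.closure {g : ↥(Cfsg.isometryGroup F (⇑Q)) | ∃ v : ι → F, Q v ≠ 0 ∧
      ((g : GL ι F) : Matrix ι ι F) = Cfsg.reflectionMatrix (⇑Q) v} = ⊤ := by
  set S := Subgroup.closure {g : ↥(Cfsg.isometryGroup F (⇑Q)) | ∃ v : ι → F, Q v ≠ 0 ∧
      ((g : GL ι F) : Matrix ι ι F) = Cfsg.reflectionMatrix (⇑Q) v}
  rw [eq_top_iff]
  intro g _
  have hle := oGroup_le_of_refl hQ (by rwa [Module.finrank_fintype_fun_eq_card])
    (K := S.map ((oGroup Q).subtype.comp (isoEquiv Q).toMonoidHom)) fun {r a} hr => by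
      refine ⟨(isoEquiv Q).symm ⟨r, hr.mem⟩, Subgroup.subset_closure ⟨a, hr.1,
        (eq_reflectionMatrix_iff Q hr.1 _).2 ?_⟩, by simp⟩
      rwa [MulEquiv.apply_symm_apply]
  obtain ⟨s, hs, hsg⟩ := hle (isoEquiv Q g).2
  rwa [← (isoEquiv Q).injective (Subtype.ext hsg)]

end Cfsg.Agent.Orth
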