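/-
Parity and spinor norm of isometries through the Clifford algebra, in every characteristic.
-/
import Cfsg.Agent.Lib.Orthogonal.Generation
import Mathlib.LinearAlgebra.CliffordAlgebra.Contraction
import Mathlib.LinearAlgebra.CliffordAlgebra.Grading
import Mathlib.LinearAlgebra.QuadraticForm.Basis
import Mathlib.LinearAlgebra.ExteriorAlgebra.Basic
import Mathlib.GroupTheory.QuotientGroup.Basic

set_option autoImplicit false

namespace Cfsg.Agent.Orth

open QuadraticMap Module CliffordAlgebra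

variable {F V : Type*} [Field F] [AddCommGroup V] [Module F V] {Q : QuadraticForm F V}

/-- Scalars embed in the Clifford algebra of a finite-dimensional space. -/
theorem clifford_nontrivial [FiniteDimensional F V] : Nontrivial (CliffordAlgebra Q) := by
  let B : LinearMap.BilinForm F V := -(Q.toBilin (Module.finBasis F V))
  have hB : B.toQuadraticMap = (0 : QuadraticForm F V) - Q := by
    rw [LinearMap.BilinMap.toQuadraticMap_neg, QuadraticMap.toQuadraticMap_toBilin, zero_sub]
  refine ⟨⟨0, 1, fun h => ?_⟩⟩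
  have h1 := congrArg (changeForm hB) h
  rw [map_zero, changeForm_one] at h1
  haveI : Nontrivial (CliffordAlgebra (0 : QuadraticForm F V)) :=
    inferInstanceAs (Nontrivial (ExteriorAlgebra F V))
  exact zero_ne_one h1

theorem clifford_algebraMap_inj [FiniteDimensional F V] :
    Function.Injective (algebraMap F (CliffordAlgebra Q)) := by
  haveI := clifford_nontrivial (Q := Q)
  exact RingHom.injective _

/-- The span of the ordered monomials in a list of vectors. -/
def monomials (Q : QuadraticForm F V) : List V → Submodule F (CliffordAlgebra Q)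
  | [] => 1
  | v :: l => monomials Q l ⊔ (monomials Q l).map (LinearMap.mulLeft F (CliffordAlgebra.ι Q v))

theorem monomials_mul_mem : ∀ (l : List V) {v : V}, v ∈ l → ∀ x ∈ monomials Q l,
    CliffordAlgebra.ι Q v * x ∈ monomials Q l
  | [], v, hv, _, _ => absurd hv (List.not_mem_nil)
  | w :: l, v, hv, x, hx => by
    obtain ⟨y, hy, z', hz', rfl⟩ := Submodule.mem_sup.1 hx
    obtain ⟨z, hz, rfl⟩ := hz'
    rw [LinearMap.mulLeft_apply, mul_add]
    rcases List.mem_cons.1 hv with rfl | hv
    · rw [← mul_assoc, ι_sq_scalar, ← Algebra.smul_def]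
      exact add_mem (Submodule.mem_sup_right ⟨y, hy, rfl⟩)
        (Submodule.mem_sup_left (Submodule.smul_mem _ _ hz))
    · refine add_mem (Submodule.mem_sup_left (monomials_mul_mem l hv y hy)) ?_
      rw [← mul_assoc, ι_mul_ι_comm, sub_mul, mul_assoc, ← Algebra.smul_def]
      exact sub_mem (Submodule.mem_sup_left (Submodule.smul_mem _ _ hz))
        (Submodule.mem_sup_right ⟨_, monomials_mul_mem l hv z hz, rfl⟩)

theorem monomials_scalar : ∀ (l : List V) (r : F), algebraMap F (CliffordAlgebra Q) r ∈ monomials Q l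
  | [], r => Submodule.mem_one.2 ⟨r, rfl⟩
  | _ :: l, r => Submodule.mem_sup_left (monomials_scalar l r)

theorem contract_monomials : ∀ (l : List V) (d : Module.Dual F V), (∀ v ∈ l, d v = 0) → ∀ x ∈ monomials Q l,
    contractLeft (Q := Q) d x = 0
  | [], d, _, x, hx => by
    obtain ⟨r, rfl⟩ := Submodule.mem_one.1 hx
    exact contractLeft_algebraMap Q d r
  | w :: l, d, hd, x, hx => by
    obtain ⟨y, hy, z', hz', rfl⟩ := Submodule.mem_sup.1 hx
    obtain ⟨z, hz, rfl⟩ := hz'
    have ih := contract_monomials l d fun v hv => hd v (List.mem_cons_of_mem _ hv)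
    rw [map_add, LinearMap.mulLeft_apply, contractLeft_ι_mul, ih y hy, ih z hz,
      hd w List.mem_cons_self, mul_zero, zero_smul, sub_zero, add_zero]

theorem scalar_of_contract {n : ℕ} (b : Basis (Fin n) F V) : ∀ (l : List (Fin n)), l.Nodup →
    ∀ x ∈ monomials Q (l.map b), (∀ d : Module.Dual F V, contractLeft (Q := Q) d x = 0) →
      x ∈ (1 : Submodule F (CliffordAlgebra Q))
  | [], _, x, hx, _ => hx
  | i :: l, hnd, x, hx, h => by
    obtain ⟨y, hy, z', hz', rfl⟩ := Submodule.mem_sup.1 hx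
    obtain ⟨z, hz, rfl⟩ := hz'
    obtain ⟨hil, hl⟩ := List.nodup_cons.1 hnd
    have hd : ∀ v ∈ l.map b, b.coord i v = 0 := by
      intro v hv
      obtain ⟨j, hj, rfl⟩ := List.mem_map.1 hv
      simp only [Basis.coord_apply, Basis.repr_self]
      exact Finsupp.single_eq_of_ne (fun hji => hil (hji ▸ hj))
    have h0 := h (b.coord i)
    rw [map_add, LinearMap.mulLeft_apply, contractLeft_ι_mul, contract_monomials _ _ hd y hy,
      contract_monomials _ _ hd z hz, mul_zero, sub_zero, zero_add] at h0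
    have hz0 : z = 0 := by simpa using h0
    rw [hz0, map_zero, add_zero] at h ⊢
    exact scalar_of_contract b l hl y hy h

/-- An element killed by all contractions is a scalar. -/
theorem exists_scalar [FiniteDimensional F V] (x : CliffordAlgebra Q)
    (h : ∀ d : Module.Dual F V, contractLeft (Q := Q) d x = 0) :
    ∃ r : F, x = algebraMap F (CliffordAlgebra Q) r := by
  let b := Module.finBasis F V
  obtain ⟨r, hr⟩ := Submodule.mem_one.1 (scalar_of_contract b (List.finRange (finrank F V))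
    (List.nodup_finRange _) x (by
      clear h
      induction x using CliffordAlgebra.left_induction with
      | algebraMap r => exact monomials_scalar _ r
      | add a c ha hc => exact add_mem ha hc
      | ι_mul a m ha =>
        rw [← b.sum_repr m, map_sum, Finset.sum_mul]
        refine sum_mem fun i _ => ?_
        rw [map_smul, smul_mul_assoc]
        exact Submodule.smul_mem _ _
          (monomials_mul_mem _ (List.mem_map.2 ⟨i, List.mem_finRange i, rfl⟩) _ ha)) h)
  exact ⟨r, hr.symm⟩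

theorem ι_mul_eq_contract (v : V) (x : CliffordAlgebra Q) :
    CliffordAlgebra.ι Q v * x = involute x * CliffordAlgebra.ι Q v + contractLeft (polarBilin Q v) x := by
  induction x using CliffordAlgebra.left_induction with
  | algebraMap r => simp [Algebra.commutes]
  | add a b ha hb => rw [mul_add, ha, hb, map_add, map_add, add_mul]; abel
  | ι_mul a m ha =>
    rw [← mul_assoc, ι_mul_ι_comm, sub_mul, mul_assoc, ha, map_mul, involute_ι, contractLeft_ι_mul,
      ← Algebra.smul_def, polarBilin_apply_apply]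
    simp only [mul_add, neg_mul, mul_assoc]
    abel

/-- The sign attached to a parity. -/
def sgn (F : Type*) [Field F] (ε : ZMod 2) : F := if ε = 0 then 1 else -1

theorem sgn_add : ∀ ε δ : ZMod 2, sgn F (ε + δ) = sgn F ε * sgn F δ := by
  intro ε δ
  have h : ∀ e : ZMod 2, e = 0 ∨ e = 1 := by decide
  rcases h ε with rfl | rfl <;> rcases h δ with rfl | rfl <;>
    simp [sgn, show (1 : ZMod 2) + 1 = 0 from rfl]

/-- x is a lift of g with parity ε and norm c. -/
def IsLift (Q : QuadraticForm F V) (g : V ≃ₗ[F] V) (ε : ZMod 2) (c : Fˣ) (x : CliffordAlgebra Q) : Prop :=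
  x ∈ evenOdd Q ε ∧ x * reverse x = algebraMap F _ (c : F) ∧
    ∀ w, x * CliffordAlgebra.ι Q w = sgn F ε • (CliffordAlgebra.ι Q (g w) * x)

theorem isLift_one : IsLift Q 1 0 1 1 :=
  ⟨SetLike.one_mem_graded (evenOdd Q), by simp, fun w => by simp [sgn]⟩

theorem IsLift.mul {g h : V ≃ₗ[F] V} {ε δ : ZMod 2} {c d : Fˣ} {x y : CliffordAlgebra Q}
    (hx : IsLift Q g ε c x) (hy : IsLift Q h δ d y) : IsLift Q (g * h) (ε + δ) (c * d) (x * y) := by
  obtain ⟨hx1, hx2, hx3⟩ := hx
  obtain ⟨hy1, hy2, hy3⟩ := hy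
  refine ⟨SetLike.mul_mem_graded hx1 hy1, ?_, fun w => ?_⟩
  · rw [reverse.map_mul, mul_assoc, ← mul_assoc y, hy2, ← mul_assoc, ← Algebra.commutes, mul_assoc, hx2,
      ← map_mul, Units.val_mul, mul_comm]
  · rw [mul_assoc, hy3, mul_smul_comm, ← mul_assoc, hx3, smul_mul_assoc, smul_smul, mul_assoc, sgn_add,
      mul_comm (sgn F ε), LinearEquiv.mul_apply]

theorem isLift_refl {r : V ≃ₗ[F] V} {v : V} (hr : IsRefl r Q v) :
    IsLift Q r 1 (Units.mk0 _ hr.1) (CliffordAlgebra.ι Q v) := by
  refine ⟨ι_mem_evenOdd_one Q v, by rw [reverse_ι, ι_sq_scalar, Units.val_mk0], fun w => ?_⟩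
  have hv := hr.1
  rw [hr.2, sgn, if_neg one_ne_zero, map_sub, map_smul, sub_mul, smul_mul_assoc, ι_sq_scalar,
    ι_mul_ι_comm v w, b_comm v w, Algebra.algebraMap_eq_smul_one,
    Algebra.algebraMap_eq_smul_one, smul_smul, div_mul_cancel₀ _ hv, neg_one_smul]
  abel

variable (F) in
/-- Square classes. -/
abbrev SqCls : Type _ := Fˣ ⧸ (powMonoidHom 2 : Fˣ →* Fˣ).range

variable (F) in
/-- The class of a non-zero scalar (and 1 for zero). -/
noncomputable def sqc (c : F) : SqCls F := by
  classical exact if h : c = 0 then 1 else QuotientGroup.mk (Units.mk0 c h)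

theorem sqc_of_ne {c : F} (h : c ≠ 0) : sqc F c = QuotientGroup.mk (Units.mk0 c h) := by
  rw [sqc, dif_neg h]

theorem sqc_unit (u : Fˣ) : sqc F (u : F) = QuotientGroup.mk u := by
  rw [sqc_of_ne u.ne_zero, Units.mk0_val]

theorem sqc_mul {a b : F} (ha : a ≠ 0) (hb : b ≠ 0) : sqc F (a * b) = sqc F a * sqc F b := by
  rw [sqc_of_ne ha, sqc_of_ne hb, sqc_of_ne (mul_ne_zero ha hb), ← QuotientGroup.mk_mul, Units.mk0_mul]

theorem sqc_one : sqc F (1 : F) = 1 := by
  rw [sqc_of_ne one_ne_zero, Units.mk0_one, QuotientGroup.mk_one]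

theorem sqc_eq_one_iff {c : F} (h : c ≠ 0) : sqc F c = 1 ↔ IsSquare c := by
  rw [sqc_of_ne h, QuotientGroup.eq_one_iff]
  constructor
  · rintro ⟨u, hu⟩
    exact ⟨(u : F), by rw [← pow_two, ← Units.val_pow_eq_pow_val]; exact (congrArg Units.val hu).symm⟩
  · rintro ⟨t, ht⟩
    have ht0 : t ≠ 0 := fun h0 => h (by rw [ht, h0, mul_zero])
    exact ⟨Units.mk0 t ht0, Units.ext (by simp [ht, pow_two])⟩

theorem sqc_mul_self {c : F} (h : c ≠ 0) : sqc F c * sqc F c = 1 := by
  rw [← sqc_mul h h, sqc_eq_one_iff (mul_ne_zero h h)]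
  exact ⟨c, rfl⟩

/-- The value group of the invariant. -/
abbrev SpinVal (F : Type*) [Field F] : Type _ := Multiplicative (ZMod 2) × SqCls F

/-- The value of the invariant on a reflection. -/
noncomputable def reflVal (Q : QuadraticForm F V) (v : V) : SpinVal F :=
  (Multiplicative.ofAdd 1, sqc F (Q v))

theorem reflVal_mul_self {v : V} (h : Q v ≠ 0) : reflVal Q v * reflVal Q v = 1 :=
  Prod.ext (show Multiplicative.ofAdd (1 : ZMod 2) * Multiplicative.ofAdd 1 = 1 by decide) (sqc_mul_self h)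

/-- The invariant is well defined: a graph subgroup. -/
theorem exists_spinor [FiniteDimensional F V] [Fintype F] (hQ : (polarBilin Q).Nondegenerate)
    (h : Fintype.card F ≠ 2 ∨ finrank F V ≠ 4) :
    ∃ χ : oGroup Q →* SpinVal F, ∀ (r : oGroup Q) (v : V), IsRefl r.1 Q v → χ r = reflVal Q v := by
  let S : Set (oGroup Q × SpinVal F) := {p | ∃ v, IsRefl p.1.1 Q v ∧ p.2 = reflVal Q v}
  let Φ := Subgroup.closure S
  have hinv : ∀ p ∈ S, p⁻¹ = p := by
    rintro ⟨r, c⟩ ⟨v, hv, rfl⟩
    exact inv_eq_of_mul_eq_one_left (Prod.ext (Subtype.ext hv.mul_self) (reflVal_mul_self hv.1))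
  have hlift : ∀ p ∈ Φ, ∃ (x : CliffordAlgebra Q) (c : Fˣ), IsLift Q p.1.1 (Multiplicative.toAdd p.2.1) c x ∧
      p.2.2 = QuotientGroup.mk c := by
    intro p hp
    induction hp using Subgroup.closure_induction_left with
    | one => exact ⟨1, 1, isLift_one, rfl⟩
    | mul_left p hp q _ hq =>
      obtain ⟨v, hv, hpv⟩ := hp
      obtain ⟨x, c, hx, hc⟩ := hq
      refine ⟨CliffordAlgebra.ι Q v * x, Units.mk0 _ hv.1 * c, ?_, ?_⟩
      · have h1 := (isLift_refl hv).mul hx
        rw [show Multiplicative.toAdd (p * q).2.1 = 1 + Multiplicative.toAdd q.2.1 by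
          rw [Prod.snd_mul, Prod.fst_mul, hpv]; rfl]
        exact h1
      · rw [Prod.snd_mul, Prod.snd_mul, hpv, hc, QuotientGroup.mk_mul, reflVal, sqc_of_ne hv.1]
    | inv_mul_cancel p hp q _ hq =>
      rw [hinv p hp]
      obtain ⟨v, hv, hpv⟩ := hp
      obtain ⟨x, c, hx, hc⟩ := hq
      refine ⟨CliffordAlgebra.ι Q v * x, Units.mk0 _ hv.1 * c, ?_, ?_⟩
      · have h1 := (isLift_refl hv).mul hx
        rw [show Multiplicative.toAdd (p * q).2.1 = 1 + Multiplicative.toAdd q.2.1 by
          rw [Prod.snd_mul, Prod.fst_mul, hpv]; rfl]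
        exact h1
      · rw [Prod.snd_mul, Prod.snd_mul, hpv, hc, QuotientGroup.mk_mul, reflVal, sqc_of_ne hv.1]
  have hker : ∀ p ∈ Φ, p.1 = 1 → p.2 = 1 := by
    intro p hp hp1
    obtain ⟨x, c, ⟨hx1, hx2, hx3⟩, hc⟩ := hlift p hp
    obtain ⟨ε, hε⟩ : ∃ ε, Multiplicative.toAdd p.2.1 = ε := ⟨_, rfl⟩
    rw [hε] at hx1 hx3
    rw [hp1] at hx3
    have hinvol : involute x = sgn F ε • x := by
      rcases (show ∀ e : ZMod 2, e = 0 ∨ e = 1 by decide) ε with rfl | rfl
      · rw [involute_eq_of_mem_even hx1, sgn, if_pos rfl, one_smul]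
      · rw [involute_eq_of_mem_odd hx1, sgn, if_neg one_ne_zero, neg_one_smul]
    have hsq : sgn F ε * sgn F ε = 1 := by unfold sgn; split <;> simp
    obtain ⟨r, hr⟩ := exists_scalar x fun d => by
      obtain ⟨y, hy⟩ := exists_rep hQ d
      have hd : d = polarBilin Q y := LinearMap.ext fun z => by
        rw [polarBilin_apply_apply, b_comm, hy]
      have h1 := ι_mul_eq_contract y x
      rw [hinvol, smul_mul_assoc, hx3, smul_smul, hsq, one_smul] at h1
      rw [hd]
      exact left_eq_add.1 h1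
    have hc0 : (c : F) = r * r := by
      apply clifford_algebraMap_inj (Q := Q)
      rw [map_mul, ← hx2, hr, reverse.commutes]
    have hr0 : r ≠ 0 := fun h0 => c.ne_zero (by rw [hc0, h0, mul_zero])
    have hε0 : ε = 0 := by
      rcases (show ∀ e : ZMod 2, e = 0 ∨ e = 1 by decide) ε with rfl | rfl
      · rfl
      · exfalso
        have hx0 : x ∈ evenOdd Q 0 := by
          rw [hr, Algebra.algebraMap_eq_smul_one]
          exact Submodule.smul_mem _ _ (SetLike.one_mem_graded (evenOdd Q))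
        have h0 := Submodule.disjoint_def.1 (evenOdd_isCompl (Q := Q)).disjoint x hx0 hx1
        rw [hr, ← map_zero (algebraMap F (CliffordAlgebra Q))] at h0
        exact hr0 (clifford_algebraMap_inj h0)
    refine Prod.ext ?_ ?_
    · exact Multiplicative.toAdd.injective (hε.trans hε0)
    · rw [hc, ← sqc_unit, show (1 : SpinVal F).2 = 1 from rfl, sqc_eq_one_iff c.ne_zero]
      exact ⟨r, hc0⟩
  have hsurj : ∀ g : oGroup Q, ∃ c, (g, c) ∈ Φ := by
    intro g
    have hle := oGroup_le_of_refl hQ h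
      (K := (Φ.map (MonoidHom.fst _ _)).map (oGroup Q).subtype) fun {r a} hr =>
        ⟨⟨r, hr.mem⟩, ⟨(⟨r, hr.mem⟩, reflVal Q a), Subgroup.subset_closure ⟨a, hr, rfl⟩, rfl⟩, rfl⟩
    obtain ⟨g', ⟨⟨g'', c⟩, hgc, hg''⟩, hg'⟩ := hle g.2
    refine ⟨c, ?_⟩
    have he : g'' = g := hg''.trans (Subtype.ext hg')
    exact he ▸ hgc
  choose χ hχ using hsurj
  have huniq : ∀ g c, (g, c) ∈ Φ → χ g = c := fun g c hgc => by
    have h1 := hker _ (Φ.mul_mem (Φ.inv_mem hgc) (hχ g)) (by simp)
    exact (inv_mul_eq_one.1 h1).symm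
  refine ⟨MonoidHom.mk' χ fun a b => huniq _ _ (Φ.mul_mem (hχ a) (hχ b)), fun r v hr =>
    huniq _ _ (Subgroup.subset_closure ⟨v, hr, rfl⟩)⟩

end Cfsg.Agent.Orth
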