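/-
The commutator subgroup of a finite orthogonal group is the kernel of parity and spinor norm.
-/
import Cfsg.Agent.Lib.Orthogonal.Spinor
import Mathlib.GroupTheory.Abelianization.Defs
import Mathlib.GroupTheory.Index

set_option autoImplicit false

namespace Cfsg.Agent.Orth

open QuadraticMap Module

variable {F V : Type*} [Field F] [AddCommGroup V] [Module F V] {Q : QuadraticForm F V}

theorem IsRefl.eq {r r' : V ≃ₗ[F] V} {v : V} (h : IsRefl r Q v) (h' : IsRefl r' Q v) : r = r' :=
  LinearEquiv.ext fun x => by rw [h.2, h'.2]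

theorem IsRefl.smul {r : V ≃ₗ[F] V} {v : V} (h : IsRefl r Q v) {t : F} (ht : t ≠ 0) : IsRefl r Q (t • v) := by
  have hv := h.1
  refine ⟨by rw [q_smul]; exact mul_ne_zero (mul_ne_zero ht ht) hv, fun x => ?_⟩
  rw [h.2, q_smul, b_smul_right, smul_smul]
  congr 2
  field_simp

theorem IsRefl.conj {r g : V ≃ₗ[F] V} {v : V} (h : IsRefl r Q v) (hg : g ∈ oGroup Q) :
    IsRefl (g * r * g⁻¹) Q (g v) := by
  refine ⟨by rw [hg]; exact h.1, fun x => ?_⟩
  rw [LinearEquiv.mul_apply, LinearEquiv.mul_apply, h.2, map_sub, map_smul, hg]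
  rw [show g (g⁻¹ x) = x from g.apply_symm_apply x]
  congr 3
  rw [← b_map hg, show g (g⁻¹ x) = x from g.apply_symm_apply x]

theorem exists_ne_zero_value [FiniteDimensional F V] [Nontrivial V] (hQ : (polarBilin Q).Nondegenerate) :
    ∃ v, Q v ≠ 0 := by
  by_contra! h
  obtain ⟨v, hv⟩ := exists_ne (0 : V)
  exact hv (eq_zero_of_b hQ fun y => by simp [polar, h])

/-- An orthogonal non-singular companion. -/
theorem exists_orth_value [FiniteDimensional F V] (hQ : (polarBilin Q).Nondegenerate) (h2 : (2 : F) ≠ 0)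
    (hn : 2 ≤ finrank F V) {u : V} (hu : Q u ≠ 0) : ∃ w, polar Q u w = 0 ∧ Q w ≠ 0 := by
  by_contra! h
  have hB : polar Q u u ≠ 0 := by rw [b_self]; exact mul_ne_zero h2 hu
  have hdec : ∀ y, polar Q u (y - (polar Q u y / polar Q u u) • u) = 0 := fun y => by
    rw [b_sub_right, b_smul_right, div_mul_cancel₀ _ hB, sub_self]
  obtain ⟨y, hy⟩ : ∃ y, y - (polar Q u y / polar Q u u) • u ≠ 0 := by
    by_contra! hall
    have htop : (⊤ : Submodule F V) ≤ Submodule.span F {u} := fun y _ =>
      Submodule.mem_span_singleton.2 ⟨_, (sub_eq_zero.1 (hall y)).symm⟩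
    have h1 := Submodule.finrank_mono htop
    rw [finrank_top, finrank_span_singleton (fun h0 => hu (by rw [h0, map_zero]))] at h1
    omega
  set z := y - (polar Q u y / polar Q u u) • u with hz
  have hzu : polar Q u z = 0 := hdec y
  refine hy (eq_zero_of_b hQ fun x => ?_)
  have h1 := hdec x
  have hsum : polar Q u (z + (x - (polar Q u x / polar Q u u) • u)) = 0 := by
    rw [b_add_right, hzu, h1, add_zero]
  have h3 : polar Q z (x - (polar Q u x / polar Q u u) • u) = 0 := by
    rw [polar, h _ hzu, h _ h1, h _ hsum]; ring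
  rwa [b_sub_right, b_smul_right, b_comm z u, hzu, mul_zero, sub_zero] at h3

/-- Every non-zero scalar is a value of a non-degenerate form of rank at least two over a finite field. -/
theorem exists_value [FiniteDimensional F V] [Finite F] (hQ : (polarBilin Q).Nondegenerate)
    (hn : 2 ≤ finrank F V) (c : F) : ∃ v, Q v = c := by
  haveI : Nontrivial V := Module.nontrivial_of_finrank_pos (R := F) (by omega)
  obtain ⟨u, hu⟩ := exists_ne_zero_value hQ
  by_cases h2 : (2 : F) = 0
  · haveI : CharP F 2 := CharTwo.of_one_ne_zero_of_two_eq_zero one_ne_zero h2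
    obtain ⟨t, ht⟩ := (FiniteField.isSquare_of_char_two (ringChar.eq F 2)) (c / Q u)
    exact ⟨t • u, by rw [q_smul, ← ht, div_mul_cancel₀ _ hu]⟩
  · haveI := Fintype.ofFinite F
    obtain ⟨w, huw, hw⟩ := exists_orth_value hQ h2 hn hu
    have hodd : Fintype.card F % 2 = 1 :=
      FiniteField.odd_card_of_char_ne_two (fun h => h2 (by
        haveI := ringChar.of_eq h; exact CharTwo.two_eq_zero))
    obtain ⟨x, y, hxy⟩ := FiniteField.exists_root_sum_quadratic (f := Polynomial.C (Q u) * Polynomial.X ^ 2)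
      (g := Polynomial.C (Q w) * Polynomial.X ^ 2 - Polynomial.C c)
      (by rw [Polynomial.degree_C_mul hu, Polynomial.degree_X_pow]; rfl)
      (by rw [Polynomial.degree_sub_C (by rw [Polynomial.degree_C_mul hw, Polynomial.degree_X_pow]; decide),
        Polynomial.degree_C_mul hw, Polynomial.degree_X_pow]; rfl) hodd
    refine ⟨x • u + y • w, ?_⟩
    rw [q_add, q_smul, q_smul, b_smul_left, b_smul_right, huw]
    simp at hxy
    linear_combination hxy

theorem card_sqCls_le [Finite F] : Nat.card (SqCls F) ≤ 2 ∧ ((2 : F) ≠ 0 → Nat.card (SqCls F) = 2) ∧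
    ((2 : F) = 0 → Nat.card (SqCls F) = 1) := by
  classical
  set f : Fˣ →* Fˣ := powMonoidHom 2 with hf
  have hidx : Nat.card (SqCls F) = Nat.card f.ker := by
    have h1 := f.ker.card_eq_card_quotient_mul_card_subgroup
    rw [Nat.card_congr (QuotientGroup.quotientKerEquivRange f).toEquiv] at h1
    have h2 := f.range.card_eq_card_quotient_mul_card_subgroup
    rw [mul_comm] at h1
    rw [h1] at h2
    exact Nat.eq_of_mul_eq_mul_right Nat.card_pos h2.symm
  have hker : ∀ u : Fˣ, u ∈ f.ker ↔ u = 1 ∨ u = -1 := fun u => by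
    rw [MonoidHom.mem_ker, hf, powMonoidHom_apply]
    constructor
    · intro h
      rcases sq_eq_one_iff.1 (show (u : F) ^ 2 = 1 by rw [← Units.val_pow_eq_pow_val, h, Units.val_one]) with h | h
      · exact Or.inl (Units.ext h)
      · exact Or.inr (Units.ext h)
    · rintro (rfl | rfl) <;> simp
  have hset : (f.ker : Set Fˣ) = {1, -1} := Set.ext fun u => by simpa using hker u
  have hcard : Nat.card f.ker = Set.ncard ({1, -1} : Set Fˣ) := by rw [← hset, ← Nat.card_coe_set_eq]; rfl
  rw [hidx, hcard]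
  refine ⟨(Set.ncard_insert_le _ _).trans (by simp), fun h2 => Set.ncard_pair
    fun h => h2 ?_, fun h2 => ?_⟩
  · have h1 := congrArg Units.val h
    simp at h1
    linear_combination h1
  · rw [show (-1 : Fˣ) = 1 from Units.ext (by simp; linear_combination -h2), Set.pair_eq_singleton,
      Set.ncard_singleton]

/-- The kernel of the invariant is the commutator subgroup, and the invariant is onto. -/
theorem spinor_spec [FiniteDimensional F V] [Fintype F] (hQ : (polarBilin Q).Nondegenerate)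
    (hn : 2 ≤ finrank F V) (h : Fintype.card F ≠ 2 ∨ finrank F V ≠ 4)
    (χ : oGroup Q →* SpinVal F) (hχ : ∀ (r : oGroup Q) (v : V), IsRefl r.1 Q v → χ r = reflVal Q v) :
    χ.ker = commutator (oGroup Q) ∧ Function.Surjective χ := by
  have hval : ∀ c : SqCls F, ∃ (r : oGroup Q) (v : V), IsRefl r.1 Q v ∧ sqc F (Q v) = c := by
    intro c
    obtain ⟨u, rfl⟩ := QuotientGroup.mk_surjective c
    obtain ⟨v, hv⟩ := exists_value hQ hn (u : F)
    obtain ⟨r, hr, hr'⟩ := exists_isRefl (a := v) (Q := Q) (by rw [hv]; exact u.ne_zero)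
    exact ⟨⟨r, hr⟩, v, hr', by rw [hv, sqc_unit]⟩
  have hsurj : Function.Surjective χ := by
    rintro ⟨e, c⟩
    obtain ⟨r, v, hr, hc⟩ := hval c
    obtain ⟨r₁, v₁, hr₁, hc₁⟩ := hval 1
    rcases (show ∀ x : ZMod 2, x = 0 ∨ x = 1 by decide) (Multiplicative.toAdd e) with he | he
    · exact ⟨r₁ * r, by
        rw [map_mul, hχ r v hr, hχ r₁ v₁ hr₁, reflVal, reflVal, Prod.mk_mul_mk, hc, hc₁, one_mul]
        exact Prod.ext (Multiplicative.toAdd.injective (by rw [he]; rfl)) rfl⟩
    · exact ⟨r, by rw [hχ r v hr, reflVal, hc]; exact Prod.ext (Multiplicative.toAdd.injective he.symm) rfl⟩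
  refine ⟨le_antisymm ?_ ?_, hsurj⟩
  swap
  · rw [commutator_def, Subgroup.commutator_le]
    intro a _ b _
    rw [MonoidHom.mem_ker, map_commutatorElement]
    refine commutatorElement_eq_one_iff_commute.2 (Prod.ext (mul_comm _ _) ?_)
    show (χ a).2 * (χ b).2 = (χ b).2 * (χ a).2
    obtain ⟨u, hu⟩ := QuotientGroup.mk_surjective (χ a).2
    obtain ⟨w, hw⟩ := QuotientGroup.mk_surjective (χ b).2
    rw [← hu, ← hw, ← QuotientGroup.mk_mul, ← QuotientGroup.mk_mul, mul_comm]
  choose rep vec hrep hcls using hval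
  let ψ : SqCls F → Abelianization (oGroup Q) := fun c => Abelianization.of (rep c)
  have hψ : ∀ (r : oGroup Q) (v : V), IsRefl r.1 Q v → Abelianization.of r = ψ (sqc F (Q v)) := by
    intro r v hr
    obtain ⟨w, hwdef⟩ : ∃ w, vec (sqc F (Q v)) = w := ⟨_, rfl⟩
    have hw := hrep (sqc F (Q v))
    have hwc := hcls (sqc F (Q v))
    rw [hwdef] at hw hwc
    have hsq : IsSquare (Q v * (Q w)⁻¹) := by
      rw [← sqc_eq_one_iff (mul_ne_zero hr.1 (inv_ne_zero hw.1)), sqc_mul hr.1 (inv_ne_zero hw.1), ← hwc,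
        ← sqc_mul hw.1 (inv_ne_zero hw.1), mul_inv_cancel₀ hw.1, sqc_one]
    obtain ⟨t, ht⟩ := hsq
    have ht0 : t ≠ 0 := fun h0 => mul_ne_zero hr.1 (inv_ne_zero hw.1) (by rw [ht, h0, mul_zero])
    have hw' := hw.smul ht0
    have hqq : Q (t • w) = Q v := by rw [q_smul, ← ht, inv_mul_cancel_right₀ hw.1]
    have hinj : Function.Injective ((LinearMap.toSpanSingleton F V v).comp
        (LinearEquiv.toSpanNonzeroSingleton F V (t • w) (fun h0 => hw'.1 (by rw [h0, map_zero]))).symm.toLinearMap) := by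
      rw [LinearMap.coe_comp]
      exact Function.Injective.comp
        (fun a b hab => smul_left_injective F (fun h0 : v = 0 => hr.1 (by rw [h0, map_zero])) hab)
        (LinearEquiv.injective _)
    obtain ⟨g, -, hg, hgw⟩ := witt hQ full_oGroup (F ∙ (t • w)) _ hinj (by
      intro x
      obtain ⟨s, hs⟩ := Submodule.mem_span_singleton.1 x.2
      have hx : x = LinearEquiv.toSpanNonzeroSingleton F V (t • w) (fun h0 => hw'.1 (by rw [h0, map_zero])) s :=
        Subtype.ext (by rw [← hs]; rfl)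
      rw [LinearMap.comp_apply, LinearEquiv.coe_coe, hx, LinearEquiv.symm_apply_apply, ← hx, ← hs]
      show Q (s • v) = _
      rw [q_smul, q_smul, hqq])
    have hgv : g (t • w) = v := by
      refine (hgw ⟨t • w, Submodule.mem_span_singleton_self _⟩).trans ?_
      rw [LinearMap.comp_apply, LinearEquiv.coe_coe, show (⟨t • w, Submodule.mem_span_singleton_self _⟩ : F ∙ (t • w))
        = LinearEquiv.toSpanNonzeroSingleton F V (t • w) (fun h0 => hw'.1 (by rw [h0, map_zero])) 1 from
          Subtype.ext (one_smul _ _).symm, LinearEquiv.symm_apply_apply]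
      exact one_smul _ _
    have hr2 := hw'.conj hg
    rw [hgv] at hr2
    have he : r = ⟨g, hg⟩ * rep (sqc F (Q v)) * (⟨g, hg⟩ : oGroup Q)⁻¹ := Subtype.ext (hr.eq hr2)
    rw [he, map_mul, map_mul, map_inv, mul_inv_cancel_comm]
  have hψsq : ∀ c, ψ c * ψ c = 1 := fun c => by
    rw [← map_mul, show rep c * rep c = 1 from Subtype.ext (hrep c).mul_self, map_one]
  have hrel : ∀ c d, ψ c * ψ d = ψ 1 * ψ (c * d) := by
    intro c d
    rcases eq_or_ne c 1 with rfl | hc
    · rw [one_mul]
    rcases eq_or_ne d 1 with rfl | hd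
    · rw [mul_one, mul_comm]
    have hle := (card_sqCls_le (F := F)).1
    have hcd : c = d := by
      by_contra hne
      classical
      haveI := Fintype.ofFinite (SqCls F)
      have h3 : ({1, c, d} : Finset (SqCls F)).card = 3 := by
        rw [Finset.card_insert_of_notMem (by simp [hc.symm, hd.symm]), Finset.card_pair hne]
      have h4 := ({1, c, d} : Finset (SqCls F)).card_le_univ
      rw [Nat.card_eq_fintype_card] at hle
      omega
    subst hcd
    have hcc : c * c = 1 := by
      obtain ⟨u, rfl⟩ := QuotientGroup.mk_surjective c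
      rw [← sqc_unit, sqc_mul_self u.ne_zero]
    rw [hψsq, hcc, hψsq]
  let e₀ : Multiplicative (ZMod 2) →* Abelianization (oGroup Q) :=
    MonoidHom.mk' (fun e => if Multiplicative.toAdd e = 0 then 1 else ψ 1) (by
      intro a b
      rw [toAdd_mul]
      rcases (show ∀ x : ZMod 2, x = 0 ∨ x = 1 by decide) (Multiplicative.toAdd a) with ha | ha <;>
        rcases (show ∀ x : ZMod 2, x = 0 ∨ x = 1 by decide) (Multiplicative.toAdd b) with hb | hb <;>
        rw [ha, hb] <;> simp [show (1 : ZMod 2) + 1 = 0 from rfl, hψsq])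
  let e₁ : SqCls F →* Abelianization (oGroup Q) := MonoidHom.mk' (fun c => ψ 1 * ψ c) (fun c d => by
    rw [← hrel, mul_mul_mul_comm, hψsq, one_mul])
  let η : SpinVal F →* Abelianization (oGroup Q) :=
    (e₀.comp (MonoidHom.fst _ _)) * (e₁.comp (MonoidHom.snd _ _))
  have hη : η.comp χ = Abelianization.of := by
    refine MonoidHom.ext fun g => ?_
    have hle := oGroup_le_of_refl hQ h
      (K := (MonoidHom.eqLocus (η.comp χ) Abelianization.of).map (oGroup Q).subtype) fun {r a} hr => by
        refine ⟨⟨r, hr.mem⟩, ?_, rfl⟩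
        show η (χ ⟨r, hr.mem⟩) = Abelianization.of ⟨r, hr.mem⟩
        rw [hχ _ _ hr, hψ _ _ hr]
        show (if (1 : ZMod 2) = 0 then 1 else ψ 1) * (ψ 1 * ψ (sqc F (Q a))) = _
        rw [if_neg one_ne_zero, ← mul_assoc, hψsq, one_mul]
    obtain ⟨g', hg', hgg⟩ := hle g.2
    rw [← show g' = g from Subtype.ext hgg]
    exact hg'
  intro g hg
  rw [← Abelianization.ker_of, MonoidHom.mem_ker, ← hη, MonoidHom.comp_apply, MonoidHom.mem_ker.1 hg, map_one]

variable {ι : Type} [Fintype ι] [DecidableEq ι]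

/-- The invariant on the matrix isometry group: onto, with kernel Ω. -/
theorem exists_matrix_spinor [Fintype F] (Q : QuadraticForm F (ι → F)) (hQ : (polarBilin Q).Nondegenerate)
    (hn : 2 ≤ Fintype.card ι) (h : Fintype.card F ≠ 2 ∨ Fintype.card ι ≠ 4) :
    ∃ χ : Cfsg.isometryGroup F (⇑Q) →* SpinVal F, χ.ker = Cfsg.Omega F (⇑Q) ∧ Function.Surjective χ ∧
      ∀ (g : Cfsg.isometryGroup F (⇑Q)) (v : ι → F), Q v ≠ 0 →
        ((g : GL ι F) : Matrix ι ι F) = Cfsg.reflectionMatrix (⇑Q) v → χ g = reflVal Q v := by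
  rw [← Module.finrank_fintype_fun_eq_card (η := ι) F] at hn h
  obtain ⟨χ, hχ⟩ := exists_spinor hQ h
  obtain ⟨hker, hsurj⟩ := spinor_spec hQ hn h χ hχ
  refine ⟨χ.comp (isoEquiv Q).toMonoidHom, ?_, hsurj.comp (isoEquiv Q).surjective,
    fun g v hv hg => hχ _ _ ((eq_reflectionMatrix_iff Q hv g).1 hg)⟩
  rw [← MonoidHom.comap_ker, hker]
  show _ = commutator _
  rw [commutator_def, commutator_def]
  apply Subgroup.map_injective (f := (isoEquiv Q).toMonoidHom) (isoEquiv Q).injective
  rw [Subgroup.map_comap_eq_self_of_surjective (isoEquiv Q).surjective, Subgroup.map_commutator,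
    Subgroup.map_top_of_surjective _ (isoEquiv Q).surjective]

theorem card_spinVal [Finite F] :
    ((2 : F) ≠ 0 → Nat.card (SpinVal F) = 4) ∧ ((2 : F) = 0 → Nat.card (SpinVal F) = 2) := by
  refine ⟨fun h => ?_, fun h => ?_⟩
  · rw [Nat.card_prod, (card_sqCls_le).2.1 h]; simp
  · rw [Nat.card_prod, (card_sqCls_le).2.2 h]; simp

end Cfsg.Agent.Orth
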