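/-
Index-two subgroups, reflection classes and the centre element -1 in finite orthogonal groups.
-/
import Cfsg.Agent.Lib.Orthogonal.OmegaIndex

set_option autoImplicit false

namespace Cfsg.Agent.Orth

open QuadraticMap Module
open scoped commutatorElement

theorem commutator_le_of_gen {G : Type*} [Group G] {S : Set G} (hS : Subgroup.closure S = ⊤) (N : Subgroup G)
    [N.Normal] (h : ∀ a ∈ S, ∀ b ∈ S, ⁅a, b⁆ ∈ N) : commutator G ≤ N := by
  let π := QuotientGroup.mk' N
  have hc : ∀ a ∈ S, ∀ b ∈ S, π a * π b = π b * π a := fun a ha b hb =>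
    commutatorElement_eq_one_iff_mul_comm.1 (by
      rw [← map_commutatorElement, QuotientGroup.mk'_apply, QuotientGroup.eq_one_iff]; exact h a ha b hb)
  have h1 : ∀ a ∈ S, ∀ g, π a * π g = π g * π a := by
    intro a ha g
    have hle : Subgroup.closure S ≤ (Subgroup.centralizer {π a}).comap π :=
      (Subgroup.closure_le _).2 fun b hb => Subgroup.mem_centralizer_singleton_iff.2 (hc b hb a ha)
    have hg := hle (hS ▸ Subgroup.mem_top g)
    exact (Subgroup.mem_centralizer_singleton_iff.1 hg).symm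
  rw [commutator_def, Subgroup.commutator_le]
  intro g _ k _
  have hle : Subgroup.closure S ≤ (Subgroup.centralizer {π k}).comap π :=
    (Subgroup.closure_le _).2 fun a ha => Subgroup.mem_centralizer_singleton_iff.2 (h1 a ha k)
  have hg := hle (hS ▸ Subgroup.mem_top g)
  rw [← QuotientGroup.eq_one_iff (N := N), ← QuotientGroup.mk'_apply, map_commutatorElement]
  exact commutatorElement_eq_one_iff_mul_comm.2 (Subgroup.mem_centralizer_singleton_iff.1 hg)

theorem normal_closure_of_conj {G : Type*} [Group G] {S : Set G} (h : ∀ g, ∀ s ∈ S, g * s * g⁻¹ ∈ S) :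
    (Subgroup.closure S).Normal := by
  refine ⟨fun n hn g => ?_⟩
  have : (Subgroup.closure S).map (MulAut.conj g).toMonoidHom ≤ Subgroup.closure S := by
    rw [MonoidHom.map_closure, Subgroup.closure_le]
    rintro _ ⟨s, hs, rfl⟩
    exact Subgroup.subset_closure (h g s hs)
  exact this ⟨n, hn, rfl⟩

/-- The squares of elements of a normal subgroup generate a normal subgroup. -/
theorem sq_closure_normal {G : Type*} [Group G] (K : Subgroup G) [hK : K.Normal] :
    (Subgroup.closure {y | ∃ x ∈ K, x * x = y}).Normal :=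
  normal_closure_of_conj fun g s ⟨x, hx, hxs⟩ =>
    ⟨g * x * g⁻¹, hK.conj_mem x hx g, by rw [← hxs]; group⟩

section Plane

variable {F V : Type*} [Field F] [AddCommGroup V] [Module F V] [FiniteDimensional F V] {Q : QuadraticForm F V}

/-- An isometry fixing a non-singular vector and the orthogonal of a non-degenerate plane through it. -/
theorem fix_plane (hQ : (polarBilin Q).Nondegenerate) (h2 : (2 : F) ≠ 0) {a w : V} (ha : Q a ≠ 0) (hw : Q w ≠ 0)
    (haw : polar Q a w = 0) {g : V ≃ₗ[F] V} (hg : g ∈ oGroup Q) (hga : g a = a)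
    (hfix : ∀ x, polar Q a x = 0 → polar Q w x = 0 → g x = x) : g = 1 ∨ IsRefl g Q w := by
  have hBa : polar Q a a ≠ 0 := by rw [b_self]; exact mul_ne_zero h2 ha
  have hBw : polar Q w w ≠ 0 := by rw [b_self]; exact mul_ne_zero h2 hw
  set p : V → V := fun x => x - (polar Q a x / polar Q a a) • a - (polar Q w x / polar Q w w) • w with hp
  have hpa : ∀ x, polar Q a (p x) = 0 := fun x => by
    rw [hp]; simp only [b_sub_right, b_smul_right, haw, div_mul_cancel₀ _ hBa]; ring
  have hpw : ∀ x, polar Q w (p x) = 0 := fun x => by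
    rw [hp]; simp only [b_sub_right, b_smul_right, b_comm w a, haw, div_mul_cancel₀ _ hBw]; ring
  have hdec : ∀ x, g x = (polar Q a x / polar Q a a) • a + (polar Q w x / polar Q w w) • g w + p x := fun x => by
    have hx : x = (polar Q a x / polar Q a a) • a + (polar Q w x / polar Q w w) • w + p x := by
      rw [hp]; module
    conv_lhs => rw [hx]
    rw [map_add, map_add, map_smul, map_smul, hga, hfix _ (hpa x) (hpw x)]
  obtain ⟨t, ht⟩ : ∃ t, polar Q w (g w) / polar Q w w = t := ⟨_, rfl⟩
  have hgw : g w = t • w := by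
    have h1 : polar Q a (g w) = 0 := by
      have h := b_map hg a w
      rwa [hga, haw] at h
    have h0 : p (g w) = 0 := eq_zero_of_b hQ fun y => by
      have hy : y = (polar Q a y / polar Q a a) • a + (polar Q w y / polar Q w w) • w + p y := by rw [hp]; module
      have h3 : polar Q (p (g w)) (p y) = 0 := by
        have h4 : polar Q (g w) (p y) = 0 := by
          have h := b_map hg w (p y)
          rwa [hfix _ (hpa y) (hpw y), hpw] at h
        calc polar Q (p (g w)) (p y) = polar Q (g w) (p y) - (polar Q a (g w) / polar Q a a) * polar Q a (p y)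
              - (polar Q w (g w) / polar Q w w) * polar Q w (p y) := by
              rw [hp]; simp only [b_sub_left, b_smul_left]
          _ = 0 := by rw [h4, hpa, hpw]; ring
      rw [hy, b_add_right, b_add_right, b_smul_right, b_smul_right, h3, b_comm (p (g w)) a, b_comm (p (g w)) w, hpa, hpw]
      ring
    rw [hp] at h0
    simp only [h1, zero_div, zero_smul, sub_zero, ht] at h0
    exact sub_eq_zero.1 h0
  have htt : t * t = 1 := by
    have h := hg w
    rw [hgw, q_smul] at h
    exact mul_right_cancel₀ hw (by rw [h, one_mul])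
  rcases mul_self_eq_one_iff.1 htt with rfl | rfl
  · refine Or.inl (LinearEquiv.ext fun x => ?_)
    rw [hdec, hgw, one_smul, hp, LinearEquiv.coe_one, id]
    module
  · refine Or.inr ⟨hw, fun x => ?_⟩
    rw [hdec, hgw, hp, b_comm x w, b_self (Q := Q) w]
    match_scalars <;> field_simp <;> ring

theorem exists_sum_sq [Finite F] (h2 : (2 : F) ≠ 0) {α β : F} (hα : α ≠ 0) (hβ : β ≠ 0) (c : F) :
    ∃ x y : F, α * x ^ 2 + β * y ^ 2 = c := by
  haveI := Fintype.ofFinite F
  have hodd : Fintype.card F % 2 = 1 := FiniteField.odd_card_of_char_ne_two (fun h => h2 (by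
    haveI := ringChar.of_eq h; exact CharTwo.two_eq_zero))
  obtain ⟨x, y, hxy⟩ := FiniteField.exists_root_sum_quadratic (f := Polynomial.C α * Polynomial.X ^ 2)
    (g := Polynomial.C β * Polynomial.X ^ 2 - Polynomial.C c)
    (by rw [Polynomial.degree_C_mul hα, Polynomial.degree_X_pow]; rfl)
    (by rw [Polynomial.degree_sub_C (by rw [Polynomial.degree_C_mul hβ, Polynomial.degree_X_pow]; decide),
      Polynomial.degree_C_mul hβ, Polynomial.degree_X_pow]; rfl) hodd
  simp at hxy
  exact ⟨x, y, by linear_combination hxy⟩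

/-- Two reflections of equal norm with non-degenerate plane multiply to a product of two reflections of norm class c. -/
theorem exists_refl_pair [Fintype F] (hQ : (polarBilin Q).Nondegenerate) (h2 : (2 : F) ≠ 0)
    {χ : oGroup Q →* SpinVal F} (hχ : ∀ (r : oGroup Q) (v : V), IsRefl r.1 Q v → χ r = reflVal Q v)
    {r r' : oGroup Q} {u v : V} {d c : F} (hr : IsRefl r.1 Q u) (hr' : IsRefl r'.1 Q v) (hu : Q u = d)
    (hv : Q v = d) (hdet : polar Q u v ^ 2 ≠ 4 * d * d) (hc : c ≠ 0) :
    ∃ (s s' : oGroup Q) (a b : V), IsRefl s.1 Q a ∧ IsRefl s'.1 Q b ∧ Q a = c ∧ sqc F (Q b) = sqc F c ∧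
      r * r' = s * s' := by
  have hd : d ≠ 0 := hu ▸ hr.1
  have h2d : 2 * d ≠ 0 := mul_ne_zero h2 hd
  obtain ⟨w, hwdef⟩ : ∃ w, v - (polar Q u v / (2 * d)) • u = w := ⟨_, rfl⟩
  obtain ⟨e, he⟩ : ∃ e, d - polar Q u v ^ 2 / (4 * d) = e := ⟨_, rfl⟩
  have h4d : (4 : F) * d ≠ 0 := by
    rw [show (4 : F) = 2 * 2 by norm_num]; exact mul_ne_zero (mul_ne_zero h2 h2) hd
  have he0 : e ≠ 0 := fun h => hdet (by
    rw [← he, sub_eq_zero, eq_div_iff h4d] at h; linear_combination -h)
  have huw : polar Q u w = 0 := by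
    rw [← hwdef, b_sub_right, b_smul_right, b_self, hu, div_mul_cancel₀ _ h2d, sub_self]
  have hw : Q w = e := by
    rw [← hwdef, q_sub, q_smul, b_smul_right, b_comm v u, hu, hv, ← he]
    have h4 : (4 : F) ≠ 0 := fun h => h4d (by rw [h, zero_mul])
    field_simp
    ring
  obtain ⟨x, y, hxy⟩ := exists_sum_sq h2 hd he0 c
  obtain ⟨a, ha⟩ : ∃ a, x • u + y • w = a := ⟨_, rfl⟩
  obtain ⟨a', ha'⟩ : ∃ a', (-(y * e)) • u + (x * d) • w = a' := ⟨_, rfl⟩
  have hqa : Q a = c := by
    rw [← ha, q_add, q_smul, q_smul, b_smul_left, b_smul_right, huw, hu, hw]; linear_combination hxy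
  have hqa' : Q a' = d * e * c := by
    rw [← ha', q_add, q_smul, q_smul, b_smul_left, b_smul_right, huw, hu, hw]; linear_combination (d * e) * hxy
  have haa' : polar Q a a' = 0 := by
    simp only [← ha, ← ha', b_add_left, b_add_right, b_smul_left, b_smul_right, b_self, b_comm w u, huw, hu, hw]
    ring
  have hspan : ∀ z, polar Q a z = 0 → polar Q a' z = 0 → polar Q u z = 0 ∧ polar Q v z = 0 := by
    intro z h1 h3
    simp only [← ha, b_add_left, b_smul_left] at h1
    simp only [← ha', b_add_left, b_smul_left] at h3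
    have hu0 : polar Q u z = 0 := mul_left_cancel₀ hc (by
      linear_combination (-polar Q u z) * hxy + (x * d) * h1 - y * h3)
    have hw0 : polar Q w z = 0 := mul_left_cancel₀ hc (by
      linear_combination (-polar Q w z) * hxy + (y * e) * h1 + x * h3)
    refine ⟨hu0, ?_⟩
    rw [← hwdef, b_sub_left, b_smul_left, hu0, mul_zero, sub_zero] at hw0
    exact hw0
  obtain ⟨s, hs, hs'⟩ := exists_isRefl (a := a) (Q := Q) (by rw [hqa]; exact hc)
  let k : oGroup Q := ⟨s, hs⟩ * (r * r')
  have hk : χ k = reflVal Q a := by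
    rw [map_mul, map_mul, hχ _ a hs', hχ r u hr, hχ r' v hr']
    have : reflVal Q u * reflVal Q v = 1 := by
      rw [show reflVal Q v = reflVal Q u by rw [reflVal, reflVal, hu, hv]]
      exact reflVal_mul_self hr.1
    rw [this, mul_one]
  have hkfix : ∀ z, polar Q a z = 0 → polar Q a' z = 0 → k.1 z = z := by
    intro z h1 h3
    obtain ⟨hu0, hv0⟩ := hspan z h1 h3
    show s (r.1 (r'.1 z)) = z
    rw [hr'.fix (by rw [b_comm]; exact hv0), hr.fix (by rw [b_comm]; exact hu0),
      hs'.fix (by rw [b_comm]; exact h1)]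
  have hqa0 : Q a ≠ 0 := hqa ▸ hc
  have hqa'0 : Q a' ≠ 0 := hqa' ▸ mul_ne_zero (mul_ne_zero hd he0) hc
  have hk1 : χ k ≠ 1 := by
    rw [hk]; intro h
    exact (one_ne_zero : (1 : ZMod 2) ≠ 0) (congrArg (fun p : SpinVal F => Multiplicative.toAdd p.1) h)
  have fin : ∀ b, IsRefl k.1 Q b → ∃ (s s' : oGroup Q) (a b : V), IsRefl s.1 Q a ∧ IsRefl s'.1 Q b ∧ Q a = c ∧
      sqc F (Q b) = sqc F c ∧ r * r' = s * s' := fun b hb => by
    refine ⟨⟨s, hs⟩, k, a, b, hs', hb, hqa, ?_, ?_⟩
    · have h := hk.symm.trans (hχ k b hb)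
      rw [← hqa]
      exact (congrArg Prod.snd h).symm
    · rw [← mul_assoc, show (⟨s, hs⟩ : oGroup Q) * ⟨s, hs⟩ = 1 from Subtype.ext hs'.mul_self, one_mul]
  rcases ne_or_eq (Q (k.1 a - a)) 0 with hz | hz
  · obtain ⟨t, ht, ht'⟩ := exists_isRefl hz
    have hta : t a = k.1 a := ht'.move (k.2 a).symm
    have hperp : ∀ z, polar Q a z = 0 → polar Q a' z = 0 → polar Q z (k.1 a - a) = 0 := fun z h1 h3 => by
      have h := b_map k.2 z a
      rw [hkfix z h1 h3] at h
      rw [b_sub_right, h, sub_self]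
    rcases fix_plane hQ h2 hqa0 hqa'0 haa' (mul_mem ht k.2)
      (show (t * k.1) a = a by
        rw [LinearEquiv.mul_apply, ← hta, ← LinearEquiv.mul_apply, ht'.mul_self]; rfl)
      (fun z h1 h3 => by rw [LinearEquiv.mul_apply, hkfix z h1 h3, ht'.fix (hperp z h1 h3)]) with h | h
    · refine fin _ (?_ : IsRefl k.1 Q (k.1 a - a))
      have : k.1 = t := by
        rw [← one_mul k.1, ← ht'.mul_self, mul_assoc, h, mul_one]
      exact (congrArg (fun r => IsRefl r Q (k.1 a - a)) this).mpr ht'
    · exfalso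
      have h1 := hχ (⟨t, ht⟩ * k) a' h
      rw [map_mul, hk, hχ ⟨t, ht⟩ _ ht'] at h1
      exact (by decide : Multiplicative.ofAdd (1 : ZMod 2) * Multiplicative.ofAdd 1 ≠ Multiplicative.ofAdd 1)
        (congrArg Prod.fst h1)
  · have h0 : k.1 a = a := by
      rw [← sub_eq_zero]
      obtain ⟨z, hzdef⟩ : ∃ z, k.1 a - a = z := ⟨_, rfl⟩
      rw [hzdef] at hz ⊢
      have hka : k.1 a = a + z := by rw [← hzdef]; abel
      have haz : polar Q a z = 0 := by
        have h := k.2 a
        rw [hka, q_add, hz] at h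
        linear_combination h
      -- z lies in the plane
      refine eq_zero_of_b hQ fun t => ?_
      have hB : ∀ m, Q m ≠ 0 → polar Q m m ≠ 0 := fun m hm => by rw [b_self]; exact mul_ne_zero h2 hm
      have hproj : ∀ t, polar Q a (t - (polar Q a t / polar Q a a) • a - (polar Q a' t / polar Q a' a') • a') = 0 ∧
          polar Q a' (t - (polar Q a t / polar Q a a) • a - (polar Q a' t / polar Q a' a') • a') = 0 := fun t => by
        constructor <;> simp only [b_sub_right, b_smul_right, b_comm a' a, haa', div_mul_cancel₀ _ (hB a hqa0),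
          div_mul_cancel₀ _ (hB a' hqa'0)] <;> ring
      have hperp : ∀ t, polar Q a t = 0 → polar Q a' t = 0 → polar Q z t = 0 := fun t h1 h3 => by
        have h := b_map k.2 a t
        rw [hkfix t h1 h3, hka, b_add_left] at h
        linear_combination h
      have hza' : polar Q z a' = 0 := by
        obtain ⟨p1, p2⟩ := hproj z
        have hzz : polar Q z z = 0 := by rw [b_self, hz, mul_zero]
        have h := hperp _ p1 p2
        rw [b_sub_right, b_sub_right, b_smul_right, b_smul_right, hzz, b_comm z a, haz] at h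
        have h5 : polar Q a' z / polar Q a' a' * polar Q z a' = 0 := by linear_combination -h
        rcases mul_eq_zero.1 h5 with h6 | h6
        · rw [b_comm]; exact (div_eq_zero_iff.1 h6).resolve_right (hB a' hqa'0)
        · exact h6
      obtain ⟨p1, p2⟩ := hproj t
      have h := hperp _ p1 p2
      rw [b_sub_right, b_sub_right, b_smul_right, b_smul_right, b_comm z a, haz, hza'] at h
      linear_combination h
    rcases fix_plane hQ h2 hqa0 hqa'0 haa' k.2 h0 hkfix with h | h
    · exact absurd (by rw [show k = 1 from Subtype.ext h, map_one]) hk1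
    · exact fin _ h

/-- A third vector of norm d spanning non-degenerate planes with two given ones. -/
theorem exists_mid [Fintype F] (hQ : (polarBilin Q).Nondegenerate) (h2 : (2 : F) ≠ 0)
    (h43 : 3 < Fintype.card F ∨ 5 ≤ finrank F V) {u v : V} {d : F} (hu : Q u = d) (hv : Q v = d) (hd : d ≠ 0)
    (huv : polar Q u v = 2 * d) (hne : u ≠ v) :
    ∃ m, Q m = d ∧ polar Q u m ^ 2 ≠ 4 * d * d ∧ polar Q v m ^ 2 ≠ 4 * d * d := by
  classical
  obtain ⟨z, hzdef⟩ : ∃ z, v - u = z := ⟨_, rfl⟩
  have hz : Q z = 0 := by rw [← hzdef, q_sub, hu, hv, b_comm v u, huv]; ring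
  have huz : polar Q u z = 0 := by rw [← hzdef, b_sub_right, b_self, hu, huv]; ring
  have hz0 : z ∉ Submodule.span F {u} := by
    rw [Submodule.mem_span_singleton]
    rintro ⟨t, rfl⟩
    rw [q_smul, hu] at hz
    rcases mul_eq_zero.1 hz with h | h
    · rcases mul_eq_zero.1 h with h | h <;>
        exact hne (by rw [h, zero_smul] at hzdef; exact (sub_eq_zero.1 hzdef).symm)
    · exact hd h
  obtain ⟨y, hy, hzy⟩ := exists_orth_not hQ hz0 1
  obtain ⟨z', hz'def⟩ : ∃ z', y - Q y • z = z' := ⟨_, rfl⟩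
  have huy : polar Q u y = 0 := hy u (Submodule.mem_span_singleton_self u)
  have huz' : polar Q u z' = 0 := by rw [← hz'def, b_sub_right, b_smul_right, huy, huz]; ring
  have hzz' : polar Q z z' = 1 := by rw [← hz'def, b_sub_right, b_smul_right, b_self, hz, hzy]; ring
  have hz' : Q z' = 0 := by rw [← hz'def, q_sub, q_smul, b_smul_right, hz, b_comm y z, hzy]; ring
  have hvu : v = u + z := by rw [← hzdef]; abel
  have hd4 : (4 : F) * d * d ≠ 0 := by
    rw [show (4 : F) = 2 * 2 by norm_num]
    exact mul_ne_zero (mul_ne_zero (mul_ne_zero h2 h2) hd) hd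
  have h0 : (0 : F) ^ 2 ≠ 4 * d * d := fun h => hd4 (by rw [← h]; ring)
  rcases h43 with hq | hn
  · obtain ⟨γ, hγ⟩ : ∃ γ, γ ∉ ({0, 2 * d, -(2 * d)} : Finset F) := by
      by_contra! hall
      have h1 := Finset.card_le_card (s := (Finset.univ : Finset F)) (fun x _ => hall x)
      have h3 := Finset.card_le_three (a := (0 : F)) (b := 2 * d) (c := -(2 * d))
      rw [Finset.card_univ] at h1
      omega
    simp only [Finset.mem_insert, Finset.mem_singleton, not_or] at hγ
    refine ⟨(d / γ) • z + γ • z', ?_, ?_, ?_⟩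
    · rw [q_add, q_smul, q_smul, b_smul_left, b_smul_right, hz, hz', hzz']; field_simp [hγ.1]; ring
    · rw [b_add_right, b_smul_right, b_smul_right, huz, huz']; simpa using h0
    · rw [hvu, b_add_left, b_add_right, b_add_right, b_smul_right, b_smul_right, b_smul_right, b_smul_right,
        huz, huz', b_self, hz, hzz']
      intro h
      have h1 : (γ - 2 * d) * (γ + 2 * d) = 0 := by linear_combination h
      rcases mul_eq_zero.1 h1 with h1 | h1
      · exact hγ.2.1 (sub_eq_zero.1 h1)
      · exact hγ.2.2 (eq_neg_of_add_eq_zero_left h1)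
  · let L : V →ₗ[F] Fin 3 → F := LinearMap.pi ![polarBilin Q u, polarBilin Q z, polarBilin Q z']
    let R := LinearMap.ker L
    have hR : ∀ x, x ∈ R ↔ polar Q u x = 0 ∧ polar Q z x = 0 ∧ polar Q z' x = 0 := fun x => by
      rw [LinearMap.mem_ker, funext_iff, Fin.forall_fin_succ, Fin.forall_fin_succ, Fin.forall_fin_succ]
      simp [L]
    let QR : QuadraticForm F R := Q.comp R.subtype
    have hdim : 2 ≤ finrank F R := by
      have h1 := LinearMap.finrank_range_add_finrank_ker L
      have h3 := (LinearMap.range L).finrank_le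
      rw [Module.finrank_fin_fun] at h3
      have : finrank F R = finrank F (LinearMap.ker L) := rfl
      omega
    have hQR : (polarBilin QR).Nondegenerate := by
      have key : ∀ a : R, (∀ b, polar QR a b = 0) → a = 0 := by
        intro a ha
        refine Subtype.ext (eq_zero_of_b hQ fun x => ?_)
        have hBu : polar Q u u ≠ 0 := by rw [b_self, hu]; exact mul_ne_zero h2 hd
        obtain ⟨p, hp⟩ : ∃ p, x - (polar Q u x / polar Q u u) • u - polar Q z' x • z - polar Q z x • z' = p :=
          ⟨_, rfl⟩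
        have hpR : p ∈ R := (hR p).2 (by
          simp only [← hp, b_sub_right, b_smul_right, huz, huz', hzz', b_comm z' z, b_comm z u, b_comm z' u,
            b_self z, b_self z', hz, hz', div_mul_cancel₀ _ hBu]
          refine ⟨?_, ?_, ?_⟩ <;> ring)
        have h1 : polar Q (a : V) p = 0 := by
          have := ha ⟨p, hpR⟩
          simpa [QR, polar] using this
        obtain ⟨a1, a2, a3⟩ := (hR _).1 a.2
        rw [← hp, b_sub_right, b_sub_right, b_sub_right, b_smul_right, b_smul_right, b_smul_right,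
          b_comm (a : V) u, b_comm (a : V) z, b_comm (a : V) z', a1, a2, a3] at h1
        linear_combination h1
      exact ⟨fun a ha => key a ha, fun a ha => key a fun b => by rw [b_comm]; exact ha b⟩
    obtain ⟨m, hm⟩ := exists_value hQR hdim d
    obtain ⟨m1, m2, -⟩ := (hR _).1 m.2
    refine ⟨m, hm, ?_, ?_⟩
    · rw [m1]; exact h0
    · rw [hvu, b_add_left, m1, m2, add_zero]; exact h0

end Plane

section Matrix

variable {ι : Type} [Fintype ι] [DecidableEq ι] {F : Type*} [Field F] [Fintype F] (Q : QuadraticForm F (ι → F))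

theorem isRefl_mem_set {g : Cfsg.isometryGroup F (⇑Q)}
    (h : ∃ v, Q v ≠ 0 ∧ ((g : GL ι F) : Matrix ι ι F) = Cfsg.reflectionMatrix (⇑Q) v) :
    ∃ v, IsRefl (isoEquiv Q g).1 Q v :=
  h.imp fun v hv => (eq_reflectionMatrix_iff Q hv.1 g).1 hv.2

/-- The determinant is the sign of the parity. -/
theorem det_eq_sgn (hQ : (polarBilin Q).Nondegenerate) (h : Fintype.card F ≠ 2 ∨ Fintype.card ι ≠ 4)
    (χ : Cfsg.isometryGroup F (⇑Q) →* SpinVal F)
    (hχ : ∀ (g : Cfsg.isometryGroup F (⇑Q)) (v : ι → F), Q v ≠ 0 →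
        ((g : GL ι F) : Matrix ι ι F) = Cfsg.reflectionMatrix (⇑Q) v → χ g = reflVal Q v)
    (g : Cfsg.isometryGroup F (⇑Q)) :
    ((g : GL ι F) : Matrix ι ι F).det = sgn F (Multiplicative.toAdd (χ g).1) := by
  let f₁ : Cfsg.isometryGroup F (⇑Q) →* F :=
    { toFun := fun g => ((g : GL ι F) : Matrix ι ι F).det
      map_one' := Matrix.det_one
      map_mul' := fun a b => Matrix.det_mul _ _ }
  let f₂ : Cfsg.isometryGroup F (⇑Q) →* F :=
    { toFun := fun g => sgn F (Multiplicative.toAdd (χ g).1)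
      map_one' := by simp [sgn]
      map_mul' := fun a b => by rw [map_mul, Prod.fst_mul, toAdd_mul, sgn_add] }
  have h1 : ∀ x, f₁ x = f₂ x := fun x => by
    have hx : x ∈ Subgroup.closure {g : ↥(Cfsg.isometryGroup F (⇑Q)) | ∃ v : ι → F, Q v ≠ 0 ∧
        ((g : GL ι F) : Matrix ι ι F) = Cfsg.reflectionMatrix (⇑Q) v} := by
      rw [closure_reflections_eq_top Q hQ h]; exact Subgroup.mem_top x
    exact MonoidHom.eqOn_closure (f := f₁) (g := f₂) (fun g hg => by
      obtain ⟨v, hv, hgv⟩ := hg
      show Matrix.det _ = sgn F _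
      rw [hgv, det_reflectionMatrix Q hv, hχ g v hv hgv]
      simp [reflVal, sgn]) hx
  exact h1 g

theorem specialIsometryGroup_eq (χ : Cfsg.isometryGroup F (⇑Q) →* SpinVal F)
    (hdet : ∀ g : Cfsg.isometryGroup F (⇑Q),
      ((g : GL ι F) : Matrix ι ι F).det = sgn F (Multiplicative.toAdd (χ g).1)) (g : Cfsg.isometryGroup F (⇑Q)) :
    g ∈ Cfsg.specialIsometryGroup F (⇑Q) ↔ ((χ g).1 = 1 ∨ (2 : F) = 0) := by
  rw [Cfsg.specialIsometryGroup, MonoidHom.mem_ker, Units.ext_iff]
  show ((g : GL ι F) : Matrix ι ι F).det = 1 ↔ _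
  rw [hdet]
  rcases (show ∀ x : ZMod 2, x = 0 ∨ x = 1 by decide) (Multiplicative.toAdd (χ g).1) with he | he
  · rw [he, sgn, if_pos rfl]
    exact iff_of_true rfl (Or.inl (Multiplicative.toAdd.injective he))
  · rw [he, sgn, if_neg one_ne_zero]
    have hne : (χ g).1 ≠ 1 := fun h1 => by rw [h1] at he; exact zero_ne_one he
    exact ⟨fun h1 => Or.inr (by linear_combination -h1), fun h1 => h1.elim (absurd · hne) fun h2 => by
      linear_combination -h2⟩

/-- The commutator subgroup lies in the subgroup generated by squares of rotations. -/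
theorem omega_le_squares (hQ : (polarBilin Q).Nondegenerate) (h : Fintype.card F ≠ 2 ∨ Fintype.card ι ≠ 4)
    (K : Subgroup (Cfsg.isometryGroup F (⇑Q))) [K.Normal]
    (hK : ∀ g : Cfsg.isometryGroup F (⇑Q), ((g : GL ι F) : Matrix ι ι F).det = 1 → g ∈ K) :
    Cfsg.Omega F (⇑Q) ≤ Subgroup.closure {y | ∃ x ∈ K, x * x = y} := by
  haveI := sq_closure_normal K
  refine commutator_le_of_gen (closure_reflections_eq_top Q hQ h) _ ?_
  rintro a ⟨u, hu, hau⟩ b ⟨v, hv, hbv⟩
  have inv : ∀ (a : Cfsg.isometryGroup F (⇑Q)) u, Q u ≠ 0 →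
      ((a : GL ι F) : Matrix ι ι F) = Cfsg.reflectionMatrix (⇑Q) u → a⁻¹ = a := fun a u hu hau =>
    inv_eq_of_mul_eq_one_left ((isoEquiv Q).injective (Subtype.ext (by
      rw [map_mul, map_one]; exact ((eq_reflectionMatrix_iff Q hu a).1 hau).mul_self)))
  refine Subgroup.subset_closure ⟨a * b, hK _ ?_, ?_⟩
  · show (((a : GL ι F) : Matrix ι ι F) * ((b : GL ι F) : Matrix ι ι F)).det = 1
    rw [hau, hbv, Matrix.det_mul, det_reflectionMatrix Q hu, det_reflectionMatrix Q hv]
    ring
  · rw [commutatorElement_def, inv a u hu hau, inv b v hv hbv, mul_assoc (a * b)]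

/-- Reflections of one norm class generate a normal subgroup containing the commutator subgroup. -/
theorem omega_le_class (hQ : (polarBilin Q).Nondegenerate) (h2 : (2 : F) ≠ 0) (hn : 2 ≤ Fintype.card ι)
    (h43 : 3 < Fintype.card F ∨ 5 ≤ Fintype.card ι ∨ Fintype.card ι = 2) (c : F) (hc : c ≠ 0)
    (H : Subgroup (Cfsg.isometryGroup F (⇑Q))) [H.Normal]
    (hH : ∀ (g : Cfsg.isometryGroup F (⇑Q)) (v : ι → F), Q v ≠ 0 → sqc F (Q v) = sqc F c →
      ((g : GL ι F) : Matrix ι ι F) = Cfsg.reflectionMatrix (⇑Q) v → g ∈ H) :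
    Cfsg.Omega F (⇑Q) ≤ H := by
  classical
  have hq2 : Fintype.card F ≠ 2 ∨ Fintype.card ι ≠ 4 := Or.inl fun hq => h2 (by
    have h := Nat.cast_card_eq_zero F; rw [hq] at h; exact_mod_cast h)
  have hnf : finrank F (ι → F) = Fintype.card ι := Module.finrank_fintype_fun_eq_card F
  obtain ⟨χ, hχ⟩ := exists_spinor hQ (by rwa [hnf])
  have hH' : ∀ (r : oGroup Q) (v : ι → F), IsRefl r.1 Q v → sqc F (Q v) = sqc F c →
      (isoEquiv Q).symm r ∈ H := fun r v hr hcl =>
    hH _ v hr.1 hcl ((eq_reflectionMatrix_iff Q hr.1 _).2 (by rwa [MulEquiv.apply_symm_apply]))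
  have core : ∀ (r r' : oGroup Q) (u v : ι → F) (d : F), IsRefl r.1 Q u → IsRefl r'.1 Q v → Q u = d → Q v = d →
      (isoEquiv Q).symm (r * r') ∈ H := by
    have easy : ∀ (r r' : oGroup Q) (u v : ι → F) (d : F), IsRefl r.1 Q u → IsRefl r'.1 Q v → Q u = d → Q v = d →
        polar Q u v ^ 2 ≠ 4 * d * d → (isoEquiv Q).symm (r * r') ∈ H := by
      intro r r' u v d hr hr' hu hv hdet
      obtain ⟨s, s', a, b, hs, hs', hqa, hqb, he⟩ := exists_refl_pair hQ h2 hχ hr hr' hu hv hdet hc
      rw [he, map_mul]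
      exact H.mul_mem (hH' s a hs (by rw [hqa])) (hH' s' b hs' hqb)
    intro r r' u v d hr hr' hu hv
    by_cases hdet : polar Q u v ^ 2 = 4 * d * d
    swap
    · exact easy r r' u v d hr hr' hu hv hdet
    have hd : d ≠ 0 := hu ▸ hr.1
    obtain ⟨v', hr'2, hv', huv'⟩ : ∃ v', IsRefl r'.1 Q v' ∧ Q v' = d ∧ polar Q u v' = 2 * d := by
      have h1 : (polar Q u v - 2 * d) * (polar Q u v + 2 * d) = 0 := by linear_combination hdet
      rcases mul_eq_zero.1 h1 with h1 | h1
      · exact ⟨v, hr', hv, sub_eq_zero.1 h1⟩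
      · exact ⟨(-1 : F) • v, hr'.smul (neg_ne_zero.2 one_ne_zero), by rw [q_smul, hv]; ring,
          by rw [b_smul_right]; linear_combination -h1⟩
    by_cases hne : u = v'
    · have he : r = r' := Subtype.ext (hr.eq (hne ▸ hr'2))
      rw [he, show r' * r' = 1 from Subtype.ext hr'.mul_self, map_one]
      exact H.one_mem
    have h5 : 3 < Fintype.card F ∨ 5 ≤ finrank F (ι → F) := by
      rcases h43 with h | h | h
      · exact Or.inl h
      · exact Or.inr (by rwa [hnf])
      · exfalso
        obtain ⟨z, hzdef⟩ : ∃ z, v' - u = z := ⟨_, rfl⟩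
        have hz : Q z = 0 := by rw [← hzdef, q_sub, hu, hv', b_comm v' u, huv']; ring
        have huz : polar Q u z = 0 := by rw [← hzdef, b_sub_right, b_self, hu, huv']; ring
        have hz0 : z ≠ 0 := by rw [← hzdef]; exact sub_ne_zero.2 (Ne.symm hne)
        have hli : LinearIndependent F ![z, u] := (LinearIndependent.pair_iff' hz0).2 fun t ht => by
          have : Q u = 0 := by rw [← ht, q_smul, hz, mul_zero]
          exact hd (hu ▸ this)
        have htop := hli.span_eq_top_of_card_eq_finrank' (by rw [hnf, h, Fintype.card_fin])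
        refine hz0 (eq_zero_of_b hQ fun y => ?_)
        have hy : y ∈ Submodule.span F (Set.range ![z, u]) := htop ▸ Submodule.mem_top
        rw [Matrix.range_cons, Matrix.range_cons, Matrix.range_empty, Set.union_empty, Set.singleton_union,
          Submodule.mem_span_pair] at hy
        obtain ⟨s, t, rfl⟩ := hy
        rw [b_add_right, b_smul_right, b_smul_right, b_self, hz, b_comm z u, huz]; ring
    obtain ⟨m, hm, hm1, hm2⟩ := exists_mid hQ h2 h5 hu hv' hd huv' hne
    obtain ⟨rm, hrm, hrm'⟩ := exists_isRefl (a := m) (Q := Q) (by rwa [hm])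
    have he : r * r' = r * ⟨rm, hrm⟩ * (⟨rm, hrm⟩ * r') := by
      rw [← mul_assoc, mul_assoc r, show (⟨rm, hrm⟩ : oGroup Q) * ⟨rm, hrm⟩ = 1 from Subtype.ext hrm'.mul_self,
        mul_one]
    rw [he, map_mul]
    exact H.mul_mem (easy r ⟨rm, hrm⟩ u m d hr hrm' hu hm hm1)
      (easy ⟨rm, hrm⟩ r' m v' d hrm' hr'2 hm hv' (by rwa [b_comm]))
  refine commutator_le_of_gen (closure_reflections_eq_top Q hQ hq2) H ?_
  rintro a ⟨u, hu, hau⟩ b ⟨v, hv, hbv⟩
  by_cases hua : sqc F (Q u) = sqc F c
  · exact Subgroup.commutator_le_left H ⊤ (Subgroup.commutator_mem_commutator (hH a u hu hua hau) (Subgroup.mem_top _))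
  by_cases hvb : sqc F (Q v) = sqc F c
  · exact Subgroup.commutator_le_right ⊤ H (Subgroup.commutator_mem_commutator (Subgroup.mem_top _) (hH b v hv hvb hbv))
  have hra := (eq_reflectionMatrix_iff Q hu a).1 hau
  have hrb := (eq_reflectionMatrix_iff Q hv b).1 hbv
  have hsame : sqc F (Q u) = sqc F (Q v) := by
    by_contra hne
    haveI := Fintype.ofFinite (SqCls F)
    have hle := (card_sqCls_le (F := F)).1
    rw [Nat.card_eq_fintype_card] at hle
    have h3 : ({sqc F c, sqc F (Q u), sqc F (Q v)} : Finset (SqCls F)).card = 3 := by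
      rw [Finset.card_insert_of_notMem (by simp [Ne.symm hua, Ne.symm hvb]), Finset.card_pair hne]
    have h4 := ({sqc F c, sqc F (Q u), sqc F (Q v)} : Finset (SqCls F)).card_le_univ
    omega
  have hsq : IsSquare (Q u * (Q v)⁻¹) := by
    rw [← sqc_eq_one_iff (mul_ne_zero hu (inv_ne_zero hv)), sqc_mul hu (inv_ne_zero hv), hsame,
      ← sqc_mul hv (inv_ne_zero hv), mul_inv_cancel₀ hv, sqc_one]
  obtain ⟨t, ht⟩ := hsq
  have ht0 : t ≠ 0 := fun h0 => mul_ne_zero hu (inv_ne_zero hv) (by rw [ht, h0, mul_zero])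
  have hab : a * b ∈ H := by
    have h := core _ _ u (t • v) (Q u) hra (hrb.smul ht0) rfl (by rw [q_smul, ← ht, inv_mul_cancel_right₀ hv])
    rwa [← map_mul, MulEquiv.symm_apply_apply] at h
  have inv : ∀ (a : Cfsg.isometryGroup F (⇑Q)) u, IsRefl (isoEquiv Q a).1 Q u → a⁻¹ = a := fun a u hau =>
    inv_eq_of_mul_eq_one_left ((isoEquiv Q).injective (Subtype.ext (by rw [map_mul, map_one]; exact hau.mul_self)))
  rw [commutatorElement_def, inv a u hra, inv b v hrb, mul_assoc (a * b)]
  exact H.mul_mem hab hab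

/-- The invariant of -1, from an orthogonal basis. -/
theorem spinor_neg_one (hQ : (polarBilin Q).Nondegenerate) (h2 : (2 : F) ≠ 0)
    (χ : Cfsg.isometryGroup F (⇑Q) →* SpinVal F)
    (hχ : ∀ (g : Cfsg.isometryGroup F (⇑Q)) (v : ι → F), Q v ≠ 0 →
        ((g : GL ι F) : Matrix ι ι F) = Cfsg.reflectionMatrix (⇑Q) v → χ g = reflVal Q v)
    {κ : Type} [Fintype κ] [DecidableEq κ] (e : κ → (ι → F)) (horth : ∀ i j, i ≠ j → polar Q (e i) (e j) = 0)
    (hne : ∀ i, Q (e i) ≠ 0) (hcard : Fintype.card κ = Fintype.card ι)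
    {g : Cfsg.isometryGroup F (⇑Q)} (hg : ((g : GL ι F) : Matrix ι ι F) = -1) :
    (χ g).2 = sqc F (∏ i, Q (e i)) := by
  have hli : LinearIndependent F e := Fintype.linearIndependent_iff.2 fun c hc i => by
    have h := congrArg (fun x => polarBilin Q (e i) x) hc
    simp only [map_sum, map_smul, polarBilin_apply_apply, map_zero, smul_eq_mul] at h
    rw [Finset.sum_eq_single i (fun j _ hj => by rw [horth i j hj.symm, mul_zero])
      (fun h => absurd (Finset.mem_univ i) h), b_self] at h
    exact (mul_eq_zero.1 h).resolve_right (mul_ne_zero h2 (hne i))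
  have htop := hli.span_eq_top_of_card_eq_finrank' (by rw [hcard, Module.finrank_fintype_fun_eq_card])
  choose R hR hR' using fun i => exists_reflection Q (hne i)
  have key : ∀ l : List κ, l.Nodup → ∀ j,
      (isoEquiv Q (l.map R).prod).1 (e j) = (if j ∈ l then (-1 : F) else 1) • e j := by
    intro l
    induction l with
    | nil => intro _ j; simp
    | cons i l ih =>
      intro hnd j
      obtain ⟨hil, hl⟩ := List.nodup_cons.1 hnd
      rw [List.map_cons, List.prod_cons, map_mul, Subgroup.coe_mul, LinearEquiv.mul_apply, ih hl j, map_smul]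
      rcases eq_or_ne j i with rfl | hji
      · rw [if_neg hil, one_smul, if_pos List.mem_cons_self, (hR' j).2, b_self, mul_div_assoc, div_self (hne j)]
        module
      · rw [(hR' i).fix (horth j i hji)]
        simp [hji]
  have hge : g = ((Finset.univ : Finset κ).toList.map R).prod := by
    apply (isoEquiv Q).injective
    refine Subtype.ext (LinearEquiv.toLinearMap_injective (LinearMap.ext_on_range htop fun j => ?_))
    show (isoEquiv Q g).1 (e j) = (isoEquiv Q _).1 (e j)
    rw [key _ (Finset.nodup_toList _), if_pos (Finset.mem_toList.2 (Finset.mem_univ j)), isoEquiv_apply, hg,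
      Matrix.neg_mulVec, Matrix.one_mulVec, neg_one_smul]
  have hval : ∀ l : List κ, (χ (l.map R).prod).2 = sqc F ((l.map fun i => Q (e i)).prod) := by
    intro l
    induction l with
    | nil => simp [sqc_one]
    | cons i l ih =>
      rw [List.map_cons, List.prod_cons, map_mul, Prod.snd_mul, ih, hχ _ _ (hne i) (hR i), List.map_cons,
        List.prod_cons, sqc_mul (hne i) (List.prod_ne_zero (by simp [hne]))]
      rfl
  rw [hge, hval, Finset.prod_map_toList]

end Matrix

end Cfsg.Agent.Orth
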