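/-
Index-two subgroups of finite orthogonal and special orthogonal groups.
-/
import Cfsg.Agent.Lib.Orthogonal.OmegaTheory

set_option autoImplicit false

namespace Cfsg.Agent.Orth

open QuadraticMap Module

variable {ι : Type} [Fintype ι] [DecidableEq ι] {F : Type*} [Field F] [Fintype F] (Q : QuadraticForm F (ι → F))
  (hQ : (polarBilin Q).Nondegenerate) (hn : 2 ≤ Fintype.card ι)

include hQ hn

theorem omega_index (h : Fintype.card F ≠ 2 ∨ Fintype.card ι ≠ 4) :
    (Cfsg.Omega F (⇑Q)).index = Nat.card (SpinVal F) := by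
  obtain ⟨χ, hker, hsurj, -⟩ := exists_matrix_spinor Q hQ hn h
  rw [← hker, Subgroup.index_ker, MonoidHom.range_eq_top.2 hsurj, Subgroup.card_top]

theorem existsUnique_index_two (h : Fintype.card F ≠ 2 ∨ Fintype.card ι ≠ 4) :
    ∃! H : Subgroup ↥(Cfsg.specialIsometryGroup F (⇑Q)), H.index = 2 := by
  obtain ⟨χ, hker, hsurj, hχ⟩ := exists_matrix_spinor Q hQ hn h
  have hdet := det_eq_sgn Q hQ h χ hχ
  have hSO := specialIsometryGroup_eq Q χ hdet
  set SO := Cfsg.specialIsometryGroup F (⇑Q) with hSOdef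
  haveI : SO.Normal := by rw [hSOdef, Cfsg.specialIsometryGroup]; exact MonoidHom.normal_ker _
  have hle : Cfsg.Omega F (⇑Q) ≤ SO := fun g hg => (hSO g).2 (Or.inl (by
    rw [← hker, MonoidHom.mem_ker] at hg; rw [hg]; rfl))
  have hidx : (Cfsg.Omega F (⇑Q)).index = Nat.card (SpinVal F) := omega_index Q hQ hn h
  have hrel := Subgroup.relIndex_mul_index hle
  have h0 : ((Cfsg.Omega F (⇑Q)).subgroupOf SO).index = 2 := by
    show (Cfsg.Omega F (⇑Q)).relIndex SO = 2
    rcases eq_or_ne (2 : F) 0 with h2 | h2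
    · have hSOt : SO.index = 1 := Subgroup.index_eq_one.2 (eq_top_iff.2 fun g _ => (hSO g).2 (Or.inr h2))
      rw [hSOt, mul_one, hidx, (card_spinVal).2 h2] at hrel
      exact hrel
    · have hSOt : SO = ((MonoidHom.fst _ _).comp χ).ker := Subgroup.ext fun g => by
        rw [MonoidHom.mem_ker, hSO]
        exact ⟨fun h1 => h1.resolve_right h2, Or.inl⟩
      have hi : SO.index = 2 := by
        rw [hSOt, Subgroup.index_ker, MonoidHom.range_eq_top.2 (Prod.fst_surjective.comp hsurj),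
          Subgroup.card_top]
        simp
      rw [hi, hidx, (card_spinVal).1 h2] at hrel
      omega
  refine ⟨_, h0, fun H hH => ?_⟩
  have hsq : Subgroup.closure {y | ∃ x ∈ SO, x * x = y} ≤ H.map SO.subtype := by
    rw [Subgroup.closure_le]
    rintro y ⟨x, hx, rfl⟩
    exact ⟨⟨x, hx⟩ * ⟨x, hx⟩, Subgroup.mul_self_mem_of_index_two hH _, rfl⟩
  have hK : ∀ g : Cfsg.isometryGroup F (⇑Q), ((g : GL ι F) : Matrix ι ι F).det = 1 → g ∈ SO := fun g hg => by
    rw [hSOdef, Cfsg.specialIsometryGroup, MonoidHom.mem_ker, Units.ext_iff]; exact hg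
  have hge : (Cfsg.Omega F (⇑Q)).subgroupOf SO ≤ H := fun x hx => by
    obtain ⟨y, hy, hyx⟩ := hsq (omega_le_squares Q hQ h SO hK (Subgroup.mem_subgroupOf.1 hx))
    exact (SO.subtype_injective hyx) ▸ hy
  rcases eq_or_lt_of_le hge with he | hlt
  · exact he.symm
  · haveI : ((Cfsg.Omega F (⇑Q)).subgroupOf SO).FiniteIndex := ⟨by omega⟩
    have := Subgroup.index_strictAnti hlt
    omega

omit hQ hn in
theorem card_index_two_klein {A : Type*} [Group A] [Finite A] (hA : Nat.card A = 4) (hexp : ∀ x : A, x * x = 1) :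
    Nat.card {K : Subgroup A // K.index = 2} = 3 := by
  classical
  have h2 : ∀ x : A, x ≠ 1 → Nat.card (Subgroup.zpowers x) = 2 := fun x hx => by
    rw [Nat.card_zpowers, orderOf_eq_prime_iff]
    exact ⟨by rw [pow_two, hexp], hx⟩
  let f : {x : A // x ≠ 1} → {K : Subgroup A // K.index = 2} := fun x => ⟨Subgroup.zpowers x.1, by
    have h := (Subgroup.zpowers x.1).card_mul_index
    rw [h2 x.1 x.2, hA] at h
    omega⟩
  have hbij : Function.Bijective f := by
    refine ⟨fun x y hxy => Subtype.ext ?_, fun K => ?_⟩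
    · have hx : x.1 ∈ Subgroup.zpowers y.1 := by
        have := congrArg Subtype.val hxy
        simp only [f] at this
        rw [← this]; exact Subgroup.mem_zpowers _
      obtain ⟨k, hk⟩ := hx
      rcases Int.even_or_odd k with ⟨j, rfl⟩ | ⟨j, rfl⟩
      · exact absurd (by
          have hk' : y.1 ^ (j + j) = x.1 := hk
          rw [← hk', zpow_add, hexp]) x.2
      · have hk' : y.1 ^ (2 * j + 1) = x.1 := hk
        rw [← hk', zpow_add_one, two_mul, zpow_add, hexp, one_mul]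
    · have hK : Nat.card K.1 = 2 := by
        have h := K.1.card_mul_index
        rw [K.2, hA] at h
        omega
      obtain ⟨x, hx⟩ : ∃ x ∈ K.1, x ≠ 1 := by
        by_contra! hall
        have : K.1 = ⊥ := (Subgroup.eq_bot_iff_forall _).2 hall
        rw [this, Subgroup.card_bot] at hK
        omega
      exact ⟨⟨x, hx.2⟩, Subtype.ext (Subgroup.eq_of_le_of_card_ge (Subgroup.zpowers_le.2 hx.1)
        (by rw [hK, h2 x hx.2]))⟩
  rw [← Nat.card_eq_of_bijective f hbij]
  have h := Finite.card_option (α := {x : A // x ≠ 1})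
  rw [← Nat.card_congr (Equiv.optionSubtypeNe (1 : A)).symm, hA] at h
  omega

theorem card_index_two (h2 : (2 : F) ≠ 0) (h : Fintype.card F ≠ 2 ∨ Fintype.card ι ≠ 4) :
    Nat.card {H : Subgroup ↥(Cfsg.isometryGroup F (⇑Q)) // H.index = 2} = 3 := by
  obtain ⟨χ, hker, hsurj, hχ⟩ := exists_matrix_spinor Q hQ hn h
  have hcont : ∀ H : Subgroup ↥(Cfsg.isometryGroup F (⇑Q)), H.index = 2 → χ.ker ≤ H := fun H hH => by
    rw [hker]
    refine (omega_le_squares Q hQ h ⊤ (fun g _ => Subgroup.mem_top g)).trans ((Subgroup.closure_le _).2 ?_)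
    rintro y ⟨x, -, rfl⟩
    exact Subgroup.mul_self_mem_of_index_two hH x
  let e : {K : Subgroup (SpinVal F) // K.index = 2} ≃ {H : Subgroup ↥(Cfsg.isometryGroup F (⇑Q)) // H.index = 2} :=
    { toFun := fun K => ⟨K.1.comap χ, by rw [Subgroup.index_comap_of_surjective _ hsurj]; exact K.2⟩
      invFun := fun H => ⟨H.1.map χ, by
        have h1 := Subgroup.index_comap_of_surjective (H.1.map χ) hsurj
        rw [Subgroup.comap_map_eq_self (hcont H.1 H.2)] at h1
        rw [← h1]; exact H.2⟩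
      left_inv := fun K => Subtype.ext (Subgroup.map_comap_eq_self_of_surjective hsurj _)
      right_inv := fun H => Subtype.ext (Subgroup.comap_map_eq_self (hcont H.1 H.2)) }
  rw [← Nat.card_congr e]
  refine card_index_two_klein ((card_spinVal).1 h2) fun x => Prod.ext ?_ ?_
  · show x.1 * x.1 = 1
    exact (show ∀ a : Multiplicative (ZMod 2), a * a = 1 by decide) x.1
  · show x.2 * x.2 = 1
    obtain ⟨u, hu⟩ := QuotientGroup.mk_surjective x.2
    rw [← hu, ← sqc_unit, sqc_mul_self u.ne_zero]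

theorem class_index_two (h2 : (2 : F) ≠ 0)
    (h43 : 3 < Fintype.card F ∨ 5 ≤ Fintype.card ι ∨ Fintype.card ι = 2) (c : F) (hc : c ≠ 0) :
    (Subgroup.closure {g : ↥(Cfsg.isometryGroup F (⇑Q)) | ∃ (v : ι → F) (t : F), t ≠ 0 ∧ Q v = c * t ^ 2 ∧
      ((g : GL ι F) : Matrix ι ι F) = Cfsg.reflectionMatrix (⇑Q) v}).index = 2 := by
  have hq : Fintype.card F ≠ 2 ∨ Fintype.card ι ≠ 4 := Or.inl fun hq => h2 (by
    have h := Nat.cast_card_eq_zero F; rw [hq] at h; exact_mod_cast h)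
  obtain ⟨χ, hker, hsurj, hχ⟩ := exists_matrix_spinor Q hQ hn hq
  set S := {g : ↥(Cfsg.isometryGroup F (⇑Q)) | ∃ (v : ι → F) (t : F), t ≠ 0 ∧ Q v = c * t ^ 2 ∧
      ((g : GL ι F) : Matrix ι ι F) = Cfsg.reflectionMatrix (⇑Q) v}
  set H := Subgroup.closure S with hH
  have hS : ∀ g ∈ S, ∃ v, Q v ≠ 0 ∧ sqc F (Q v) = sqc F c ∧
      ((g : GL ι F) : Matrix ι ι F) = Cfsg.reflectionMatrix (⇑Q) v := by
    rintro g ⟨v, t, ht, hv, hg⟩
    have hv0 : Q v ≠ 0 := by rw [hv]; exact mul_ne_zero hc (pow_ne_zero _ ht)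
    exact ⟨v, hv0, by rw [hv, pow_two, sqc_mul hc (mul_ne_zero ht ht), sqc_mul ht ht, sqc_mul_self ht, mul_one], hg⟩
  have hS' : ∀ (g : ↥(Cfsg.isometryGroup F (⇑Q))) (v : ι → F), Q v ≠ 0 → sqc F (Q v) = sqc F c →
      ((g : GL ι F) : Matrix ι ι F) = Cfsg.reflectionMatrix (⇑Q) v → g ∈ S := by
    intro g v hv hcl hg
    have hsq : IsSquare (Q v * c⁻¹) := by
      rw [← sqc_eq_one_iff (mul_ne_zero hv (inv_ne_zero hc)), sqc_mul hv (inv_ne_zero hc), hcl,
        ← sqc_mul hc (inv_ne_zero hc), mul_inv_cancel₀ hc, sqc_one]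
    obtain ⟨t, ht⟩ := hsq
    have ht0 : t ≠ 0 := fun h0 => mul_ne_zero hv (inv_ne_zero hc) (by rw [ht, h0, mul_zero])
    exact ⟨v, t, ht0, by rw [pow_two, ← ht, mul_comm (Q v), mul_inv_cancel_left₀ hc], hg⟩
  haveI : H.Normal := normal_closure_of_conj fun g s hs => by
    obtain ⟨v, hv, hcl, hsv⟩ := hS s hs
    have h1 := ((eq_reflectionMatrix_iff Q hv s).1 hsv).conj (isoEquiv Q g).2
    have h3 : IsRefl (isoEquiv Q (g * s * g⁻¹)).1 Q ((isoEquiv Q g).1 v) := by
      rw [map_mul, map_mul, map_inv]; exact h1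
    exact hS' _ _ h3.1 (by rw [(isoEquiv Q g).2 v]; exact hcl) ((eq_reflectionMatrix_iff Q h3.1 _).2 h3)
  have hOmega : χ.ker ≤ H := by
    rw [hker]
    exact omega_le_class Q hQ h2 hn h43 c hc H fun g v hv hcl hg => Subgroup.subset_closure (hS' g v hv hcl hg)
  obtain ⟨v, hv⟩ := exists_value (Q := Q) hQ (by rwa [Module.finrank_fintype_fun_eq_card]) c
  obtain ⟨r, hr, hr'⟩ := exists_reflection Q (v := v) (by rwa [hv])
  have hr0 : r ∈ H := Subgroup.subset_closure (hS' r v (hv ▸ hc) (by rw [hv]) hr)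
  obtain ⟨y, hy⟩ : ∃ y : SpinVal F, (Multiplicative.ofAdd 1, sqc F c) = y := ⟨_, rfl⟩
  have hyχ : χ r = y := by rw [hχ r v (hv ▸ hc) hr, reflVal, hv, hy]
  have hle : H ≤ (Subgroup.zpowers y).comap χ := by
    rw [hH, Subgroup.closure_le]
    intro g hg
    obtain ⟨w, hw, hcl, hgw⟩ := hS g hg
    show χ g ∈ Subgroup.zpowers y
    rw [hχ g w hw hgw, reflVal, hcl, hy]
    exact Subgroup.mem_zpowers _
  have hge : (Subgroup.zpowers y).comap χ ≤ H := fun g hg => by
    obtain ⟨k, hk⟩ := hg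
    have h1 : χ ((r ^ k)⁻¹ * g) = 1 := by
      rw [map_mul, map_inv, map_zpow, hyχ, inv_mul_eq_one]
      exact hk
    have h3 := H.mul_mem (H.zpow_mem hr0 k) (hOmega (MonoidHom.mem_ker.2 h1))
    rwa [mul_inv_cancel_left] at h3
  rw [le_antisymm hle hge, Subgroup.index_comap_of_surjective _ hsurj]
  have hy2 : Nat.card (Subgroup.zpowers y) = 2 := by
    rw [Nat.card_zpowers, orderOf_eq_prime_iff]
    refine ⟨?_, fun h => ?_⟩
    · rw [← hy, pow_two]
      exact Prod.ext (show Multiplicative.ofAdd (1 : ZMod 2) * Multiplicative.ofAdd 1 = 1 by decide) (sqc_mul_self hc)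
    · rw [← hy] at h
      exact (by decide : Multiplicative.ofAdd (1 : ZMod 2) ≠ 1) (congrArg Prod.fst h)
  have h := (Subgroup.zpowers y).card_mul_index
  rw [hy2, (card_spinVal).1 h2] at h
  omega

end Cfsg.Agent.Orth
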