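/-
Adding a hyperbolic plane to a quadratic space: zeros and orders of isometry groups.
-/
import Cfsg.Agent.Lib.Orthogonal.Witt
import Mathlib.SetTheory.Cardinal.Finite

set_option autoImplicit false

namespace Cfsg.Agent.Orth

open QuadraticMap Module

variable {F V V' W : Type*} [Field F] [AddCommGroup V] [Module F V] [AddCommGroup V'] [Module F V']
  [AddCommGroup W] [Module F W]

theorem nondeg_of {Q : QuadraticForm F V} (h : ∀ x, (∀ y, polar Q x y = 0) → x = 0) :
    (polarBilin Q).Nondegenerate :=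
  ⟨fun x hx => h x hx, fun y hy => h y fun x => by rw [b_comm]; exact hy x⟩

section Transport

variable {Q : QuadraticForm F V} {Q' : QuadraticForm F V'}

/-- Isometric spaces have isomorphic isometry groups. -/
def oCongr (e : V ≃ₗ[F] V') (h : ∀ x, Q' (e x) = Q x) : ↥(oGroup Q) ≃* ↥(oGroup Q') where
  toFun g := ⟨(e.symm.trans g.1).trans e, fun x => by
    show Q' (e (g.1 (e.symm x))) = Q' x
    rw [h, g.2, ← h, e.apply_symm_apply]⟩
  invFun g := ⟨(e.trans g.1).trans e.symm, fun x => by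
    show Q (e.symm (g.1 (e x))) = Q x
    rw [← h, e.apply_symm_apply, g.2, h]⟩
  left_inv g := Subtype.ext (LinearEquiv.ext fun x => by
    show e.symm (e (g.1 (e.symm (e x)))) = g.1 x
    simp)
  right_inv g := Subtype.ext (LinearEquiv.ext fun x => by
    show e (e.symm (g.1 (e (e.symm x)))) = g.1 x
    simp)
  map_mul' a b := Subtype.ext (LinearEquiv.ext fun x => by
    show e (a.1 (b.1 (e.symm x))) = e (a.1 (e.symm (e (b.1 (e.symm x)))))
    simp)

/-- Isometric spaces have equally many zeros. -/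
def zerosCongr (e : V ≃ₗ[F] V') (h : ∀ x, Q' (e x) = Q x) : {x // Q x = 0} ≃ {x // Q' x = 0} :=
  e.toEquiv.subtypeEquiv fun x => by rw [LinearEquiv.coe_toEquiv, h]

theorem nondeg_congr (e : V ≃ₗ[F] V') (h : ∀ x, Q' (e x) = Q x) (hQ : (polarBilin Q).Nondegenerate) :
    (polarBilin Q').Nondegenerate := by
  refine nondeg_of fun x hx => e.symm.map_eq_zero_iff.1 (eq_zero_of_b hQ fun y => ?_)
  rw [← hx (e y)]
  simp only [polar, ← h, map_add, e.apply_symm_apply]

end Transport

/-- The orthogonal sum of a hyperbolic plane and W. -/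
def hyp (QW : QuadraticForm F W) : QuadraticForm F (F × F × W) :=
  linMulLin (LinearMap.fst F F (F × W)) ((LinearMap.fst F F W).comp (LinearMap.snd F F (F × W)))
    + QW.comp ((LinearMap.snd F F W).comp (LinearMap.snd F F (F × W)))

theorem hyp_apply (QW : QuadraticForm F W) (v : F × F × W) : hyp QW v = v.1 * v.2.1 + QW v.2.2 := rfl

theorem polar_hyp (QW : QuadraticForm F W) (v v' : F × F × W) :
    polar (hyp QW) v v' = v.1 * v'.2.1 + v'.1 * v.2.1 + polar QW v.2.2 v'.2.2 := by
  rw [polar, hyp_apply, hyp_apply, hyp_apply]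
  simp only [polar, Prod.fst_add, Prod.snd_add]
  ring

theorem hyp_nondeg {QW : QuadraticForm F W} (hW : (polarBilin QW).Nondegenerate) :
    (polarBilin (hyp QW)).Nondegenerate := by
  refine nondeg_of fun v hv => ?_
  have h1 : v.2.1 = 0 := by simpa [polar_hyp, b_zero_right] using hv (1, 0, 0)
  have h2 : v.1 = 0 := by simpa [polar_hyp, b_zero_right] using hv (0, 1, 0)
  have h3 : v.2.2 = 0 := eq_zero_of_b hW fun w => by simpa [polar_hyp, h1, h2] using hv (0, 0, w)
  exact Prod.ext h2 (Prod.ext h1 h3)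

/-- Zeros of the sum with a hyperbolic plane. -/
theorem card_zeros_hyp [Finite F] [Finite W] (QW : QuadraticForm F W) :
    Nat.card {v // hyp QW v = 0} =
      Nat.card F * Nat.card {w // QW w = 0} + (Nat.card F - 1) * Nat.card W := by
  classical
  have e₁ : {v : {v // hyp QW v = 0} // v.1.1 = 0} ≃ F × {w // QW w = 0} :=
    { toFun := fun v => (v.1.1.2.1, ⟨v.1.1.2.2, by
        have h := v.1.2
        rwa [hyp_apply, v.2, zero_mul, zero_add] at h⟩)
      invFun := fun p => ⟨⟨(0, p.1, p.2.1), by rw [hyp_apply, zero_mul, zero_add]; exact p.2.2⟩, rfl⟩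
      left_inv := fun ⟨⟨⟨x, y, w⟩, _⟩, hx⟩ => by
        dsimp at hx; subst hx; rfl
      right_inv := fun _ => rfl }
  have e₂ : {v : {v // hyp QW v = 0} // ¬ v.1.1 = 0} ≃ {x : F // x ≠ 0} × W :=
    { toFun := fun v => (⟨v.1.1.1, v.2⟩, v.1.1.2.2)
      invFun := fun p => ⟨⟨(p.1.1, -QW p.2 / p.1.1, p.2), by
        rw [hyp_apply, mul_div_cancel₀ _ p.1.2, neg_add_cancel]⟩, p.1.2⟩
      left_inv := fun ⟨⟨⟨x, y, w⟩, h⟩, hx⟩ => by
        rw [hyp_apply] at h
        refine Subtype.ext (Subtype.ext (Prod.ext rfl (Prod.ext ?_ rfl)))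
        show -QW w / x = y
        rw [div_eq_iff hx]
        linear_combination -h
      right_inv := fun _ => rfl }
  rw [← Nat.card_congr (Equiv.sumCompl fun v : {v // hyp QW v = 0} => v.1.1 = 0), Nat.card_sum,
    Nat.card_congr e₁, Nat.card_congr e₂, Nat.card_prod, Nat.card_prod,
    Nat.card_congr (Equiv.optionSubtypeNe (0 : F)).symm, Finite.card_option, Nat.add_sub_cancel]

/-- The isometry extending h by the identity on the hyperbolic plane. -/
def hypExt {QW : QuadraticForm F W} (h : oGroup QW) : oGroup (hyp QW) :=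
  ⟨(LinearEquiv.refl F F).prodCongr ((LinearEquiv.refl F F).prodCongr h.1), fun v => by
    rw [hyp_apply, hyp_apply]
    exact congrArg _ (h.2 _)⟩

theorem hypExt_apply {QW : QuadraticForm F W} (h : oGroup QW) (v : F × F × W) :
    (hypExt h).1 v = (v.1, v.2.1, h.1 v.2.2) := rfl

theorem hypExt_mul {QW : QuadraticForm F W} (a b : oGroup QW) : hypExt (a * b) = hypExt a * hypExt b :=
  Subtype.ext (LinearEquiv.ext fun _ => rfl)

/-- An isometry fixing the hyperbolic plane pointwise comes from W. -/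
theorem exists_hypExt {QW : QuadraticForm F W} (g : oGroup (hyp QW))
    (he : g.1 (1, 0, 0) = (1, 0, 0)) (hf : g.1 (0, 1, 0) = (0, 1, 0)) : ∃ h, g = hypExt h := by
  have key : ∀ g : oGroup (hyp QW), g.1 (1, 0, 0) = (1, 0, 0) → g.1 (0, 1, 0) = (0, 1, 0) →
      ∀ w, g.1 (0, 0, w) = (0, 0, (g.1 (0, 0, w)).2.2) := by
    intro g he hf w
    have h1 := b_map g.2 ((1, 0, 0) : F × F × W) (0, 0, w)
    have h2 := b_map g.2 ((0, 1, 0) : F × F × W) (0, 0, w)
    rw [he] at h1; rw [hf] at h2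
    simp only [polar_hyp, b_zero_left, one_mul, zero_mul, mul_zero, zero_add, add_zero, mul_one] at h1 h2
    exact Prod.ext h2 (Prod.ext h1 rfl)
  have he' : (g⁻¹).1 (1, 0, 0) = (1, 0, 0) := g.1.symm_apply_eq.2 he.symm
  have hf' : (g⁻¹).1 (0, 1, 0) = (0, 1, 0) := g.1.symm_apply_eq.2 hf.symm
  let j : W →ₗ[F] F × F × W := (LinearMap.inr F F (F × W)).comp (LinearMap.inr F F W)
  let r : F × F × W →ₗ[F] W := (LinearMap.snd F F W).comp (LinearMap.snd F F (F × W))
  have hj : ∀ g : oGroup (hyp QW), g.1 (1, 0, 0) = (1, 0, 0) → g.1 (0, 1, 0) = (0, 1, 0) →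
      ∀ w, j (r (g.1 (j w))) = g.1 (j w) := fun g he hf w => (key g he hf w).symm
  refine ⟨⟨LinearEquiv.ofLinear (r.comp (g.1.toLinearMap.comp j)) (r.comp ((g⁻¹).1.toLinearMap.comp j))
    (LinearMap.ext fun w => by
      show r (g.1 (j (r ((g⁻¹).1 (j w))))) = w
      rw [hj _ he' hf']
      exact congrArg r (g.1.apply_symm_apply (j w)))
    (LinearMap.ext fun w => by
      show r ((g⁻¹).1 (j (r (g.1 (j w))))) = w
      rw [hj _ he hf]
      exact congrArg r (g.1.symm_apply_apply (j w))), fun w => ?_⟩, Subtype.ext (LinearEquiv.ext fun v => ?_)⟩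
  · show QW (r (g.1 (j w))) = QW w
    have h := g.2 (j w)
    rw [← hj g he hf w, hyp_apply, hyp_apply] at h
    simpa [j] using h
  · rw [hypExt_apply]
    have hv : v = v.1 • (1, 0, 0) + v.2.1 • (0, 1, 0) + j v.2.2 := by ext <;> simp [j]
    show g.1 v = (v.1, v.2.1, r (g.1 (j v.2.2)))
    conv_lhs => rw [hv]
    rw [map_add, map_add, map_smul, map_smul, he, hf, ← hj g he hf v.2.2]
    ext <;> simp [j, r]

/-- The order of the isometry group of the sum with a hyperbolic plane. -/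
theorem card_oGroup_hyp [Finite F] [Finite W] {QW : QuadraticForm F W} (hW : (polarBilin QW).Nondegenerate) :
    Nat.card (oGroup (hyp QW)) =
      (Nat.card {v // hyp QW v = 0} - 1) * Nat.card W * Nat.card (oGroup QW) := by
  classical
  haveI : FiniteDimensional F W := Module.Finite.of_finite
  have hV := hyp_nondeg hW
  let P := {p : (F × F × W) × (F × F × W) // hyp QW p.1 = 0 ∧ hyp QW p.2 = 0 ∧ polar (hyp QW) p.1 p.2 = 1}
  have hex : ∀ p : P, ∃ g : oGroup (hyp QW), g.1 (1, 0, 0) = p.1.1 ∧ g.1 (0, 1, 0) = p.1.2 := by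
    rintro ⟨⟨a, d⟩, ha, hd, had⟩
    let r : F × F × W →ₗ[F] W := (LinearMap.snd F F W).comp (LinearMap.snd F F (F × W))
    let L : F × F × W →ₗ[F] F × F × W := (LinearMap.fst F F (F × W)).smulRight a
      + ((LinearMap.fst F F W).comp (LinearMap.snd F F (F × W))).smulRight d
    have hL : ∀ v, L v = v.1 • a + v.2.1 • d := fun v => rfl
    have hinj : Function.Injective (L.comp (LinearMap.ker r).subtype) := by
      rw [← LinearMap.ker_eq_bot, LinearMap.ker_eq_bot']
      rintro ⟨v, hv⟩ h0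
      rw [LinearMap.comp_apply, Submodule.subtype_apply, hL] at h0
      have h1 := congrArg (fun z => polar (hyp QW) z a) h0
      have h2 := congrArg (fun z => polar (hyp QW) z d) h0
      simp only [b_zero_left, b_add_left, b_smul_left, b_self, ha, hd, b_comm d a, had, mul_zero,
        mul_one, zero_add, add_zero] at h1 h2
      exact Subtype.ext (Prod.ext h2 (Prod.ext h1 hv))
    obtain ⟨g, -, hg, hgL⟩ := witt hV full_oGroup (LinearMap.ker r) (L.comp (LinearMap.ker r).subtype) hinj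
      (by
        rintro ⟨v, hv⟩
        show hyp QW (L v) = hyp QW v
        rw [hL, q_add, q_smul, q_smul, b_smul_left, b_smul_right, ha, hd, had, hyp_apply,
          show v.2.2 = 0 from hv, map_zero]
        ring)
    refine ⟨⟨g, hg⟩, (hgL ⟨(1, 0, 0), rfl⟩).trans ?_, (hgL ⟨(0, 1, 0), rfl⟩).trans ?_⟩ <;>
      simp [hL]
  choose gp hgp using hex
  let pr : oGroup (hyp QW) → P := fun g => ⟨(g.1 (1, 0, 0), g.1 (0, 1, 0)),
    by rw [g.2, hyp_apply]; simp, by rw [g.2, hyp_apply]; simp, by rw [b_map g.2, polar_hyp]; simp [b_zero_left]⟩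
  have hfix : ∀ g, ((gp (pr g))⁻¹ * g).1 (1, 0, 0) = (1, 0, 0) ∧ ((gp (pr g))⁻¹ * g).1 (0, 1, 0) = (0, 1, 0) :=
    fun g => ⟨(gp (pr g)).1.symm_apply_eq.2 (hgp (pr g)).1.symm, (gp (pr g)).1.symm_apply_eq.2 (hgp (pr g)).2.symm⟩
  choose hh hhh using fun g => exists_hypExt _ (hfix g).1 (hfix g).2
  have hinjext : Function.Injective (hypExt (QW := QW)) := fun a b h => Subtype.ext (LinearEquiv.ext fun w => by
    have h1 := congrArg (fun g : oGroup (hyp QW) => (g.1 (0, 0, w)).2.2) h
    exact h1)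
  have hpr : ∀ p h, pr (gp p * hypExt h) = p := fun p h => Subtype.ext (Prod.ext
    (show (gp p).1 ((hypExt h).1 (1, 0, 0)) = _ by rw [hypExt_apply, map_zero]; exact (hgp p).1)
    (show (gp p).1 ((hypExt h).1 (0, 1, 0)) = _ by rw [hypExt_apply, map_zero]; exact (hgp p).2))
  have eO : oGroup (hyp QW) ≃ P × oGroup QW :=
    { toFun := fun g => (pr g, hh g)
      invFun := fun x => gp x.1 * hypExt x.2
      left_inv := fun g => by
        show gp (pr g) * hypExt (hh g) = g
        rw [← hhh g, mul_inv_cancel_left]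
      right_inv := fun ⟨p, h⟩ => Prod.ext (hpr p h) (hinjext (by
        rw [← hhh (gp p * hypExt h), hpr, inv_mul_cancel_left])) }
  have hex' : ∀ a : {a // hyp QW a = 0 ∧ a ≠ 0}, ∃ g : oGroup (hyp QW), g.1 (1, 0, 0) = a.1 := by
    rintro ⟨a, ha, ha0⟩
    obtain ⟨d, hd1, hd2⟩ := exists_partner hV ha0 ha
    exact ⟨gp ⟨(a, d), ha, hd2, hd1⟩, (hgp _).1⟩
  choose ga hga using hex'
  have key : ∀ (a : {a // hyp QW a = 0 ∧ a ≠ 0}) (w : W),
      hyp QW ((ga a).1 (-QW w, 1, w)) = 0 ∧ polar (hyp QW) a.1 ((ga a).1 (-QW w, 1, w)) = 1 := fun a w => by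
    refine ⟨by rw [(ga a).2, hyp_apply]; simp, ?_⟩
    rw [← hga a, b_map (ga a).2, polar_hyp]; simp [b_zero_left]
  have eP : P ≃ {a // hyp QW a = 0 ∧ a ≠ 0} × W :=
    { toFun := fun p =>
        let a : {a // hyp QW a = 0 ∧ a ≠ 0} := ⟨p.1.1, p.2.1, fun h => by
          have h1 := p.2.2.2; rw [h, b_zero_left] at h1; exact zero_ne_one h1⟩
        (a, ((ga a).1.symm p.1.2).2.2)
      invFun := fun x => ⟨(x.1.1, (ga x.1).1 (-QW x.2, 1, x.2)), x.1.2.1, key x.1 x.2⟩
      left_inv := fun p => by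
        obtain ⟨⟨a, d⟩, ha, hd, had⟩ := p
        refine Subtype.ext (Prod.ext rfl ?_)
        have ha0 : a ≠ 0 := fun h => by dsimp only at had; rw [h, b_zero_left] at had; exact zero_ne_one had
        show (ga ⟨a, ha, ha0⟩).1 _ = d
        set g := ga ⟨a, ha, ha0⟩ with hg
        have h0 : hyp QW (g.1.symm d) = 0 := by rw [← g.2 (g.1.symm d), g.1.apply_symm_apply]; exact hd
        have h1 : polar (hyp QW) (1, 0, 0) (g.1.symm d) = 1 := by
          rw [← b_map g.2, g.1.apply_symm_apply, hg, hga]; exact had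
        simp only [polar_hyp, one_mul, b_zero_left, mul_zero, add_zero] at h1
        rw [hyp_apply, h1, mul_one] at h0
        rw [← g.1.eq_symm_apply]
        exact Prod.ext (eq_neg_of_add_eq_zero_left h0).symm (Prod.ext h1.symm rfl)
      right_inv := fun ⟨a, w⟩ => by
        refine Prod.ext rfl ?_
        show (((ga a).1.symm ((ga a).1 (-QW w, 1, w)))).2.2 = w
        rw [(ga a).1.symm_apply_apply] }
  have eS : {v // hyp QW v = 0} ≃ Option {a // hyp QW a = 0 ∧ a ≠ 0} :=
    ((Equiv.optionSubtypeNe (⟨0, map_zero _⟩ : {v // hyp QW v = 0})).symm).trans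
      (Equiv.optionCongr ((Equiv.subtypeEquivRight (fun v => by simp [Subtype.ext_iff])).trans
        (Equiv.subtypeSubtypeEquivSubtypeInter (fun v => hyp QW v = 0) (fun v => v ≠ 0))))
  rw [Nat.card_congr eO, Nat.card_prod, Nat.card_congr eP, Nat.card_prod, Nat.card_congr eS,
    Finite.card_option, Nat.add_sub_cancel]

end Cfsg.Agent.Orth
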