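/-
The three standard quadratic forms over a finite field: non-degeneracy, zeros, orders of isometry groups.
-/
import Cfsg.Agent.Lib.Orthogonal.Hyper
import Cfsg.Agent.Lib.Orthogonal.Matrix
import Mathlib.Tactic.Ring
import Mathlib.Tactic.LinearCombination

set_option autoImplicit false

namespace Cfsg.Agent.Orth

open QuadraticMap Module

variable (F : Type*) [Field F]

/-! ### The forms -/

/-- A form on κ extended by m hyperbolic planes. -/
def qPad (m : ℕ) {κ : Type} (QW : QuadraticForm F (κ → F)) : QuadraticForm F ((Fin m ⊕ Fin m) ⊕ κ → F) :=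
  (∑ i : Fin m, linMulLin (LinearMap.proj (R := F) (φ := fun _ => F) (Sum.inl (Sum.inl i)))
      (LinearMap.proj (Sum.inl (Sum.inr i))))
    + QW.comp (LinearMap.funLeft F F Sum.inr)

/-- The binary form z₁² + a z₁ z₂ + b z₂². -/
def qBin (a b : F) : QuadraticForm F (Fin 2 → F) :=
  linMulLin (LinearMap.proj 0) (LinearMap.proj 0) + a • linMulLin (LinearMap.proj 0) (LinearMap.proj 1)
    + b • linMulLin (LinearMap.proj 1) (LinearMap.proj 1)

/-- The form x². -/
def qSq : QuadraticForm F (Unit → F) := linMulLin (LinearMap.proj ()) (LinearMap.proj ())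

/-- The hyperbolic form. -/
def qPlus (m : ℕ) : QuadraticForm F (Fin m ⊕ Fin m → F) :=
  ∑ i : Fin m, linMulLin (LinearMap.proj (R := F) (φ := fun _ => F) (Sum.inl i)) (LinearMap.proj (Sum.inr i))

/-- The odd-dimensional form. -/
def qOdd (m : ℕ) : QuadraticForm F (Unit ⊕ (Fin m ⊕ Fin m) → F) :=
  linMulLin (LinearMap.proj (Sum.inl ())) (LinearMap.proj (Sum.inl ()))
    + ∑ i : Fin m, linMulLin (LinearMap.proj (R := F) (φ := fun _ => F) (Sum.inr (Sum.inl i)))
        (LinearMap.proj (Sum.inr (Sum.inr i)))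

/-- The minus-type form. -/
def qMinus (m : ℕ) (a b : F) : QuadraticForm F ((Fin m ⊕ Fin m) ⊕ Fin 2 → F) := qPad F m (qBin F a b)

variable {F}

theorem qPad_apply {m : ℕ} {κ : Type} (QW : QuadraticForm F (κ → F)) (v : (Fin m ⊕ Fin m) ⊕ κ → F) :
    qPad F m QW v = (∑ i : Fin m, v (.inl (.inl i)) * v (.inl (.inr i))) + QW (v ∘ Sum.inr) := by
  simp only [qPad, QuadraticMap.add_apply, QuadraticMap.sum_apply, QuadraticMap.linMulLin_apply,
    QuadraticMap.comp_apply]
  rfl

theorem qBin_apply (a b : F) (v : Fin 2 → F) : qBin F a b v = v 0 ^ 2 + a * v 0 * v 1 + b * v 1 ^ 2 := by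
  simp [qBin]; ring

theorem qSq_apply (v : Unit → F) : qSq F v = v () ^ 2 := by simp [qSq, _root_.sq]

theorem coe_qPlus (m : ℕ) : ⇑(qPlus F m) = Cfsg.quadFormPlus m F := by
  funext v; simp [qPlus, Cfsg.quadFormPlus]

theorem coe_qOdd (m : ℕ) : ⇑(qOdd F m) = Cfsg.quadFormOdd m F := by
  funext v; simp [qOdd, Cfsg.quadFormOdd, _root_.sq]

theorem coe_qMinus (m : ℕ) (a b : F) : ⇑(qMinus F m a b) = Cfsg.quadFormMinus m F a b := by
  funext v; rw [qMinus, qPad_apply, qBin_apply]; rfl

/-- Reindexing of the hyperbolic form. -/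
def plusPad (m : ℕ) : ((Fin m ⊕ Fin m) ⊕ Fin 0 → F) ≃ₗ[F] (Fin m ⊕ Fin m → F) :=
  LinearEquiv.funCongrLeft F F (Equiv.sumEmpty _ _).symm

theorem plusPad_spec (m : ℕ) (v : (Fin m ⊕ Fin m) ⊕ Fin 0 → F) :
    qPlus F m (plusPad m v) = qPad F m (0 : QuadraticForm F (Fin 0 → F)) v := by
  rw [qPad_apply]; simp [qPlus, plusPad]

/-- Reindexing of the odd form. -/
def oddPad (m : ℕ) : ((Fin m ⊕ Fin m) ⊕ Unit → F) ≃ₗ[F] (Unit ⊕ (Fin m ⊕ Fin m) → F) :=
  LinearEquiv.funCongrLeft F F (Equiv.sumComm _ _)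

theorem oddPad_spec (m : ℕ) (v : (Fin m ⊕ Fin m) ⊕ Unit → F) :
    qOdd F m (oddPad m v) = qPad F m (qSq F) v := by
  rw [qPad_apply, qSq_apply]
  simp [qOdd, oddPad, LinearMap.funLeft]
  ring

/-- Splitting off the last hyperbolic plane. -/
def padSucc (m : ℕ) (κ : Type) :
    ((Fin (m + 1) ⊕ Fin (m + 1)) ⊕ κ → F) ≃ₗ[F] F × F × ((Fin m ⊕ Fin m) ⊕ κ → F) where
  toFun v := (v (.inl (.inl (Fin.last m))), v (.inl (.inr (Fin.last m))),
    fun x => v (Sum.map (Sum.map Fin.castSucc Fin.castSucc) id x))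
  map_add' _ _ := rfl
  map_smul' _ _ := rfl
  invFun p := fun x => x.elim
    (fun y => y.elim (fun i => Fin.snoc (α := fun _ => F) (fun i => p.2.2 (.inl (.inl i))) p.1 i)
      (fun i => Fin.snoc (α := fun _ => F) (fun i => p.2.2 (.inl (.inr i))) p.2.1 i))
    (fun k => p.2.2 (.inr k))
  left_inv v := by
    funext x
    rcases x with (i | i) | k
    · cases i using Fin.lastCases <;> simp
    · cases i using Fin.lastCases <;> simp
    · rfl
  right_inv p := by
    refine Prod.ext ?_ (Prod.ext ?_ (funext fun x => ?_))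
    · simp
    · simp
    · rcases x with (i | i) | k <;> simp

theorem padSucc_spec (m : ℕ) {κ : Type} (QW : QuadraticForm F (κ → F))
    (v : (Fin (m + 1) ⊕ Fin (m + 1)) ⊕ κ → F) : hyp (qPad F m QW) (padSucc m κ v) = qPad F (m + 1) QW v := by
  rw [hyp_apply, qPad_apply, qPad_apply, Fin.sum_univ_castSucc]
  show v (.inl (.inl (Fin.last m))) * v (.inl (.inr (Fin.last m)))
    + ((∑ i : Fin m, v (.inl (.inl i.castSucc)) * v (.inl (.inr i.castSucc))) + QW (v ∘ Sum.inr)) = _
  ring

/-- The pad with no planes. -/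
def padZero (κ : Type) : ((Fin 0 ⊕ Fin 0) ⊕ κ → F) ≃ₗ[F] (κ → F) :=
  LinearEquiv.funCongrLeft F F (Equiv.emptySum _ _).symm

theorem padZero_spec {κ : Type} (QW : QuadraticForm F (κ → F)) (v : (Fin 0 ⊕ Fin 0) ⊕ κ → F) :
    QW (padZero κ v) = qPad F 0 QW v := by
  rw [qPad_apply]; simp; rfl

theorem qPad_nondeg {κ : Type} {QW : QuadraticForm F (κ → F)} (hW : (polarBilin QW).Nondegenerate) :
    ∀ m, (polarBilin (qPad F m QW)).Nondegenerate
  | 0 => nondeg_congr (padZero κ).symm (fun x => by rw [← padZero_spec, LinearEquiv.apply_symm_apply]) hW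
  | m + 1 => nondeg_congr (padSucc m κ).symm (fun x => by rw [← padSucc_spec, LinearEquiv.apply_symm_apply])
      (hyp_nondeg (qPad_nondeg hW m))

theorem zero_nondeg : (polarBilin (0 : QuadraticForm F (Fin 0 → F))).Nondegenerate :=
  nondeg_of fun _ _ => Subsingleton.elim _ _

theorem qPlus_nondeg (m : ℕ) : (polarBilin (qPlus F m)).Nondegenerate :=
  nondeg_congr (plusPad m) (plusPad_spec m) (qPad_nondeg zero_nondeg m)

theorem qSq_nondeg (h2 : (2 : F) ≠ 0) : (polarBilin (qSq F)).Nondegenerate := by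
  refine nondeg_of fun x hx => funext fun u => ?_
  have h := hx x
  rw [b_self, qSq_apply] at h
  simpa [h2] using h

theorem qOdd_nondeg (h2 : (2 : F) ≠ 0) (m : ℕ) : (polarBilin (qOdd F m)).Nondegenerate :=
  nondeg_congr (oddPad m) (oddPad_spec m) (qPad_nondeg (qSq_nondeg h2) m)

theorem polar_qBin (a b : F) (v w : Fin 2 → F) :
    polar (qBin F a b) v w = 2 * (v 0 * w 0) + a * (v 0 * w 1 + w 0 * v 1) + 2 * b * (v 1 * w 1) := by
  simp only [polar, qBin_apply, Pi.add_apply]; ring

section Aniso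

variable [Finite F] {a b : F} (hab : ∀ z₁ z₂ : F, z₁ ^ 2 + a * z₁ * z₂ + b * z₂ ^ 2 = 0 → z₁ = 0 ∧ z₂ = 0)

include hab

theorem qBin_aniso {v : Fin 2 → F} (h : qBin F a b v = 0) : v = 0 := by
  rw [qBin_apply] at h
  obtain ⟨h0, h1⟩ := hab _ _ h
  funext i; fin_cases i <;> assumption

theorem disc_ne : a ^ 2 - 4 * b ≠ 0 := by
  intro hd
  have h2 : (2 : F) = 0 := (hab (-a) 2 (by linear_combination -hd)).2
  have ha : a = 0 := pow_eq_zero_iff two_ne_zero |>.1 (by linear_combination hd + 2 * b * h2)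
  haveI : CharP F 2 := CharTwo.of_one_ne_zero_of_two_eq_zero one_ne_zero h2
  obtain ⟨r, hr⟩ := (FiniteField.isSquare_of_char_two (F := F) (ringChar.eq F 2)) b
  exact one_ne_zero (hab r 1 (by rw [ha, hr]; linear_combination (r * r) * h2)).2

theorem qBin_nondeg : (polarBilin (qBin F a b)).Nondegenerate := by
  refine nondeg_of fun v hv => ?_
  have h0 := hv ![1, 0]
  have h1 := hv ![0, 1]
  simp [polar_qBin] at h0 h1
  funext i
  fin_cases i
  · show v 0 = 0
    exact (mul_eq_zero.1 (show (a ^ 2 - 4 * b) * v 0 = 0 by linear_combination -2 * b * h0 + a * h1)).resolve_left (disc_ne hab)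
  · show v 1 = 0
    exact (mul_eq_zero.1 (show (a ^ 2 - 4 * b) * v 1 = 0 by linear_combination a * h0 - 2 * h1)).resolve_left (disc_ne hab)

theorem qMinus_nondeg (m : ℕ) : (polarBilin (qMinus F m a b)).Nondegenerate := qPad_nondeg (qBin_nondeg hab) m

theorem card_zeros_bin : Nat.card {v // qBin F a b v = 0} = 1 :=
  Nat.card_eq_one_iff_unique.2 ⟨⟨fun x y => Subtype.ext ((qBin_aniso hab x.2).trans (qBin_aniso hab y.2).symm)⟩,
    ⟨⟨0, map_zero _⟩⟩⟩

/-- The conic Q = 1 has q + 1 points. -/
theorem card_norm_one : Nat.card {v // qBin F a b v = 1} = Nat.card F + 1 := by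
  classical
  let r : F → F := fun t => -(2 * t + a) / (t ^ 2 + a * t + b)
  have hd : ∀ t : F, t ^ 2 + a * t + b ≠ 0 := fun t h => one_ne_zero (hab t 1 (by linear_combination h)).2
  have hr : ∀ t, (t ^ 2 + a * t + b) * r t = -(2 * t + a) := fun t => mul_div_cancel₀ _ (hd t)
  have ha2 : (2 : F) = 0 → a ≠ 0 := fun h2 ha => disc_ne hab (by rw [ha]; linear_combination (-2 * b) * h2)
  let f : Option F → {v // qBin F a b v = 1} := fun o => o.elim
    ⟨![-1, 0], by rw [qBin_apply]; simp⟩
    fun t => ⟨![1 + r t * t, r t], by rw [qBin_apply]; simp; linear_combination r t * hr t⟩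
  have hbij : Function.Bijective f := by
    refine ⟨?_, ?_⟩
    · have hne : ∀ t, f none ≠ f (some t) := by
        intro t h
        have h0 := congrFun (Subtype.ext_iff.1 h) 0
        have h1 := congrFun (Subtype.ext_iff.1 h) 1
        simp [f] at h0 h1
        rw [← h1, zero_mul, add_zero] at h0
        have h2 : (2 : F) = 0 := by linear_combination -h0
        exact ha2 h2 (by linear_combination (t ^ 2 + a * t + b) * h1 + hr t - t * h2)
      rintro (_ | t) (_ | t') h
      · rfl
      · exact absurd h (hne t')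
      · exact absurd h.symm (hne t)
      · have h0 := congrFun (Subtype.ext_iff.1 h) 0
        have h1 := congrFun (Subtype.ext_iff.1 h) 1
        simp [f] at h0 h1
        rw [← h1] at h0
        rcases eq_or_ne (r t) 0 with hz | hz
        · have e1 : 2 * t + a = 0 := by linear_combination hr t - (t ^ 2 + a * t + b) * hz
          have e2 : 2 * t' + a = 0 := by
            linear_combination hr t' + (t' ^ 2 + a * t' + b) * h1 - (t' ^ 2 + a * t' + b) * hz
          have h2 : (2 : F) ≠ 0 := fun h2 => ha2 h2 (by linear_combination e1 - t * h2)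
          rw [mul_left_cancel₀ h2 (show (2 : F) * t = 2 * t' by linear_combination e1 - e2)]
        · rw [mul_left_cancel₀ hz (by linear_combination h0 : r t * t = r t * t')]
    · rintro ⟨v, hv⟩
      rw [qBin_apply] at hv
      rcases eq_or_ne (v 1) 0 with h1 | h1
      · rw [h1] at hv
        rcases sq_eq_one_iff.1 (show v 0 ^ 2 = 1 by linear_combination hv) with h0 | h0
        · rcases eq_or_ne (2 : F) 0 with h2 | h2
          · exact ⟨none, Subtype.ext (funext fun i => by
              fin_cases i <;> simp [f, h0, h1]; linear_combination -h2)⟩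
          · refine ⟨some (-a / 2), Subtype.ext ?_⟩
            have hz : r (-a / 2) = 0 := by
              show -(2 * (-a / 2) + a) / _ = 0
              rw [mul_div_cancel₀ _ h2]; simp
            funext i
            fin_cases i <;> simp [f, hz, h0, h1]
        · exact ⟨none, Subtype.ext (funext fun i => by fin_cases i <;> simp [f, h0, h1])⟩
      · refine ⟨some ((v 0 - 1) / v 1), Subtype.ext ?_⟩
        have hrt : r ((v 0 - 1) / v 1) = v 1 := by
          show _ / _ = _
          rw [div_eq_iff (hd _)]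
          field_simp
          linear_combination -hv
        funext i
        fin_cases i
        · simp [f, hrt, mul_div_cancel₀ _ h1]
        · simp [f, hrt]
  rw [← Nat.card_eq_of_bijective f hbij, Finite.card_option]

/-- The binary anisotropic isometry group has order 2(q + 1). -/
theorem card_oGroup_bin : Nat.card (oGroup (qBin F a b)) = 2 * (Nat.card F + 1) := by
  classical
  let e₀ : Fin 2 → F := ![1, 0]
  let S : (Fin 2 → F) →ₗ[F] (Fin 2 → F) :=
    { toFun := fun v => ![v 0 + a * v 1, -v 1]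
      map_add' := fun v w => by funext i; fin_cases i <;> simp <;> ring
      map_smul' := fun c v => by funext i; fin_cases i <;> simp <;> ring }
  have hS : Function.Involutive S := fun v => by funext i; fin_cases i <;> simp [S]
  let σ : oGroup (qBin F a b) := ⟨LinearEquiv.ofInvolutive S hS, fun v => by
    show qBin F a b (S v) = _
    rw [qBin_apply, qBin_apply]; simp [S]; ring⟩
  have hq0 : qBin F a b e₀ = 1 := by rw [qBin_apply]; simp [e₀]
  have hσe : σ.1 e₀ = e₀ := by funext i; show S e₀ i = _; fin_cases i <;> simp [S, e₀]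
  have hσ1 : σ ≠ 1 := fun h => by
    have h1 : S ![0, 1] = ![0, 1] := congrArg (fun g : oGroup (qBin F a b) => g.1 ![0, 1]) h
    have h0 := congrFun h1 0
    have h2 := congrFun h1 1
    simp [S] at h0 h2
    exact disc_ne hab (by rw [h0]; linear_combination (2 * b) * h2)
  have hst : ∀ g : oGroup (qBin F a b), g.1 e₀ = e₀ → g = 1 ∨ g = σ := by
    intro g hg
    obtain ⟨w, hw⟩ : ∃ w, g.1 ![0, 1] = w := ⟨_, rfl⟩
    have h1 := b_map g.2 e₀ ![0, 1]
    rw [hg, hw, polar_qBin, polar_qBin] at h1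
    have h2 := g.2 ![0, 1]
    rw [hw, qBin_apply, qBin_apply] at h2
    simp [e₀] at h1 h2
    have hext : ∀ g' : oGroup (qBin F a b), g'.1 e₀ = e₀ → g'.1 ![0, 1] = w → g = g' := by
      intro g' he hf
      refine Subtype.ext (LinearEquiv.ext fun v => ?_)
      have hv : v = v 0 • e₀ + v 1 • ![0, 1] := by funext i; fin_cases i <;> simp [e₀]
      rw [hv, map_add, map_add, map_smul, map_smul, map_smul, map_smul, hg, hw, he, hf]
    have ht : (1 - w 1) * (1 + w 1) * (a ^ 2 - 4 * b) = 0 := by
      linear_combination 4 * h2 - (2 * w 0 + a * w 1 + a) * h1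
    rcases mul_eq_zero.1 ((mul_eq_zero.1 ht).resolve_right (disc_ne hab)) with ht | ht
    · have hw1 : w 1 = 1 := by linear_combination -ht
      rw [hw1] at h1 h2
      rcases mul_eq_zero.1 (show w 0 * (w 0 + a) = 0 by linear_combination h2) with h0 | h0
      · exact Or.inl (hext 1 rfl (funext fun i => by fin_cases i <;> simp [h0, hw1]))
      · have h2a : 2 * a = 0 := by linear_combination 2 * h0 - h1
        rcases mul_eq_zero.1 h2a with htwo | ha
        · exact Or.inr (hext σ hσe (funext fun i => by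
            show S ![0, 1] i = _
            fin_cases i <;> simp [S, hw1]
            · linear_combination -h0 + a * htwo
            · linear_combination -htwo))
        · exact Or.inl (hext 1 rfl (funext fun i => by
            fin_cases i <;> simp [hw1]
            linear_combination -h0 + ha))
    · have hw1 : w 1 = -1 := by linear_combination ht
      rw [hw1] at h1 h2
      rcases mul_eq_zero.1 (show w 0 * (w 0 - a) = 0 by linear_combination h2) with h0 | h0
      · have h2a : 2 * a = 0 := by linear_combination 2 * h0 - h1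
        rcases mul_eq_zero.1 h2a with htwo | ha
        · exact Or.inl (hext 1 rfl (funext fun i => by
            fin_cases i <;> simp [hw1, h0]
            linear_combination htwo))
        · exact Or.inr (hext σ hσe (funext fun i => by
            show S ![0, 1] i = _
            fin_cases i <;> simp [S, hw1, h0, ha]))
      · exact Or.inr (hext σ hσe (funext fun i => by
          show S ![0, 1] i = _
          fin_cases i <;> simp [S, hw1]
          linear_combination -h0))
  have hex : ∀ v : {v // qBin F a b v = 1}, ∃ g : oGroup (qBin F a b), g.1 e₀ = v.1 := by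
    intro v
    haveI : FiniteDimensional F (Fin 2 → F) := inferInstance
    let p : (Fin 2 → F) →ₗ[F] F := LinearMap.proj 1
    obtain ⟨g, -, hg, hgL⟩ := witt (qBin_nondeg hab) full_oGroup (LinearMap.ker p)
      (((LinearMap.proj (R := F) (φ := fun _ : Fin 2 => F) 0).smulRight v.1).comp (LinearMap.ker p).subtype)
      (by
        rw [← LinearMap.ker_eq_bot, LinearMap.ker_eq_bot']
        rintro ⟨x, hx⟩ h0
        have hv : v.1 ≠ 0 := fun h => zero_ne_one (by rw [← v.2, h, map_zero])
        have h0' : x 0 = 0 := by simpa [hv] using h0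
        refine Subtype.ext (funext fun i => ?_)
        fin_cases i
        · exact h0'
        · exact hx)
      (by
        rintro ⟨x, hx⟩
        show qBin F a b (x 0 • v.1) = qBin F a b x
        have hx1 : x 1 = 0 := hx
        rw [q_smul, v.2, qBin_apply, hx1]
        ring)
    exact ⟨⟨g, hg⟩, (hgL ⟨e₀, show e₀ 1 = 0 by simp [e₀]⟩).trans (by simp [e₀])⟩
  choose gp hgp using hex
  let pr : oGroup (qBin F a b) → {v // qBin F a b v = 1} := fun g => ⟨g.1 e₀, (g.2 _).trans hq0⟩
  have hfix : ∀ g, ((gp (pr g))⁻¹ * g).1 e₀ = e₀ := fun g =>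
    (gp (pr g)).1.symm_apply_eq.2 (hgp (pr g)).symm
  let eO : oGroup (qBin F a b) ≃ {v // qBin F a b v = 1} × Bool :=
    { toFun := fun g => (pr g, decide ((gp (pr g))⁻¹ * g = σ))
      invFun := fun x => gp x.1 * if x.2 then σ else 1
      left_inv := fun g => by
        dsimp only
        rcases hst _ (hfix g) with h | h <;> rw [h]
        · rw [decide_eq_false (Ne.symm hσ1), if_neg Bool.false_ne_true, mul_one]
          exact inv_mul_eq_one.1 h
        · rw [decide_eq_true rfl, if_pos rfl, ← h, mul_inv_cancel_left]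
      right_inv := fun ⟨v, c⟩ => by
        have hp : pr (gp v * if c then σ else 1) = v := Subtype.ext (by
          show (gp v).1 ((if c then σ else 1 : oGroup (qBin F a b)).1 e₀) = v.1
          cases c
          · exact hgp v
          · show (gp v).1 (σ.1 e₀) = v.1
            rw [hσe, hgp])
        dsimp only
        rw [hp, inv_mul_cancel_left]
        cases c
        · simp [Ne.symm hσ1]
        · simp }
  rw [Nat.card_congr eO, Nat.card_prod, card_norm_one hab, Nat.card_eq_fintype_card (α := Bool), Fintype.card_bool, mul_comm]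

end Aniso

/-! ### Zeros and orders -/

section Count

variable [Finite F]

theorem zeros_pad {κ : Type} [Finite κ] (QW : QuadraticForm F (κ → F)) :
    ∀ m, Nat.card F * Nat.card {v // qPad F m QW v = 0} + Nat.card F ^ (m + Nat.card κ)
      = Nat.card F ^ (m + 1) * Nat.card {w // QW w = 0} + Nat.card F ^ (2 * m + Nat.card κ)
  | 0 => by rw [Nat.card_congr (zerosCongr (padZero κ) (padZero_spec QW))]; simp
  | m + 1 => by
    have ih := zeros_pad QW m
    rw [Nat.card_congr (zerosCongr (padSucc m κ) (padSucc_spec m QW)), card_zeros_hyp, Nat.card_fun,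
      Nat.card_sum, Nat.card_sum, Nat.card_fin]
    obtain ⟨q, hq⟩ : ∃ q, Nat.card F = q + 1 := ⟨Nat.card F - 1, by have := Nat.card_pos (α := F); omega⟩
    rw [hq] at ih ⊢
    rw [Nat.add_sub_cancel]
    have e : m + m + Nat.card κ = 2 * m + Nat.card κ := by ring
    rw [e, show m + 1 + Nat.card κ = m + Nat.card κ + 1 by ring,
      show 2 * (m + 1) + Nat.card κ = 2 * m + Nat.card κ + 2 by ring]
    simp only [pow_succ]
    linear_combination (q + 1) * ih

theorem card_oGroup_pad {κ : Type} [Finite κ] {QW : QuadraticForm F (κ → F)}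
    (hW : (polarBilin QW).Nondegenerate) (m : ℕ) :
    Nat.card (oGroup (qPad F (m + 1) QW)) = (Nat.card {v // qPad F (m + 1) QW v = 0} - 1)
      * Nat.card F ^ (2 * m + Nat.card κ) * Nat.card (oGroup (qPad F m QW)) := by
  rw [Nat.card_congr (oCongr (padSucc m κ) (padSucc_spec m QW)).toEquiv,
    card_oGroup_hyp (qPad_nondeg hW m),
    ← Nat.card_congr (zerosCongr (padSucc m κ) (padSucc_spec m QW)),
    Nat.card_fun, Nat.card_sum, Nat.card_sum, Nat.card_fin, two_mul]

theorem zeros_qPlus (k : ℕ) :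
    Nat.card {v // qPlus F (k + 1) v = 0} + Nat.card F ^ k = Nat.card F ^ (k + 1) + Nat.card F ^ (2 * k + 1) := by
  have h := zeros_pad (F := F) (0 : QuadraticForm F (Fin 0 → F)) (k + 1)
  rw [show Nat.card {w : Fin 0 → F // (0 : QuadraticForm F (Fin 0 → F)) w = 0} = 1 from
    Nat.card_eq_one_iff_unique.2 ⟨inferInstance, ⟨⟨0, rfl⟩⟩⟩, Nat.card_fin, mul_one] at h
  rw [← Nat.card_congr (zerosCongr (plusPad (k + 1)) (plusPad_spec (k + 1)))]
  refine Nat.eq_of_mul_eq_mul_left (Nat.card_pos (α := F)) ?_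
  linear_combination h

theorem zeros_qMinus {a b : F} (hab : ∀ z₁ z₂ : F, z₁ ^ 2 + a * z₁ * z₂ + b * z₂ ^ 2 = 0 → z₁ = 0 ∧ z₂ = 0)
    (j : ℕ) : Nat.card {v // qMinus F j a b v = 0} + Nat.card F ^ (j + 1)
      = Nat.card F ^ j + Nat.card F ^ (2 * j + 1) := by
  have h := zeros_pad (qBin F a b) j
  rw [card_zeros_bin hab, Nat.card_fin, mul_one] at h
  refine Nat.eq_of_mul_eq_mul_left (Nat.card_pos (α := F)) ?_
  show Nat.card F * (Nat.card {v // qPad F j (qBin F a b) v = 0} + _) = _
  linear_combination h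

theorem zeros_qOdd (m : ℕ) : Nat.card {v // qOdd F m v = 0} = Nat.card F ^ (2 * m) := by
  have h := zeros_pad (qSq F) m
  rw [show Nat.card {w // qSq F w = 0} = 1 from Nat.card_eq_one_iff_unique.2 ⟨⟨fun x y => by
      have hx := x.2; have hy := y.2
      rw [qSq_apply, sq_eq_zero_iff] at hx hy
      exact Subtype.ext (funext fun u => hx.trans hy.symm)⟩, ⟨⟨0, map_zero _⟩⟩⟩, Nat.card_unique (α := Unit), mul_one] at h
  rw [← Nat.card_congr (zerosCongr (oddPad m) (oddPad_spec m))]
  refine Nat.eq_of_mul_eq_mul_left (Nat.card_pos (α := F)) ?_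
  have e : Nat.card F * Nat.card F ^ (2 * m) = Nat.card F ^ (2 * m + 1) := by ring
  omega

theorem sub_one_mul_add_one (x : ℕ) : (x - 1) * (x + 1) = x * x - 1 := by
  rw [mul_comm, ← Nat.mul_self_sub_mul_self_eq, one_mul]

theorem card_oGroup_qPlus : ∀ k : ℕ, Nat.card (oGroup (qPlus F (k + 1))) =
    2 * Nat.card F ^ ((k + 1) * k) * (Nat.card F ^ (k + 1) - 1)
      * ∏ i ∈ Finset.range k, (Nat.card F ^ (2 * (i + 1)) - 1) := by
  have hO : ∀ m, Nat.card (oGroup (qPlus F m)) = Nat.card (oGroup (qPad F m (0 : QuadraticForm F (Fin 0 → F)))) :=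
    fun m => (Nat.card_congr (oCongr (plusPad m) (plusPad_spec m)).toEquiv).symm
  have hZ : ∀ m, Nat.card {v // qPad F m (0 : QuadraticForm F (Fin 0 → F)) v = 0} = Nat.card {v // qPlus F m v = 0} :=
    fun m => Nat.card_congr (zerosCongr (plusPad m) (plusPad_spec m))
  have hz : ∀ k, Nat.card {v // qPlus F (k + 1) v = 0} - 1
      = (Nat.card F ^ (k + 1) - 1) * (Nat.card F ^ k + 1) := fun k => by
    have h := zeros_qPlus (F := F) k
    obtain ⟨A, hA⟩ : ∃ A, Nat.card F ^ (k + 1) = A + 1 :=
      ⟨_, (Nat.sub_add_cancel (Nat.one_le_pow _ _ Nat.card_pos)).symm⟩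
    have hp : Nat.card F ^ (2 * k + 1) = (A + 1) * Nat.card F ^ k := by rw [← hA, ← pow_add]; ring_nf
    rw [hA, Nat.add_sub_cancel, mul_add, mul_one]
    rw [hA, hp, add_mul, one_mul] at h
    omega
  intro k
  induction k with
  | zero =>
    rw [hO, card_oGroup_pad zero_nondeg, hZ, hz, Nat.card_congr (oCongr (padZero (Fin 0)) (padZero_spec _)).toEquiv,
      show Nat.card (oGroup (0 : QuadraticForm F (Fin 0 → F))) = 1 from Nat.card_eq_one_iff_unique.2
        ⟨⟨fun x y => Subtype.ext (LinearEquiv.ext fun v => Subsingleton.elim _ _)⟩, inferInstance⟩]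
    simp; ring
  | succ k ih =>
    have e : Nat.card F ^ (2 * (k + 1)) - 1 = (Nat.card F ^ (k + 1) - 1) * (Nat.card F ^ (k + 1) + 1) := by
      rw [sub_one_mul_add_one, ← pow_add, two_mul]
    rw [hO, card_oGroup_pad zero_nondeg, hZ, hz, ← hO, ih, Finset.prod_range_succ, e, Nat.card_fin]
    ring

theorem card_oGroup_qOdd (h2 : (2 : F) ≠ 0) : ∀ m : ℕ, Nat.card (oGroup (qOdd F m)) =
    2 * Nat.card F ^ (m ^ 2) * ∏ i ∈ Finset.range m, (Nat.card F ^ (2 * (i + 1)) - 1) := by
  have hO : ∀ m, Nat.card (oGroup (qOdd F m)) = Nat.card (oGroup (qPad F m (qSq F))) :=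
    fun m => (Nat.card_congr (oCongr (oddPad m) (oddPad_spec m)).toEquiv).symm
  have hbase : Nat.card (oGroup (qSq F)) = 2 := by
    classical
    let ν : oGroup (qSq F) := ⟨LinearEquiv.neg F, fun v => QuadraticMap.map_neg _ v⟩
    have hν : ν ≠ 1 := fun h => h2 (by
      have := congrArg (fun g : oGroup (qSq F) => g.1 (fun _ => 1) ()) h
      simp [ν] at this
      linear_combination -this)
    have hall : ∀ g : oGroup (qSq F), g = 1 ∨ g = ν := by
      intro g
      have h := g.2 (fun _ => 1)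
      rw [qSq_apply, qSq_apply, one_pow] at h
      have hv : ∀ v : Unit → F, g.1 v = v () • g.1 (fun _ => 1) := fun v => by
        rw [← map_smul]; congr 1; funext u; simp
      rcases sq_eq_one_iff.1 h with h | h
      · refine Or.inl (Subtype.ext (LinearEquiv.ext fun v => funext fun u => ?_))
        rw [hv]; simp [h]
      · refine Or.inr (Subtype.ext (LinearEquiv.ext fun v => funext fun u => ?_))
        rw [hv]; simp [h, ν]
    rw [Nat.card_eq_two_iff]
    exact ⟨1, ν, hν.symm, Set.eq_univ_iff_forall.2 fun g => hall g⟩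
  intro m
  induction m with
  | zero => rw [hO, Nat.card_congr (oCongr (padZero Unit) (padZero_spec _)).toEquiv, hbase]; simp
  | succ m ih =>
    rw [hO, card_oGroup_pad (qSq_nondeg h2), Nat.card_congr (zerosCongr (oddPad (m + 1)) (oddPad_spec (m + 1))),
      zeros_qOdd, ← hO, ih, Finset.prod_range_succ, Nat.card_unique (α := Unit)]
    ring

theorem card_oGroup_qMinus {a b : F} (hab : ∀ z₁ z₂ : F, z₁ ^ 2 + a * z₁ * z₂ + b * z₂ ^ 2 = 0 → z₁ = 0 ∧ z₂ = 0) :
    ∀ j : ℕ, Nat.card (oGroup (qMinus F j a b)) = 2 * Nat.card F ^ ((j + 1) * j) * (Nat.card F ^ (j + 1) + 1)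
      * ∏ i ∈ Finset.range j, (Nat.card F ^ (2 * (i + 1)) - 1) := by
  have hz : ∀ j, Nat.card {v // qMinus F (j + 1) a b v = 0} - 1
      = (Nat.card F ^ (j + 2) + 1) * (Nat.card F ^ (j + 1) - 1) := fun j => by
    have h : Nat.card {v // qMinus F (j + 1) a b v = 0} + Nat.card F ^ (j + 2)
        = Nat.card F ^ (j + 1) + Nat.card F ^ (2 * (j + 1) + 1) := zeros_qMinus hab (j + 1)
    obtain ⟨A, hA⟩ : ∃ A, Nat.card F ^ (j + 1) = A + 1 :=
      ⟨_, (Nat.sub_add_cancel (Nat.one_le_pow _ _ Nat.card_pos)).symm⟩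
    have hp : Nat.card F ^ (2 * (j + 1) + 1) = Nat.card F ^ (j + 2) * (A + 1) := by rw [← hA, ← pow_add]; ring_nf
    rw [hA, Nat.add_sub_cancel, add_mul, one_mul]
    rw [hA, hp, show Nat.card F ^ (j + 2) * (A + 1) = Nat.card F ^ (j + 2) * A + Nat.card F ^ (j + 2) by ring] at h
    omega
  intro j
  induction j with
  | zero => rw [qMinus, Nat.card_congr (oCongr (padZero (Fin 2)) (padZero_spec _)).toEquiv, card_oGroup_bin hab]; simp
  | succ j ih =>
    have e : Nat.card F ^ (2 * (j + 1)) - 1 = (Nat.card F ^ (j + 1) - 1) * (Nat.card F ^ (j + 1) + 1) := by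
      rw [sub_one_mul_add_one, ← pow_add, two_mul]
    rw [qMinus] at ih
    rw [qMinus, card_oGroup_pad (qBin_nondeg hab), show Nat.card {v // qPad F (j + 1) (qBin F a b) v = 0} - 1 = _ from hz j,
      ih, Finset.prod_range_succ, e, Nat.card_fin]
    ring

theorem card_isometryGroup {ι : Type} [Fintype ι] [DecidableEq ι] (Q : QuadraticForm F (ι → F))
    {f : (ι → F) → F} (hf : ⇑Q = f) : Nat.card (Cfsg.isometryGroup F f) = Nat.card (oGroup Q) := by
  subst hf
  exact Nat.card_congr (isoEquiv Q).toEquiv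

end Count

end Cfsg.Agent.Orth
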