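/-
Membership of -1 in Omega for the two even-dimensional standard forms.
-/
import Cfsg.Agent.Lib.Orthogonal.OmegaTheory
import Cfsg.Agent.Lib.Orthogonal.Counts

set_option autoImplicit false

namespace Cfsg.Agent.Orth

open QuadraticMap Module

variable {F : Type*} [Field F] [Fintype F]

theorem isSquare_neg_one_pow (hodd : Odd (Fintype.card F)) (m : ℕ) :
    IsSquare ((-1 : F) ^ m) ↔ Fintype.card F ^ m % 4 = 1 := by
  have h41 : Fintype.card F % 4 = 1 ∨ Fintype.card F % 4 = 3 := by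
    have := Nat.odd_iff.1 hodd; omega
  rw [Nat.pow_mod]
  rcases Nat.even_or_odd m with hm | hm
  · refine iff_of_true (by rw [hm.neg_one_pow]; exact ⟨1, by ring⟩) ?_
    obtain ⟨k, rfl⟩ := hm
    rw [← two_mul, pow_mul]
    rcases h41 with h | h <;> rw [h] <;> simp [Nat.pow_mod]
  · rw [hm.neg_one_pow, FiniteField.isSquare_neg_one_iff]
    obtain ⟨k, rfl⟩ := hm
    rw [pow_succ, pow_mul]
    rcases h41 with h | h <;> rw [h] <;> simp [Nat.mul_mod, Nat.pow_mod]

theorem two_ne_zero_of_odd (hodd : Odd (Fintype.card F)) : (2 : F) ≠ 0 := by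
  obtain ⟨k, hk⟩ := hodd
  intro h
  have h0 := Nat.cast_card_eq_zero F
  rw [hk] at h0
  push_cast at h0
  exact one_ne_zero (by linear_combination h0 - (k : F) * h)

theorem isSquare_mul_nonsquare (h2 : (2 : F) ≠ 0) {x d : F} (hx : x ≠ 0) (hd : d ≠ 0) (hns : ¬ IsSquare d) :
    IsSquare (x * d) ↔ ¬ IsSquare x := by
  classical
  have hchar : ringChar F ≠ 2 := fun h => h2 (by haveI := ringChar.of_eq h; exact CharTwo.two_eq_zero)
  rw [← quadraticChar_one_iff_isSquare (mul_ne_zero hx hd), ← quadraticChar_neg_one_iff_not_isSquare,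
    map_mul, quadraticChar_neg_one_iff_not_isSquare.2 hns]
  rcases quadraticChar_dichotomy hx with h | h <;> rw [h] <;> norm_num

/-- Membership of -1 in Omega from an orthogonal basis. -/
theorem neg_one_mem_iff {ι : Type} [Fintype ι] [DecidableEq ι] (Q : QuadraticForm F (ι → F))
    (hQ : (polarBilin Q).Nondegenerate) (h2 : (2 : F) ≠ 0) (hn : 2 ≤ Fintype.card ι) (heven : Even (Fintype.card ι))
    {κ : Type} [Fintype κ] [DecidableEq κ] (e : κ → (ι → F)) (horth : ∀ i j, i ≠ j → polar Q (e i) (e j) = 0)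
    (hne : ∀ i, Q (e i) ≠ 0) (hcard : Fintype.card κ = Fintype.card ι) :
    (∃ g : ↥(Cfsg.isometryGroup F (⇑Q)), g ∈ Cfsg.Omega F (⇑Q) ∧ ((g : GL ι F) : Matrix ι ι F) = -1) ↔
      IsSquare (∏ i, Q (e i)) := by
  have hq : Fintype.card F ≠ 2 ∨ Fintype.card ι ≠ 4 := Or.inl fun hc => h2 (by
    have h := Nat.cast_card_eq_zero F; rw [hc] at h; exact_mod_cast h)
  obtain ⟨χ, hker, -, hχ⟩ := exists_matrix_spinor Q hQ hn hq
  have hprod : ∏ i, Q (e i) ≠ 0 := Finset.prod_ne_zero_iff.2 fun i _ => hne i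
  let g₀ : ↥(Cfsg.isometryGroup F (⇑Q)) := ⟨-1, mem_isometryGroup.2 fun x => by
    rw [Units.val_neg, Units.val_one, Matrix.neg_mulVec, Matrix.one_mulVec, QuadraticMap.map_neg]⟩
  have hg₀ : ((g₀ : GL ι F) : Matrix ι ι F) = -1 := rfl
  rw [← hker, ← sqc_eq_one_iff hprod]
  constructor
  · rintro ⟨g, hg, hgm⟩
    rw [← spinor_neg_one Q hQ h2 χ hχ e horth hne hcard hgm, MonoidHom.mem_ker.1 hg]
    rfl
  · intro h
    refine ⟨g₀, MonoidHom.mem_ker.2 (Prod.ext ?_ ((spinor_neg_one Q hQ h2 χ hχ e horth hne hcard hg₀).trans h)), hg₀⟩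
    have hd := det_eq_sgn Q hQ hq χ hχ g₀
    rw [hg₀, Matrix.det_neg, Matrix.det_one, mul_one, heven.neg_one_pow] at hd
    rcases (show ∀ x : ZMod 2, x = 0 ∨ x = 1 by decide) (Multiplicative.toAdd (χ g₀).1) with he | he
    · exact Multiplicative.toAdd.injective he
    · rw [he, sgn, if_neg one_ne_zero] at hd
      exact absurd (by linear_combination hd) h2

/-- The orthogonal frame of the hyperbolic form. -/
def plusFrame (F : Type*) [Field F] (m : ℕ) : Fin m ⊕ Fin m → (Fin m ⊕ Fin m → F) :=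
  Sum.elim (fun i => Sum.elim (Pi.single i 1) (Pi.single i 1)) (fun i => Sum.elim (Pi.single i 1) (Pi.single i (-1)))

theorem qPlus_elim {m : ℕ} (x y : Fin m → F) : qPlus F m (Sum.elim x y) = ∑ i, x i * y i := by
  simp [coe_qPlus, Cfsg.quadFormPlus]

theorem polar_qPlus {m : ℕ} (x y x' y' : Fin m → F) :
    polar (qPlus F m) (Sum.elim x y) (Sum.elim x' y') = ∑ i, (x i * y' i + x' i * y i) := by
  simp only [polar, coe_qPlus, Cfsg.quadFormPlus, Pi.add_apply, Sum.elim_inl, Sum.elim_inr,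
    ← Finset.sum_sub_distrib]
  exact Finset.sum_congr rfl fun i _ => by ring

theorem plusFrame_orth (m : ℕ) (i j : Fin m ⊕ Fin m) (h : i ≠ j) :
    polar (qPlus F m) (plusFrame F m i) (plusFrame F m j) = 0 := by
  rcases i with i | i <;> rcases j with j | j <;>
    simp only [plusFrame, Sum.elim_inl, Sum.elim_inr, polar_qPlus] <;>
    simp only [ne_eq, Sum.inl.injEq, Sum.inr.injEq, reduceCtorEq, not_false_iff] at h <;>
    rw [Finset.sum_eq_single i (fun k _ hk => by simp [Pi.single_eq_of_ne hk]) (by simp)] <;>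
    rcases eq_or_ne i j with rfl | hij
  all_goals first | exact absurd rfl h | simp; done | simp [Pi.single_apply, hij]

theorem plusFrame_val (m : ℕ) (i : Fin m) :
    qPlus F m (plusFrame F m (.inl i)) = 1 ∧ qPlus F m (plusFrame F m (.inr i)) = -1 := by
  refine ⟨?_, ?_⟩ <;> simp only [plusFrame, Sum.elim_inl, Sum.elim_inr, qPlus_elim] <;>
    rw [Finset.sum_eq_single i (fun k _ hk => by simp [Pi.single_eq_of_ne hk]) (by simp)] <;> simp

theorem plusFrame_prod (m : ℕ) : ∏ i, qPlus F m (plusFrame F m i) = (-1) ^ m := by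
  simp [(plusFrame_val m _).1, (plusFrame_val m _).2]

theorem neg_one_plus (hodd : Odd (Fintype.card F)) (m : ℕ) (hm : 1 ≤ m) :
    (∃ g : ↥(Cfsg.isometryGroup F (⇑(qPlus F m))), g ∈ Cfsg.Omega F (⇑(qPlus F m)) ∧
      ((g : GL (Fin m ⊕ Fin m) F) : Matrix (Fin m ⊕ Fin m) (Fin m ⊕ Fin m) F) = -1) ↔
      Fintype.card F ^ m % 4 = 1 := by
  have hne : ∀ i, qPlus F m (plusFrame F m i) ≠ 0 := by
    rintro (i | i)
    · rw [(plusFrame_val m i).1]; exact one_ne_zero
    · rw [(plusFrame_val m i).2]; exact neg_ne_zero.2 one_ne_zero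
  rw [neg_one_mem_iff (qPlus F m) (qPlus_nondeg m) (two_ne_zero_of_odd hodd) (by simp; omega)
    (by simp) (plusFrame F m) (plusFrame_orth m) hne rfl, plusFrame_prod, isSquare_neg_one_pow hodd]

variable {a b : F}

/-- The orthogonal frame of the minus form. -/
def minusFrame (F : Type*) [Field F] (j : ℕ) (a : F) :
    (Fin j ⊕ Fin j) ⊕ Fin 2 → ((Fin j ⊕ Fin j) ⊕ Fin 2 → F) :=
  Sum.elim (fun x => Sum.elim (plusFrame F j x) 0) (fun i => Sum.elim 0 (if i = 0 then ![1, 0] else ![a, -2]))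

theorem qMinus_elim {j : ℕ} (a b : F) (x : Fin j ⊕ Fin j → F) (y : Fin 2 → F) :
    qMinus F j a b (Sum.elim x y) = qPlus F j x + qBin F a b y := by
  rw [qMinus, qPad_apply, coe_qPlus]
  rfl

theorem polar_qMinus {j : ℕ} (a b : F) (x x' : Fin j ⊕ Fin j → F) (y y' : Fin 2 → F) :
    polar (qMinus F j a b) (Sum.elim x y) (Sum.elim x' y') = polar (qPlus F j) x x' + polar (qBin F a b) y y' := by
  have e : Sum.elim x y + Sum.elim x' y' = Sum.elim (x + x') (y + y') := funext fun i => by cases i <;> rfl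
  simp only [polar, e, qMinus_elim]
  ring

theorem neg_one_minus (hodd : Odd (Fintype.card F)) (j : ℕ)
    (hab : ∀ z₁ z₂ : F, z₁ ^ 2 + a * z₁ * z₂ + b * z₂ ^ 2 = 0 → z₁ = 0 ∧ z₂ = 0) :
    (∃ g : ↥(Cfsg.isometryGroup F (⇑(qMinus F j a b))), g ∈ Cfsg.Omega F (⇑(qMinus F j a b)) ∧
      ((g : GL ((Fin j ⊕ Fin j) ⊕ Fin 2) F) : Matrix ((Fin j ⊕ Fin j) ⊕ Fin 2) ((Fin j ⊕ Fin j) ⊕ Fin 2) F) = -1) ↔
      Fintype.card F ^ (j + 1) % 4 = 3 := by
  have h2 := two_ne_zero_of_odd hodd
  have hdisc := disc_ne hab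
  have hns : ¬ IsSquare (a ^ 2 - 4 * b) := by
    rintro ⟨s, hs⟩
    refine one_ne_zero (hab ((-a + s) / 2) 1 ?_).2
    field_simp
    linear_combination -hs
  have hvals : ∀ x, qMinus F j a b (minusFrame F j a (.inl x)) = qPlus F j (plusFrame F j x) := fun x => by
    simp [minusFrame, qMinus_elim]
  have h0 : qMinus F j a b (minusFrame F j a (.inr 0)) = 1 := by
    simp [minusFrame, qMinus_elim, qBin_apply]
  have h1 : qMinus F j a b (minusFrame F j a (.inr 1)) = -(a ^ 2 - 4 * b) := by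
    simp [minusFrame, qMinus_elim, qBin_apply]; ring
  have hne : ∀ i, qMinus F j a b (minusFrame F j a i) ≠ 0 := by
    rintro ((i | i) | i)
    · rw [hvals, (plusFrame_val j i).1]; exact one_ne_zero
    · rw [hvals, (plusFrame_val j i).2]; exact neg_ne_zero.2 one_ne_zero
    · fin_cases i
      · exact h0 ▸ one_ne_zero
      · exact h1 ▸ neg_ne_zero.2 hdisc
  have horth : ∀ i k, i ≠ k → polar (qMinus F j a b) (minusFrame F j a i) (minusFrame F j a k) = 0 := by
    rintro (x | i) (y | k) h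
    · simp only [minusFrame, Sum.elim_inl, polar_qMinus]
      rw [plusFrame_orth j x y (fun e => h (e ▸ rfl)), b_zero_left, add_zero]
    · simp only [minusFrame, Sum.elim_inl, Sum.elim_inr, polar_qMinus]
      rw [b_zero_right, b_zero_left, add_zero]
    · simp only [minusFrame, Sum.elim_inl, Sum.elim_inr, polar_qMinus]
      rw [b_zero_left, b_zero_right, add_zero]
    · simp only [minusFrame, Sum.elim_inr, polar_qMinus, b_zero_left, zero_add]
      have hp : polar (qBin F a b) ![1, 0] ![a, -2] = 0 := by simp [polar_qBin]; ring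
      rcases (show ∀ x : Fin 2, x = 0 ∨ x = 1 by decide) i with rfl | rfl <;>
        rcases (show ∀ x : Fin 2, x = 0 ∨ x = 1 by decide) k with rfl | rfl
      · exact absurd rfl h
      · rw [if_pos rfl, if_neg (by decide)]; exact hp
      · rw [if_pos rfl, if_neg (by decide), b_comm]; exact hp
      · exact absurd rfl h
  have hprod : ∏ i, qMinus F j a b (minusFrame F j a i) = (-1) ^ (j + 1) * (a ^ 2 - 4 * b) := by
    rw [Fintype.prod_sum_type, Fin.prod_univ_two, h0, h1, Finset.prod_congr rfl (fun x _ => hvals x), plusFrame_prod]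
    ring
  rw [neg_one_mem_iff (qMinus F j a b) (qMinus_nondeg hab j) h2 (by simp)
    (by rw [Fintype.card_sum, Fintype.card_sum, Fintype.card_fin, Fintype.card_fin]; exact ⟨j + 1, by ring⟩)
    (minusFrame F j a) horth hne rfl, hprod,
    isSquare_mul_nonsquare h2 (pow_ne_zero _ (neg_ne_zero.2 one_ne_zero)) hdisc hns, isSquare_neg_one_pow hodd]
  have : Fintype.card F ^ (j + 1) % 2 = 1 := Nat.odd_iff.1 hodd.pow
  omega

end Cfsg.Agent.Orth
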