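/-
Orthogonal complements of non-degenerate subspaces, singular vectors, hyperbolic pairs.
-/
import Cfsg.Agent.Lib.Orthogonal.OmegaTheory

set_option autoImplicit false

namespace Cfsg.Agent.Orth

open QuadraticMap Module

variable {F V : Type*} [Field F] [AddCommGroup V] [Module F V] {Q : QuadraticForm F V}

/-- The orthogonal of a subspace for the polar form. -/
def perp (Q : QuadraticForm F V) (P : Submodule F V) : Submodule F V where
  carrier := {x | ∀ b ∈ P, polar Q b x = 0}
  zero_mem' b _ := b_zero_right b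
  add_mem' {x y} hx hy b hb := by rw [b_add_right, hx b hb, hy b hb, add_zero]
  smul_mem' c x hx b hb := by rw [b_smul_right, hx b hb, mul_zero]

theorem mem_perp {P : Submodule F V} {x : V} : x ∈ perp Q P ↔ ∀ b ∈ P, polar Q b x = 0 := Iff.rfl

theorem mem_perp_span {s : Set V} {x : V} :
    x ∈ perp Q (Submodule.span F s) ↔ ∀ b ∈ s, polar Q b x = 0 :=
  ⟨fun h b hb => h b (Submodule.subset_span hb), fun h b hb => by
    induction hb using Submodule.span_induction with
    | mem a ha => exact h a ha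
    | zero => exact b_zero_left x
    | add a c _ _ ha hc => rw [b_add_left, ha, hc, add_zero]
    | smul t a _ ha => rw [b_smul_left, ha, mul_zero]⟩

/-- The restriction of Q to a subspace. -/
abbrev restr (Q : QuadraticForm F V) (R : Submodule F V) : QuadraticForm F R := Q.comp R.subtype

theorem restr_apply (R : Submodule F V) (x : R) : restr Q R x = Q (x : V) := rfl

theorem polar_restr (R : Submodule F V) (x y : R) : polar (restr Q R) x y = polar Q (x : V) (y : V) := rfl

theorem nondeg_restr {R : Submodule F V} (h : ∀ a ∈ R, (∀ b ∈ R, polar Q a b = 0) → a = 0) :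
    (polarBilin (restr Q R)).Nondegenerate := by
  have key : ∀ a : R, (∀ b, polar (restr Q R) a b = 0) → a = 0 := fun a ha =>
    Subtype.ext (h a a.2 fun b hb => ha ⟨b, hb⟩)
  exact ⟨fun a ha => key a ha, fun a ha => key a fun b => by rw [b_comm]; exact ha b⟩

variable [FiniteDimensional F V]

/-- Orthogonal projection along a non-degenerate subspace. -/
theorem exists_proj {P : Submodule F V} (hP : ∀ a ∈ P, (∀ b ∈ P, polar Q a b = 0) → a = 0) (x : V) :
    ∃ p ∈ P, x - p ∈ perp Q P := by
  obtain ⟨p, hp⟩ := exists_rep (nondeg_restr hP) ((polarBilin Q x).comp P.subtype)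
  refine ⟨p, p.2, fun b hb => ?_⟩
  have h := hp ⟨b, hb⟩
  rw [polar_restr] at h
  rw [b_sub_right, h, b_comm b x]
  exact sub_self _

theorem perp_nondeg (hQ : (polarBilin Q).Nondegenerate) {P : Submodule F V}
    (hP : ∀ a ∈ P, (∀ b ∈ P, polar Q a b = 0) → a = 0) :
    ∀ a ∈ perp Q P, (∀ b ∈ perp Q P, polar Q a b = 0) → a = 0 := by
  intro a ha h
  refine eq_zero_of_b hQ fun x => ?_
  obtain ⟨p, hp, hxp⟩ := exists_proj hP x
  have h1 := h _ hxp
  rw [b_sub_right, b_comm a p, ha p hp, sub_zero] at h1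
  exact h1

theorem finrank_perp {P : Submodule F V} (hP : ∀ a ∈ P, (∀ b ∈ P, polar Q a b = 0) → a = 0) :
    finrank F V ≤ finrank F P + finrank F (perp Q P) := by
  have htop : (⊤ : Submodule F V) ≤ P ⊔ perp Q P := fun x _ => by
    obtain ⟨p, hp, hxp⟩ := exists_proj hP x
    exact Submodule.mem_sup.2 ⟨p, hp, x - p, hxp, add_sub_cancel p x⟩
  have h1 := Submodule.finrank_mono htop
  rw [finrank_top] at h1
  exact h1.trans (Submodule.finrank_add_le_finrank_add_finrank P (perp Q P))

/-- Isotropic vectors exist in dimension three. -/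
theorem exists_singular [Finite F] (hQ : (polarBilin Q).Nondegenerate) (hn : 3 ≤ finrank F V) :
    ∃ e : V, e ≠ 0 ∧ Q e = 0 := by
  haveI : Nontrivial V := Module.nontrivial_of_finrank_pos (R := F) (by omega)
  obtain ⟨u, hu⟩ := exists_ne_zero_value hQ
  rcases eq_or_ne (2 : F) 0 with h2 | h2
  · haveI : CharP F 2 := CharTwo.of_one_ne_zero_of_two_eq_zero one_ne_zero h2
    obtain ⟨w, hwu, hw⟩ : ∃ w, w ∉ Submodule.span F {u} ∧ polar Q u w = 0 := by
      by_contra! hall
      have hle : LinearMap.ker (polarBilin Q u) ≤ Submodule.span F {u} := fun w hw => by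
        by_contra hwu
        exact hall w hwu hw
      have h1 := (polarBilin Q u).finrank_range_add_finrank_ker
      have h3 := (LinearMap.range (polarBilin Q u)).finrank_le
      have h4 := Submodule.finrank_mono hle
      rw [finrank_span_singleton (fun h0 => hu (by rw [h0, map_zero]))] at h4
      rw [Module.finrank_self] at h3
      omega
    obtain ⟨t, ht⟩ := (FiniteField.isSquare_of_char_two (ringChar.eq F 2)) (-Q w / Q u)
    refine ⟨w + t • u, fun h0 => hwu (Submodule.mem_span_singleton.2 ⟨-t, ?_⟩), ?_⟩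
    · rw [neg_smul]; exact (eq_neg_of_add_eq_zero_left h0).symm
    · rw [q_add, q_smul, b_smul_right, b_comm w u, hw, ← ht, div_mul_cancel₀ _ hu]; ring
  · have hB : polar Q u u ≠ 0 := by rw [b_self]; exact mul_ne_zero h2 hu
    have hP : ∀ a ∈ Submodule.span F {u}, (∀ b ∈ Submodule.span F {u}, polar Q a b = 0) → a = 0 := by
      intro a ha h
      obtain ⟨t, rfl⟩ := Submodule.mem_span_singleton.1 ha
      have h1 := h u (Submodule.mem_span_singleton_self u)
      rw [b_smul_left] at h1
      rw [(mul_eq_zero.1 h1).resolve_right hB, zero_smul]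
    have hd := finrank_perp hP
    rw [finrank_span_singleton (fun h0 => hu (by rw [h0, map_zero]))] at hd
    obtain ⟨v, hv⟩ := exists_value (nondeg_restr (perp_nondeg hQ hP)) (by omega) (-Q u)
    have huv : polar Q u v = 0 := v.2 u (Submodule.mem_span_singleton_self u)
    refine ⟨u + v, fun h0 => hB ?_, ?_⟩
    · rw [show (v : V) = (-1 : F) • u by rw [neg_one_smul]; exact eq_neg_of_add_eq_zero_right h0,
        b_smul_right] at huv
      linear_combination -huv
    · rw [q_add, huv, show Q (v : V) = -Q u from hv]; ring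

/-- The span of a hyperbolic pair is non-degenerate. -/
theorem hyp_pair_nondeg {e f : V} (he : Q e = 0) (hf : Q f = 0) (hef : polar Q e f = 1) :
    ∀ a ∈ Submodule.span F {e, f}, (∀ b ∈ Submodule.span F {e, f}, polar Q a b = 0) → a = 0 := by
  intro a ha h
  obtain ⟨s, t, rfl⟩ := Submodule.mem_span_pair.1 ha
  have h1 := h e (Submodule.subset_span (by simp))
  have h2 := h f (Submodule.subset_span (by simp))
  simp only [b_add_left, b_smul_left, b_self, he, hf, hef, b_comm f e, mul_zero, mul_one, zero_add, add_zero] at h1 h2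
  rw [h1, h2, zero_smul, zero_smul, add_zero]

theorem finrank_span_pair_le (e f : V) : finrank F (Submodule.span F ({e, f} : Set V)) ≤ 2 := by
  classical
  have h := finrank_span_finset_le_card (R := F) ({e, f} : Finset V)
  rw [Finset.coe_insert, Finset.coe_singleton] at h
  exact h.trans Finset.card_le_two

variable [Finite F]

/-- A hyperbolic pair orthogonal to a non-degenerate subspace of codimension at least three. -/
theorem exists_hyp_perp (hQ : (polarBilin Q).Nondegenerate) {P : Submodule F V}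
    (hP : ∀ a ∈ P, (∀ b ∈ P, polar Q a b = 0) → a = 0) (hdim : finrank F P + 3 ≤ finrank F V) :
    ∃ e f, e ∈ perp Q P ∧ f ∈ perp Q P ∧ Q e = 0 ∧ Q f = 0 ∧ polar Q e f = 1 := by
  have hR := nondeg_restr (perp_nondeg hQ hP)
  have hd := finrank_perp hP
  obtain ⟨e, he0, he⟩ := exists_singular hR (by omega)
  obtain ⟨f, hef, hf⟩ := exists_partner hR he0 he
  exact ⟨e, f, e.2, f.2, he, hf, hef⟩

/-- A hyperbolic pair orthogonal to a given hyperbolic pair. -/
theorem exists_hyp_perp_pair (hQ : (polarBilin Q).Nondegenerate) (hn : 5 ≤ finrank F V) {a b : V}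
    (ha : Q a = 0) (hb : Q b = 0) (hab : polar Q a b = 1) :
    ∃ e f, Q e = 0 ∧ Q f = 0 ∧ polar Q e f = 1 ∧ polar Q a e = 0 ∧ polar Q a f = 0 ∧ polar Q b e = 0 ∧
      polar Q b f = 0 := by
  have h1 := finrank_span_pair_le (F := F) a b
  obtain ⟨e, f, he, hf, he0, hf0, hef⟩ := exists_hyp_perp hQ (hyp_pair_nondeg ha hb hab) (by omega)
  rw [mem_perp_span] at he hf
  exact ⟨e, f, he0, hf0, hef, he a (by simp), hf a (by simp), he b (by simp), hf b (by simp)⟩

/-- Two orthogonal singular vectors extend to two orthogonal hyperbolic pairs, and a third pair if n ≥ 7. -/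
theorem exists_partners (hQ : (polarBilin Q).Nondegenerate) {u v : V} (hu : Q u = 0) (hv : Q v = 0)
    (huv : polar Q u v = 0) (hu0 : u ∉ Submodule.span F {v}) (hv0 : v ≠ 0) :
    ∃ u' v', Q u' = 0 ∧ Q v' = 0 ∧ polar Q u u' = 1 ∧ polar Q v v' = 1 ∧ polar Q v u' = 0 ∧ polar Q u v' = 0 ∧
      polar Q u' v' = 0 := by
  obtain ⟨y, hy, huy⟩ := exists_orth_not hQ hu0 1
  have hvy : polar Q v y = 0 := hy v (Submodule.mem_span_singleton_self v)
  obtain ⟨u', hu'⟩ : ∃ u', y - Q y • u = u' := ⟨_, rfl⟩
  have huu' : polar Q u u' = 1 := by rw [← hu', b_sub_right, b_smul_right, b_self, hu, huy]; ring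
  have hvu' : polar Q v u' = 0 := by rw [← hu', b_sub_right, b_smul_right, hvy, b_comm v u, huv]; ring
  have hu'0 : Q u' = 0 := by rw [← hu', q_sub, q_smul, b_smul_right, hu, b_comm y u, huy]; ring
  have hvP : v ∉ Submodule.span F {u, u'} := by
    rw [Submodule.mem_span_pair]
    rintro ⟨s, t, hst⟩
    have h1 := huv
    have h2 := hvu'
    rw [← hst] at h1 h2
    simp only [b_add_left, b_add_right, b_smul_left, b_smul_right, b_self, hu, hu'0, huu', b_comm u' u,
      mul_zero, mul_one, add_zero, zero_add] at h1 h2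
    apply hv0
    rw [← hst, h1, h2, zero_smul, zero_smul, add_zero]
  obtain ⟨z, hz, hvz⟩ := exists_orth_not hQ hvP 1
  have huz : polar Q u z = 0 := hz u (Submodule.subset_span (by simp))
  have hu'z : polar Q u' z = 0 := hz u' (Submodule.subset_span (by simp))
  refine ⟨u', z - Q z • v, hu'0, ?_, huu', ?_, hvu', ?_, ?_⟩
  · rw [q_sub, q_smul, b_smul_right, hv, b_comm z v, hvz]; ring
  · rw [b_sub_right, b_smul_right, b_self, hv, hvz]; ring
  · rw [b_sub_right, b_smul_right, huz, huv]; ring
  · rw [b_sub_right, b_smul_right, hu'z, b_comm u' v, hvu']; ring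

/-- A hyperbolic pair orthogonal to two orthogonal hyperbolic pairs when n ≥ 7. -/
theorem exists_hyp_perp_two (hQ : (polarBilin Q).Nondegenerate) (hn : 7 ≤ finrank F V) {u u' v v' : V}
    (hu : Q u = 0) (hu' : Q u' = 0) (hv : Q v = 0) (hv' : Q v' = 0) (huu' : polar Q u u' = 1)
    (hvv' : polar Q v v' = 1) (huv : polar Q u v = 0) (huv' : polar Q u v' = 0) (hu'v : polar Q u' v = 0)
    (hu'v' : polar Q u' v' = 0) :
    ∃ e f, Q e = 0 ∧ Q f = 0 ∧ polar Q e f = 1 ∧ polar Q u e = 0 ∧ polar Q u f = 0 ∧ polar Q v e = 0 ∧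
      polar Q v f = 0 := by
  have hP := hyp_pair_nondeg hu hu' huu'
  have hd := finrank_perp hP
  have h1 := finrank_span_pair_le (F := F) u u'
  obtain ⟨e, f, he, hf, hef, e1, f1, -, -⟩ := exists_hyp_perp_pair (nondeg_restr (perp_nondeg hQ hP)) (by omega)
    (a := ⟨v, mem_perp_span.2 (by simp [huv, hu'v])⟩) (b := ⟨v', mem_perp_span.2 (by simp [huv', hu'v'])⟩)
    hv hv' hvv'
  exact ⟨e, f, he, hf, hef, mem_perp_span.1 e.2 u (by simp), mem_perp_span.1 f.2 u (by simp), e1, f1⟩

end Cfsg.Agent.Orth
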