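/-
Root elements generate Omega in dimension at least five.
-/
import Cfsg.Agent.Lib.Orthogonal.Perp

set_option autoImplicit false

namespace Cfsg.Agent.Orth

open QuadraticMap Module
open scoped commutatorElement

variable {F V : Type*} [Field F] [AddCommGroup V] [Module F V] {Q : QuadraticForm F V}

theorem IsSiegel.conj {g T : V ≃ₗ[F] V} {u y : V} (h : IsSiegel T Q u y) (hg : g ∈ oGroup Q) :
    IsSiegel (g * T * g⁻¹) Q (g u) (g y) := fun x => by
  have e : g (g⁻¹ x) = x := g.apply_symm_apply x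
  rw [LinearEquiv.mul_apply, LinearEquiv.mul_apply, h, map_sub, map_add, map_smul, map_smul, e, hg,
    ← b_map hg (g⁻¹ x) u, ← b_map hg (g⁻¹ x) y, e]

theorem IsSiegel.scale {T : V ≃ₗ[F] V} {u y : V} {c : F} (h : IsSiegel T Q (c • u) y) :
    IsSiegel T Q u (c • y) := fun x => by
  rw [h, b_smul_right, b_smul_right, q_smul]
  module

theorem IsSiegel.unscale {T : V ≃ₗ[F] V} {u y : V} {c : F} (h : IsSiegel T Q u (c • y)) :
    IsSiegel T Q (c • u) y := fun x => by
  rw [h, b_smul_right, b_smul_right, q_smul]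
  module

theorem isSiegel_one {u y : V} (hy : Q y = 0) (hu : u = 0 ∨ y ∈ Submodule.span F {u}) :
    IsSiegel (1 : V ≃ₗ[F] V) Q u y := fun x => by
  rw [hy, LinearEquiv.coe_one, id]
  rcases hu with rfl | hmem
  · simp [b_zero_right]
  · obtain ⟨c, rfl⟩ := Submodule.mem_span_singleton.1 hmem
    rw [b_smul_right]
    module

/-- The generating set of root elements. -/
def rootSet (Q : QuadraticForm F V) : Set (oGroup Q) :=
  {g | ∃ u y, Q u = 0 ∧ Q y = 0 ∧ polar Q u y = 0 ∧ IsSiegel g.1 Q u y}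

/-- The subgroup generated by root elements. -/
def siegelGroup (Q : QuadraticForm F V) : Subgroup (oGroup Q) := Subgroup.closure (rootSet Q)

theorem siegelGroup_normal : (siegelGroup Q).Normal :=
  normal_closure_of_conj fun g _ ⟨u, y, hu, hy, huy, h⟩ =>
    ⟨g.1 u, g.1 y, (g.2 u).trans hu, (g.2 y).trans hy, (b_map g.2 u y).trans huy, h.conj g.2⟩

variable [FiniteDimensional F V]

theorem siegel_sum_mem {u : V} (hu : Q u = 0) : ∀ (y : V),
    (∃ l : List V, (∀ z ∈ l, Q z = 0 ∧ polar Q u z = 0) ∧ l.sum = y) → ∀ g : oGroup Q, IsSiegel g.1 Q u y →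
      g ∈ siegelGroup Q := by
  rintro _ ⟨l, hl, rfl⟩
  induction l with
  | nil =>
    intro g hg
    have : g = 1 := Subtype.ext (hg.eq (by simpa using isSiegel_one (u := u) (map_zero Q) (Or.inr (Submodule.zero_mem _))))
    rw [this]; exact Subgroup.one_mem _
  | cons z l ih =>
    intro g hg
    have hl' : ∀ w ∈ l, Q w = 0 ∧ polar Q u w = 0 := fun w hw => hl w (List.mem_cons_of_mem _ hw)
    obtain ⟨hz, huz⟩ := hl z List.mem_cons_self
    have hus : polar Q u l.sum = 0 := by
      clear ih hg hl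
      induction l with
      | nil => exact b_zero_right u
      | cons w l ih =>
        rw [List.sum_cons, b_add_right, (hl' w List.mem_cons_self).2,
          ih (fun v hv => hl' v (List.mem_cons_of_mem _ hv)), add_zero]
    obtain ⟨T₁, hT₁, h1⟩ := exists_siegel hu huz
    obtain ⟨T₂, hT₂, h2⟩ := exists_siegel hu hus
    have h12 := h1.mul hu huz hus h2
    have he : g = ⟨T₁, hT₁⟩ * ⟨T₂, hT₂⟩ := Subtype.ext (hg.eq (by rw [List.sum_cons]; exact h12))
    rw [he]
    exact Subgroup.mul_mem _ (Subgroup.subset_closure ⟨u, z, hu, hz, huz, h1⟩) (ih hl' ⟨T₂, hT₂⟩ h2)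

variable [Fintype F]

/-- Every vector orthogonal to a singular vector is a sum of singular ones orthogonal to it. -/
theorem exists_singular_sum (hQ : (polarBilin Q).Nondegenerate) (hn : 5 ≤ finrank F V) {u y : V} (hu : Q u = 0)
    (hu0 : u ≠ 0) (huy : polar Q u y = 0) :
    ∃ l : List V, (∀ z ∈ l, Q z = 0 ∧ polar Q u z = 0) ∧ l.sum = y := by
  obtain ⟨u', huu', hu'⟩ := exists_partner hQ hu0 hu
  obtain ⟨e, f, he, hf, hef, hue, huf, hu'e, hu'f⟩ := exists_hyp_perp_pair hQ hn hu hu' huu'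
  obtain ⟨r, hr⟩ : ∃ r, y - polar Q y f • e - polar Q y e • f = r := ⟨_, rfl⟩
  have hre : polar Q r e = 0 := by
    rw [← hr, b_sub_left, b_sub_left, b_smul_left, b_smul_left, b_self, he, b_comm f e, hef]; ring
  have hrf : polar Q r f = 0 := by
    rw [← hr, b_sub_left, b_sub_left, b_smul_left, b_smul_left, b_self, hf, hef]; ring
  have hur : polar Q u r = 0 := by
    rw [← hr, b_sub_right, b_sub_right, b_smul_right, b_smul_right, huy, hue, huf]; ring
  refine ⟨[(polar Q y f - 1) • e, (polar Q y e + Q r) • f, r + e - Q r • f], fun z hz => ?_, ?_⟩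
  · simp only [List.mem_cons, List.not_mem_nil, or_false] at hz
    rcases hz with rfl | rfl | rfl
    · rw [q_smul, b_smul_right, he, hue, mul_zero, mul_zero]; exact ⟨rfl, rfl⟩
    · rw [q_smul, b_smul_right, hf, huf, mul_zero, mul_zero]; exact ⟨rfl, rfl⟩
    · refine ⟨?_, ?_⟩
      · rw [q_sub, q_add, q_smul, b_smul_right, b_add_left, he, hf, hre, hrf, hef]; ring
      · rw [b_sub_right, b_add_right, b_smul_right, hur, hue, huf]; ring
  · simp only [List.sum_cons, List.sum_nil, add_zero]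
    rw [← hr]
    module

theorem siegel_mem (hQ : (polarBilin Q).Nondegenerate) (hn : 5 ≤ finrank F V) {g : oGroup Q} {u y : V}
    (hu : Q u = 0) (huy : polar Q u y = 0) (hg : IsSiegel g.1 Q u y) : g ∈ siegelGroup Q := by
  rcases eq_or_ne u 0 with rfl | hu0
  · have : g = 1 := Subtype.ext (LinearEquiv.ext fun x => by rw [hg]; simp [b_zero_right])
    rw [this]; exact Subgroup.one_mem _
  exact siegel_sum_mem hu y (exists_singular_sum hQ hn hu hu0 huy) g hg

theorem siegel_ker (hQ : (polarBilin Q).Nondegenerate) (h : Fintype.card F ≠ 2 ∨ finrank F V ≠ 4)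
    {χ : oGroup Q →* SpinVal F} (hχ : ∀ (r : oGroup Q) (v : V), IsRefl r.1 Q v → χ r = reflVal Q v)
    {g : oGroup Q} {u y : V} (hu : Q u = 0) (huy : polar Q u y = 0) (hg : IsSiegel g.1 Q u y) : χ g = 1 := by
  have main : ∀ {g : oGroup Q} {y : V}, polar Q u y = 0 → Q y ≠ 0 → IsSiegel g.1 Q u y → χ g = 1 := by
    intro g y huy hy hg
    obtain ⟨r', hrm', hr'⟩ := exists_isRefl hy
    have hq : Q (y - Q y • u) = Q y := by rw [q_sub, q_smul, b_smul_right, hu, b_comm y u, huy]; ring
    obtain ⟨r, hrm, hr⟩ := exists_isRefl (a := y - Q y • u) (Q := Q) (by rw [hq]; exact hy)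
    have he : g = ⟨r, hrm⟩ * ⟨r', hrm'⟩ := Subtype.ext (hg.eq_refl_mul hu huy hr' hr)
    rw [he, map_mul, hχ _ _ hr, hχ _ _ hr',
      show reflVal Q (y - Q y • u) = reflVal Q y by rw [reflVal, reflVal, hq], reflVal_mul_self hy]
  rcases ne_or_eq (Q y) 0 with hy | hy
  · exact main huy hy hg
  by_cases hone : u = 0 ∨ y ∈ Submodule.span F {u}
  · rw [show g = 1 from Subtype.ext (hg.eq (isSiegel_one hy hone)), map_one]
  push Not at hone
  obtain ⟨y', h1, h2, h3⟩ := exists_split hQ h hone.1 hu huy hy hone.2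
  have h4 : polar Q u (y - y') = 0 := by rw [b_sub_right, huy, h1, sub_zero]
  obtain ⟨T₁, hT₁, s1⟩ := exists_siegel hu h1
  obtain ⟨T₂, hT₂, s2⟩ := exists_siegel hu h4
  have h12 := s1.mul hu h1 h4 s2
  rw [add_sub_cancel] at h12
  rw [show g = ⟨T₁, hT₁⟩ * ⟨T₂, hT₂⟩ from Subtype.ext (hg.eq h12), map_mul,
    main (g := ⟨T₁, hT₁⟩) h1 h2 s1, main (g := ⟨T₂, hT₂⟩) h4 h3 s2, one_mul]

theorem spinor_exists_ker (hQ : (polarBilin Q).Nondegenerate) (hn : 5 ≤ finrank F V) :
    ∃ χ : oGroup Q →* SpinVal F, χ.ker = commutator (oGroup Q) ∧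
      ∀ (r : oGroup Q) (v : V), IsRefl r.1 Q v → χ r = reflVal Q v := by
  obtain ⟨χ, hχ⟩ := exists_spinor hQ (Or.inr (by omega))
  exact ⟨χ, (spinor_spec hQ (by omega) (Or.inr (by omega)) χ hχ).1, hχ⟩

theorem siegelGroup_le (hQ : (polarBilin Q).Nondegenerate) (hn : 5 ≤ finrank F V) :
    siegelGroup Q ≤ commutator (oGroup Q) := by
  obtain ⟨χ, hker, hχ⟩ := spinor_exists_ker hQ hn
  rw [siegelGroup, Subgroup.closure_le, ← hker]
  rintro g ⟨u, y, hu, -, huy, hg⟩
  exact siegel_ker hQ (Or.inr (by omega)) hχ hu huy hg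

/-- Two vectors of equal non-zero norm joined by a singular difference. -/
theorem siegel_step (hQ : (polarBilin Q).Nondegenerate) (hn : 5 ≤ finrank F V) {x w : V} (hx : Q x ≠ 0)
    (hxw : Q x = Q w) (hd : Q (w - x) = 0) : ∃ g ∈ siegelGroup Q, g.1 x = w := by
  rcases eq_or_ne w x with rfl | hne
  · exact ⟨1, Subgroup.one_mem _, rfl⟩
  have hxa : polar Q x (w - x) = 0 := by
    have h := hd
    rw [q_sub, b_comm w x] at h
    rw [b_sub_right, b_self]
    linear_combination -h - hxw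
  have hxs : x ∉ Submodule.span F {w - x} := by
    rw [Submodule.mem_span_singleton]
    rintro ⟨t, ht⟩
    exact hx (by rw [← ht, q_smul, hd, mul_zero])
  obtain ⟨y, hy, hxy⟩ := exists_orth_not hQ hxs (-1)
  have hay : polar Q (w - x) y = 0 := hy _ (Submodule.mem_span_singleton_self _)
  obtain ⟨g, hg, hg'⟩ := exists_siegel hd hay
  refine ⟨⟨g, hg⟩, siegel_mem hQ hn (g := ⟨g, hg⟩) hd hay hg', ?_⟩
  show g x = w
  rw [hg', hxa, hxy]
  module

/-- The root group is transitive on vectors of a given non-zero norm. -/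
theorem siegel_transitive (hQ : (polarBilin Q).Nondegenerate) (hn : 5 ≤ finrank F V) {x w : V} (hx : Q x ≠ 0)
    (hxw : Q x = Q w) : ∃ g ∈ siegelGroup Q, g.1 x = w := by
  have plane : ∀ {x w : V} {d : F}, d ≠ 0 → Q x = d → Q w = d → 2 * d + polar Q x w ≠ 0 →
      ∃ g ∈ siegelGroup Q, g.1 x = w := by
    intro x w d hd0 hxd hwd hplus
    rcases eq_or_ne (Q (w - x)) 0 with h0 | h0
    · exact siegel_step hQ hn (hxd ▸ hd0) (hxd.trans hwd.symm) h0
    have hminus : 2 * d - polar Q x w ≠ 0 := fun h => h0 (by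
      rw [q_sub, hwd, hxd, b_comm w x]; linear_combination h)
    have hP : ∀ a ∈ Submodule.span F {x, w}, (∀ b ∈ Submodule.span F {x, w}, polar Q a b = 0) → a = 0 := by
      intro a ha h
      obtain ⟨s, t, rfl⟩ := Submodule.mem_span_pair.1 ha
      have h1 := h x (Submodule.subset_span (by simp))
      have h2 := h w (Submodule.subset_span (by simp))
      simp only [b_add_left, b_smul_left, b_self, b_comm w x, hxd, hwd] at h1 h2
      have hne := mul_ne_zero hplus hminus
      have hs : s = 0 := mul_left_cancel₀ hne (by linear_combination (2 * d) * h1 - polar Q x w * h2)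
      have ht : t = 0 := mul_left_cancel₀ hne (by linear_combination (2 * d) * h2 - polar Q x w * h1)
      rw [hs, ht, zero_smul, zero_smul, add_zero]
    have hle := finrank_span_pair_le (F := F) x w
    have hdim := finrank_perp hP
    obtain ⟨α, hα⟩ : ∃ α, 2 * d / (2 * d + polar Q x w) = α := ⟨_, rfl⟩
    have hα' : α * (2 * d + polar Q x w) = 2 * d := by rw [← hα, div_mul_cancel₀ _ hplus]
    obtain ⟨m₁, hm₁⟩ := exists_value (nondeg_restr (perp_nondeg hQ hP)) (by omega) (d - Q (α • x + α • w))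
    have hmx : polar Q x (m₁ : V) = 0 := mem_perp_span.1 m₁.2 x (by simp)
    have hmw : polar Q w (m₁ : V) = 0 := mem_perp_span.1 m₁.2 w (by simp)
    obtain ⟨m, hm⟩ : ∃ m, α • x + α • w + (m₁ : V) = m := ⟨_, rfl⟩
    have hqm : Q m = d := by
      rw [← hm, q_add, show Q (m₁ : V) = _ from hm₁, b_add_left, b_smul_left, b_smul_left, hmx, hmw]
      ring
    have e1 : polar Q x m = 2 * d := by
      rw [← hm, b_add_right, b_add_right, b_smul_right, b_smul_right, b_self, hxd, hmx]
      linear_combination hα'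
    have e2 : polar Q w m = 2 * d := by
      rw [← hm, b_add_right, b_add_right, b_smul_right, b_smul_right, b_self, hwd, hmw, b_comm w x]
      linear_combination hα'
    obtain ⟨g₁, hg₁, h1⟩ := siegel_step hQ hn (hxd ▸ hd0) (hxd.trans hqm.symm)
      (by rw [q_sub, hqm, hxd, b_comm m x, e1]; ring)
    obtain ⟨g₂, hg₂, h2⟩ := siegel_step hQ hn (hqm ▸ hd0) (hqm.trans hwd.symm)
      (by rw [q_sub, hqm, hwd, e2]; ring)
    exact ⟨g₂ * g₁, Subgroup.mul_mem _ hg₂ hg₁, by rw [Subgroup.coe_mul, LinearEquiv.mul_apply, h1, h2]⟩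
  obtain ⟨d, hd⟩ : ∃ d, Q x = d := ⟨_, rfl⟩
  have hd0 : d ≠ 0 := hd ▸ hx
  have hwd : Q w = d := hxw.symm.trans hd
  rcases ne_or_eq (2 * d + polar Q x w) 0 with hplus | hplus
  · exact plane hd0 hd hwd hplus
  have hB : polar Q x w = -(2 * d) := by linear_combination hplus
  rcases eq_or_ne (2 : F) 0 with h2 | h2
  · exact siegel_step hQ hn hx hxw (by rw [q_sub, hd, hwd, b_comm w x, hB]; linear_combination (2 * d) * h2)
  obtain ⟨z, hz⟩ : ∃ z, x + w = z := ⟨_, rfl⟩
  have hxz : polar Q x z = 0 := by rw [← hz, b_add_right, b_self, hB, hd]; ring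
  have hqz : Q z = 0 := by rw [← hz, q_add, hd, hwd, hB]; ring
  have h2d : 2 * d ≠ 0 := mul_ne_zero h2 hd0
  obtain ⟨P, hPdim, hP, hxP, hzP⟩ : ∃ P : Submodule F V, finrank F P ≤ 3 ∧
      (∀ a ∈ P, (∀ b ∈ P, polar Q a b = 0) → a = 0) ∧ x ∈ P ∧ z ∈ P := by
    rcases eq_or_ne z 0 with rfl | hz0
    · refine ⟨Submodule.span F {x}, (finrank_span_singleton fun h => hx (by rw [h, map_zero])).le.trans (by omega),
        fun a ha h => ?_, Submodule.mem_span_singleton_self x, Submodule.zero_mem _⟩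
      obtain ⟨s, rfl⟩ := Submodule.mem_span_singleton.1 ha
      have h1 := h x (Submodule.mem_span_singleton_self x)
      rw [b_smul_left, b_self, hd] at h1
      rw [(mul_eq_zero.1 h1).resolve_right h2d, zero_smul]
    · have hzx : z ∉ Submodule.span F {x} := by
        rw [Submodule.mem_span_singleton]
        rintro ⟨t, rfl⟩
        rw [q_smul, hd] at hqz
        have ht : t = 0 := mul_self_eq_zero.1 ((mul_eq_zero.1 hqz).resolve_right hd0)
        exact hz0 (by rw [ht, zero_smul])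
      obtain ⟨y, hy, hzy⟩ := exists_orth_not hQ hzx 1
      obtain ⟨z', hz'⟩ : ∃ z', y - Q y • z = z' := ⟨_, rfl⟩
      have hxz' : polar Q x z' = 0 := by
        rw [← hz', b_sub_right, b_smul_right, hy x (Submodule.mem_span_singleton_self x), hxz]; ring
      have hzz' : polar Q z z' = 1 := by rw [← hz', b_sub_right, b_smul_right, b_self, hqz, hzy]; ring
      have hqz' : Q z' = 0 := by rw [← hz', q_sub, q_smul, b_smul_right, hqz, b_comm y z, hzy]; ring
      classical
      refine ⟨Submodule.span F (({x, z, z'} : Finset V) : Set V), (finrank_span_finset_le_card _).trans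
        Finset.card_le_three, fun a ha h => ?_, Submodule.subset_span (by simp), Submodule.subset_span (by simp)⟩
      rw [Finset.coe_insert, Finset.coe_insert, Finset.coe_singleton, Submodule.mem_span_triple] at ha
      obtain ⟨s, t, r, rfl⟩ := ha
      have h1 := h x (Submodule.subset_span (by simp))
      have h3 := h z (Submodule.subset_span (by simp))
      have h4 := h z' (Submodule.subset_span (by simp))
      simp only [b_add_left, b_smul_left, b_self, b_comm z x, b_comm z' x, b_comm z' z, hxz, hxz', hzz', hqz,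
        hqz', hd, mul_zero, mul_one, add_zero, zero_add] at h1 h3 h4
      rw [(mul_eq_zero.1 h1).resolve_right h2d, h4, h3, zero_smul, zero_smul, zero_smul, add_zero, add_zero]
  have hdim := finrank_perp hP
  obtain ⟨w', hw'⟩ := exists_value (nondeg_restr (perp_nondeg hQ hP)) (by omega) d
  have hxw' : polar Q x (w' : V) = 0 := w'.2 x hxP
  have hww' : polar Q w (w' : V) = 0 := by
    have h := w'.2 z hzP
    rw [← hz, b_add_left, hxw', zero_add] at h
    exact h
  obtain ⟨g₁, hg₁, h1⟩ := plane hd0 hd (show Q (w' : V) = d from hw') (by rwa [hxw', add_zero])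
  obtain ⟨g₂, hg₂, e2⟩ := plane hd0 (show Q (w' : V) = d from hw') hwd (by rwa [b_comm, hww', add_zero])
  exact ⟨g₂ * g₁, Subgroup.mul_mem _ hg₂ hg₁, by rw [Subgroup.coe_mul, LinearEquiv.mul_apply, h1, e2]⟩

/-- Omega is generated by root elements. -/
theorem siegelGroup_eq (hQ : (polarBilin Q).Nondegenerate) (hn : 5 ≤ finrank F V) :
    siegelGroup Q = commutator (oGroup Q) := by
  refine le_antisymm (siegelGroup_le hQ hn) ?_
  haveI := siegelGroup_normal (Q := Q)
  have hgen : Subgroup.closure {r : oGroup Q | ∃ v, IsRefl r.1 Q v} = ⊤ := by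
    refine eq_top_iff.2 fun g _ => ?_
    obtain ⟨g', hg', he⟩ := oGroup_le_of_refl hQ (Or.inr (by omega))
      (K := (Subgroup.closure {r : oGroup Q | ∃ v, IsRefl r.1 Q v}).map (oGroup Q).subtype)
      (fun {r a} hr => ⟨⟨r, hr.mem⟩, Subgroup.subset_closure ⟨a, hr⟩, rfl⟩) g.2
    rwa [← show g' = g from Subtype.ext he]
  have inv : ∀ (r : oGroup Q) v, IsRefl r.1 Q v → r⁻¹ = r := fun r v hr =>
    inv_eq_of_mul_eq_one_left (Subtype.ext hr.mul_self)
  let π := QuotientGroup.mk' (siegelGroup Q)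
  have hsame : ∀ (r r' : oGroup Q) u v, IsRefl r.1 Q u → IsRefl r'.1 Q v → Q u = Q v → π r = π r' := by
    intro r r' u v hr hr' huv
    obtain ⟨g, hg, hgu⟩ := siegel_transitive hQ hn hr.1 huv
    have h1 : r' = g * r * g⁻¹ := Subtype.ext (hr'.eq (hgu ▸ hr.conj g.2))
    have hg1 : π g = 1 := (QuotientGroup.eq_one_iff g).2 hg
    rw [h1, map_mul, map_mul, map_inv, hg1, one_mul, inv_one, mul_one]
  have hsq : ∀ (r r' : oGroup Q) u v, IsRefl r.1 Q u → IsRefl r'.1 Q v → sqc F (Q u) = sqc F (Q v) →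
      π r = π r' := by
    intro r r' u v hr hr' hcl
    have h : IsSquare (Q v * (Q u)⁻¹) := by
      rw [← sqc_eq_one_iff (mul_ne_zero hr'.1 (inv_ne_zero hr.1)), sqc_mul hr'.1 (inv_ne_zero hr.1), ← hcl,
        ← sqc_mul hr.1 (inv_ne_zero hr.1), mul_inv_cancel₀ hr.1, sqc_one]
    obtain ⟨t, ht⟩ := h
    have ht0 : t ≠ 0 := fun h0 => mul_ne_zero hr'.1 (inv_ne_zero hr.1) (by rw [ht, h0, mul_zero])
    exact hsame r r' (t • u) v (hr.smul ht0) hr' (by rw [q_smul, ← ht, inv_mul_cancel_right₀ hr.1])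
  refine commutator_le_of_gen hgen _ ?_
  rintro a ⟨u, hu⟩ b ⟨v, hv⟩
  suffices hcomm : π a * π b = π b * π a by
    rw [← QuotientGroup.eq_one_iff]
    show π ⁅a, b⁆ = 1
    rw [map_commutatorElement]
    exact commutatorElement_eq_one_iff_mul_comm.2 hcomm
  have hBu : ∀ c : F, c ≠ 0 → (2 : F) ≠ 0 → ∀ x, Q x = c → ∀ a ∈ Submodule.span F {x},
      (∀ b ∈ Submodule.span F {x}, polar Q a b = 0) → a = 0 := by
    intro c hc h2 x hxc a ha h
    obtain ⟨s, rfl⟩ := Submodule.mem_span_singleton.1 ha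
    have h1 := h x (Submodule.mem_span_singleton_self x)
    rw [b_smul_left, b_self, hxc] at h1
    rw [(mul_eq_zero.1 h1).resolve_right (mul_ne_zero h2 hc), zero_smul]
  rcases eq_or_ne (2 : F) 0 with h2 | h2
  · rw [hsq a b u v hu hv]
    obtain ⟨hle, -, hone⟩ := card_sqCls_le (F := F)
    haveI := (Nat.card_eq_one_iff_unique.1 (hone h2)).1
    exact Subsingleton.elim _ _
  · have hdim := finrank_perp (hBu _ hu.1 h2 u rfl)
    rw [finrank_span_singleton (fun h => hu.1 (by rw [h, map_zero]))] at hdim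
    obtain ⟨w, hw⟩ := exists_value (nondeg_restr (perp_nondeg hQ (hBu _ hu.1 h2 u rfl))) (by omega) (Q v)
    have hw' : Q (w : V) = Q v := hw
    have huw : polar Q u (w : V) = 0 := w.2 u (Submodule.mem_span_singleton_self u)
    obtain ⟨s, hsm, hs⟩ := exists_isRefl (a := (w : V)) (Q := Q) (hw' ▸ hv.1)
    rw [hsame b ⟨s, hsm⟩ v w hv hs hw'.symm, ← map_mul, ← map_mul]
    congr 1
    have h3 := hs.conj a.2
    rw [hu.fix (x := (w : V)) (by rw [b_comm]; exact huw)] at h3
    have e : a * ⟨s, hsm⟩ * a⁻¹ = ⟨s, hsm⟩ := Subtype.ext (h3.eq hs)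
    exact mul_inv_eq_iff_eq_mul.1 e

end Cfsg.Agent.Orth
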