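/-
Root elements in matrix form: they are commutators and generate Omega.
-/
import Cfsg.Agent.Lib.Orthogonal.Siegel

set_option autoImplicit false

namespace Cfsg.Agent.Orth

open QuadraticMap Module
open scoped commutatorElement

variable {F V : Type*} [Field F] [AddCommGroup V] [Module F V] {Q : QuadraticForm F V}

/-- In odd characteristic a root element is a commutator. -/
theorem root_mem_commutatorSet [FiniteDimensional F V] (hQ : (polarBilin Q).Nondegenerate) (h2 : (2 : F) ≠ 0)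
    {g : oGroup Q} {u y : V} (hu : Q u = 0) (hy : Q y = 0) (huy : polar Q u y = 0) (hg : IsSiegel g.1 Q u y) :
    g ∈ commutatorSet (oGroup Q) := by
  by_cases hone : u = 0 ∨ y ∈ Submodule.span F {u}
  · refine ⟨1, 1, ?_⟩
    rw [commutatorElement_one_left]
    exact (Subtype.ext (hg.eq (isSiegel_one hy hone))).symm
  push Not at hone
  have hli : LinearIndependent F ![u, y] := (LinearIndependent.pair_iff' hone.1).2 fun t ht =>
    hone.2 (Submodule.mem_span_singleton.2 ⟨t, ht⟩)
  let b := Module.Basis.span hli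
  let φ : Submodule.span F (Set.range ![u, y]) →ₗ[F] V := b.constr F ![-u, y]
  have hφ : ∀ x : Submodule.span F (Set.range ![u, y]), ∃ s t : F, (x : V) = s • u + t • y ∧ φ x = -(s • u) + t • y := fun x => by
    refine ⟨b.repr x 0, b.repr x 1, ?_, ?_⟩
    · conv_lhs => rw [← b.sum_repr x]
      rw [Fin.sum_univ_two]
      simp [b, Module.Basis.span_apply]
    · simp [φ, Module.Basis.constr_apply_fintype]
  have hinj : Function.Injective φ := by
    rw [← LinearMap.ker_eq_bot, LinearMap.ker_eq_bot']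
    intro x hx
    obtain ⟨s, t, hxv, hφx⟩ := hφ x
    rw [hx] at hφx
    obtain ⟨hs, ht⟩ := LinearIndependent.pair_iff.1 hli (-s) t (by rw [neg_smul]; exact hφx.symm)
    exact Subtype.ext (by rw [hxv, neg_eq_zero.1 hs, ht, zero_smul, zero_smul, add_zero]; rfl)
  obtain ⟨h, -, hh, hhφ⟩ := witt hQ full_oGroup _ φ hinj (fun x => by
    obtain ⟨s, t, hxv, hφx⟩ := hφ x
    rw [hxv, hφx, ← neg_smul, q_add, q_add, q_smul, q_smul, q_smul, b_smul_left, b_smul_right, b_smul_left,
      b_smul_right, hu, hy, huy]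
    ring)
  have hhu : h u = -u := by
    have h1 := hhφ (b 0)
    rw [show ((b 0 : _) : V) = u by simp [b, Module.Basis.span_apply]] at h1
    rw [h1, Module.Basis.constr_basis]; rfl
  have hhy : h y = y := by
    have h1 := hhφ (b 1)
    rw [show ((b 1 : _) : V) = y by simp [b, Module.Basis.span_apply]] at h1
    rw [h1, Module.Basis.constr_basis]; rfl
  have huz : polar Q u ((2⁻¹ : F) • y) = 0 := by rw [b_smul_right, huy, mul_zero]
  obtain ⟨T, hT, hT'⟩ := exists_siegel hu huz
  obtain ⟨T', hT'm, hT''⟩ := exists_siegel (Q := Q) hu (y := -((2⁻¹ : F) • y))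
    (by rw [← neg_one_smul F, b_smul_right, huz, mul_zero])
  have hinv : T⁻¹ = T' := by
    refine inv_eq_of_mul_eq_one_right ?_
    have h12 := hT'.mul hu huz (by rw [← neg_one_smul F, b_smul_right, huz, mul_zero]) hT''
    rw [add_neg_cancel] at h12
    exact h12.eq (isSiegel_one (map_zero Q) (Or.inr (Submodule.zero_mem _)))
  have hc := hT''.conj hh
  rw [map_neg, map_smul, hhy, hhu] at hc
  have hc' : IsSiegel (h * T' * h⁻¹) Q u ((2⁻¹ : F) • y) := by
    have h1 : IsSiegel (h * T' * h⁻¹) Q ((-1 : F) • u) (-((2⁻¹ : F) • y)) := by rwa [neg_one_smul]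
    have h3 := h1.scale
    rwa [neg_one_smul, neg_neg] at h3
  have h4 := hT'.mul hu huz huz hc'
  rw [show (2⁻¹ : F) • y + (2⁻¹ : F) • y = y by rw [← add_smul, ← two_mul, mul_inv_cancel₀ h2, one_smul]] at h4
  refine ⟨⟨T, hT⟩, ⟨h, hh⟩, Subtype.ext ?_⟩
  show T * h * T⁻¹ * h⁻¹ = g.1
  rw [hinv, hg.eq h4]
  group

variable {ι : Type} [Fintype ι] [DecidableEq ι]

theorem isSiegel_of_matrix (Q : QuadraticForm F (ι → F)) {u v : ι → F} (hv : Q v = 0) (c : F)
    (g : Cfsg.isometryGroup F (⇑Q)) (hg : ((g : GL ι F) : Matrix ι ι F) = Cfsg.siegelMatrix (⇑Q) u v c) :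
    IsSiegel (isoEquiv Q g).1 Q u (c • v) :=
  siegelMatrix_isSiegel Q hv c _ fun x => by rw [isoEquiv_apply, hg]

/-- Omega of a matrix group is generated by the Siegel matrices. -/
theorem omega_eq_closure [Fintype F] (Q : QuadraticForm F (ι → F)) (hQ : (polarBilin Q).Nondegenerate)
    (hn : 5 ≤ Fintype.card ι) :
    Cfsg.Omega F (⇑Q) = Subgroup.closure {g : ↥(Cfsg.isometryGroup F (⇑Q)) | ∃ (u v : ι → F) (c : F),
      Q u = 0 ∧ Q v = 0 ∧ polar Q u v = 0 ∧
        ((g : GL ι F) : Matrix ι ι F) = Cfsg.siegelMatrix (⇑Q) u v c} := by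
  have hn' : 5 ≤ finrank F (ι → F) := by rwa [Module.finrank_fintype_fun_eq_card]
  apply Subgroup.map_injective (f := (isoEquiv Q).toMonoidHom) (isoEquiv Q).injective
  show (commutator _).map _ = _
  rw [commutator_def, Subgroup.map_commutator, Subgroup.map_top_of_surjective _ (isoEquiv Q).surjective,
    ← commutator_def, ← siegelGroup_eq hQ hn', siegelGroup, MonoidHom.map_closure]
  congr 1
  ext g
  constructor
  · rintro ⟨u, y, hu, hy, huy, hg⟩
    refine ⟨(isoEquiv Q).symm g, ⟨u, y, 1, hu, hy, huy, Matrix.ext_iff_mulVec.2 fun x => ?_⟩, by simp⟩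
    rw [← isoEquiv_apply, MulEquiv.apply_symm_apply, hg x, siegelMatrix_mulVec, hy]
    module
  · rintro ⟨k, ⟨u, v, c, hu, hv, huv, hk⟩, rfl⟩
    exact ⟨u, c • v, hu, by rw [q_smul, hv, mul_zero], by rw [b_smul_right, huv, mul_zero],
      isSiegel_of_matrix Q hv c k hk⟩

theorem mem_commutatorSet_of_matrix [Fintype F] (Q : QuadraticForm F (ι → F))
    (hQ : (polarBilin Q).Nondegenerate) (h2 : (2 : F) ≠ 0) {u v : ι → F} (hu : Q u = 0) (hv : Q v = 0)
    (huv : polar Q u v = 0) (c : F) (g : Cfsg.isometryGroup F (⇑Q))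
    (hg : ((g : GL ι F) : Matrix ι ι F) = Cfsg.siegelMatrix (⇑Q) u v c) :
    g ∈ commutatorSet (Cfsg.isometryGroup F (⇑Q)) := by
  obtain ⟨a, b, hab⟩ := root_mem_commutatorSet hQ h2 hu (by rw [q_smul, hv, mul_zero])
    (by rw [b_smul_right, huv, mul_zero]) (isSiegel_of_matrix Q hv c g hg)
  exact ⟨(isoEquiv Q).symm a, (isoEquiv Q).symm b, by
    rw [← map_commutatorElement, hab, MulEquiv.symm_apply_apply]⟩

end Cfsg.Agent.Orth
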