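/-
Simplicity of Omega modulo its centre in dimension at least seven, via the action on singular points.
-/
import Cfsg.Agent.Lib.Orthogonal.Siegel
import Mathlib.LinearAlgebra.Projectivization.Action
import Mathlib.GroupTheory.GroupAction.Iwasawa

set_option autoImplicit false

namespace Cfsg.Agent.Orth

open scoped LinearAlgebra.Projectivization Pointwise commutatorElement
open QuadraticMap Module

variable {F V : Type*} [Field F] [AddCommGroup V] [Module F V] {Q : QuadraticForm F V}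

/-- Omega as a group of linear maps. -/
abbrev omg (Q : QuadraticForm F V) : Subgroup (oGroup Q) := commutator (oGroup Q)

theorem smul_point (g : omg Q) {x : V} (hx : x ≠ 0) :
    g • Projectivization.mk F x hx = Projectivization.mk F (g.1.1 x) ((LinearEquiv.map_ne_zero_iff _).2 hx) :=
  rfl

theorem q_mk_rep {x : V} (hx : x ≠ 0) : Q (Projectivization.mk F x hx).rep = 0 ↔ Q x = 0 := by
  obtain ⟨a, ha⟩ := Projectivization.exists_smul_eq_mk_rep F x hx
  rw [← ha, Units.smul_def, q_smul]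
  simp [a.ne_zero]

/-- Singular points. -/
def pts (Q : QuadraticForm F V) : SubMulAction (omg Q) (ℙ F V) where
  carrier := {p | Q p.rep = 0}
  smul_mem' g p hp := by
    induction p using Projectivization.ind with | _ x hx => ?_
    show Q _ = 0
    rw [smul_point, q_mk_rep, g.1.2]
    exact (q_mk_rep hx).1 hp

theorem mk_mem_pts {x : V} (hx : x ≠ 0) (h : Q x = 0) : Projectivization.mk F x hx ∈ pts Q := (q_mk_rep hx).2 h

theorem pt_singular (p : pts Q) : Q p.1.rep = 0 := p.2

variable [FiniteDimensional F V]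

theorem witt_two (hQ : (polarBilin Q).Nondegenerate) {a b a' b' : V} (h : LinearIndependent F ![a, b])
    (h' : LinearIndependent F ![a', b']) (ha : Q a' = Q a) (hb : Q b' = Q b)
    (hab : polar Q a' b' = polar Q a b) : ∃ g ∈ oGroup Q, g a = a' ∧ g b = b' := by
  let B := Module.Basis.span h
  let φ : Submodule.span F (Set.range ![a, b]) →ₗ[F] V := B.constr F ![a', b']
  have hφ : ∀ x : Submodule.span F (Set.range ![a, b]), ∃ s t : F, (x : V) = s • a + t • b ∧
      φ x = s • a' + t • b' := fun x => by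
    refine ⟨B.repr x 0, B.repr x 1, ?_, ?_⟩
    · conv_lhs => rw [← B.sum_repr x]
      rw [Fin.sum_univ_two]
      simp [B, Module.Basis.span_apply]
    · simp [φ, Module.Basis.constr_apply_fintype]
  have hinj : Function.Injective φ := by
    rw [← LinearMap.ker_eq_bot, LinearMap.ker_eq_bot']
    intro x hx
    obtain ⟨s, t, hxv, hφx⟩ := hφ x
    rw [hx] at hφx
    obtain ⟨hs, ht⟩ := LinearIndependent.pair_iff.1 h' s t hφx.symm
    exact Subtype.ext (by rw [hxv, hs, ht, zero_smul, zero_smul, add_zero]; rfl)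
  obtain ⟨g, -, hg, hgφ⟩ := witt hQ full_oGroup _ φ hinj (fun x => by
    obtain ⟨s, t, hxv, hφx⟩ := hφ x
    rw [hxv, hφx, q_add, q_add, q_smul, q_smul, q_smul, q_smul, b_smul_left, b_smul_right, b_smul_left,
      b_smul_right, ha, hb, hab])
  refine ⟨g, hg, ?_, ?_⟩
  · have h1 := hgφ (B 0)
    rw [show ((B 0 : _) : V) = a by simp [B, Module.Basis.span_apply]] at h1
    rw [h1, Module.Basis.constr_basis]; rfl
  · have h1 := hgφ (B 1)
    rw [show ((B 1 : _) : V) = b by simp [B, Module.Basis.span_apply]] at h1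
    rw [h1, Module.Basis.constr_basis]; rfl

variable [Fintype F]

/-- An isometry can be corrected to lie in Omega without changing it on vectors orthogonal to a hyperbolic pair. -/
theorem omega_map (hQ : (polarBilin Q).Nondegenerate) (hn : 5 ≤ finrank F V) (g : oGroup Q) {e f : V}
    (he : Q e = 0) (hf : Q f = 0) (hef : polar Q e f = 1) :
    ∃ h : omg Q, ∀ x, polar Q x e = 0 → polar Q x f = 0 → h.1.1 x = g.1 x := by
  obtain ⟨χ, hker, hχ⟩ := spinor_exists_ker hQ hn
  have hr : ∀ c : SqCls F, ∃ r : oGroup Q, χ r = (Multiplicative.ofAdd 1, c) ∧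
      ∀ x, polar Q x e = 0 → polar Q x f = 0 → r.1 x = x := by
    intro c
    obtain ⟨u, rfl⟩ := QuotientGroup.mk_surjective c
    have hv : Q (e + (u : F) • f) = u := by rw [q_add, q_smul, b_smul_right, he, hf, hef]; ring
    obtain ⟨r, hrm, hr⟩ := exists_isRefl (a := e + (u : F) • f) (Q := Q) (by rw [hv]; exact u.ne_zero)
    exact ⟨⟨r, hrm⟩, by rw [hχ _ _ hr, reflVal, hv, sqc_unit],
      fun x h1 h2 => hr.fix (by rw [b_add_right, b_smul_right, h1, h2]; ring)⟩
  obtain ⟨k, hkχ, hkfix⟩ : ∃ k : oGroup Q, χ k = (χ g)⁻¹ ∧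
      ∀ x, polar Q x e = 0 → polar Q x f = 0 → k.1 x = x := by
    obtain ⟨ε, hε⟩ : ∃ ε, Multiplicative.toAdd (χ g)⁻¹.1 = ε := ⟨_, rfl⟩
    obtain ⟨r, hr1, hr2⟩ := hr (χ g)⁻¹.2
    obtain ⟨r₀, h01, h02⟩ := hr 1
    rcases (show ∀ x : ZMod 2, x = 0 ∨ x = 1 by decide) ε with rfl | rfl
    · refine ⟨r₀ * r, ?_, fun x h1 h2 => ?_⟩
      · rw [map_mul, hr1, h01, Prod.mk_mul_mk, one_mul]
        exact Prod.ext (Multiplicative.toAdd.injective (hε.symm ▸ (by decide : (1 : ZMod 2) + 1 = 0))) rfl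
      · rw [Subgroup.coe_mul, LinearEquiv.mul_apply, hr2 x h1 h2, h02 x h1 h2]
    · exact ⟨r, by rw [hr1]; exact Prod.ext (Multiplicative.toAdd.injective hε.symm) rfl, hr2⟩
  refine ⟨⟨g * k, ?_⟩, fun x h1 h2 => ?_⟩
  · show g * k ∈ commutator _
    rw [← hker, MonoidHom.mem_ker, map_mul, hkχ, mul_inv_cancel]
  · show (g * k).1 x = g.1 x
    rw [Subgroup.coe_mul, LinearEquiv.mul_apply, hkfix x h1 h2]

theorem omega_map_two (hQ : (polarBilin Q).Nondegenerate) (hn : 7 ≤ finrank F V) {a b a' b' : V}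
    (h : LinearIndependent F ![a, b]) (h' : LinearIndependent F ![a', b']) (ha : Q a = 0) (hb : Q b = 0)
    (ha' : Q a' = 0) (hb' : Q b' = 0) (hab : polar Q a' b' = polar Q a b) :
    ∃ g : omg Q, g.1.1 a = a' ∧ g.1.1 b = b' := by
  obtain ⟨g, hg, hga, hgb⟩ := witt_two hQ h h' (ha'.trans ha.symm) (hb'.trans hb.symm) hab
  have ha0 : a ≠ 0 := by simpa using h.ne_zero 0
  have hb0 : b ≠ 0 := by simpa using h.ne_zero 1
  obtain ⟨e, f, he, hf, hef, hae, haf, hbe, hbf⟩ : ∃ e f, Q e = 0 ∧ Q f = 0 ∧ polar Q e f = 1 ∧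
      polar Q a e = 0 ∧ polar Q a f = 0 ∧ polar Q b e = 0 ∧ polar Q b f = 0 := by
    rcases eq_or_ne (polar Q a b) 0 with h0 | h0
    · have hab' : a ∉ Submodule.span F {b} := by
        rw [Submodule.mem_span_singleton]
        rintro ⟨t, ht⟩
        have := (LinearIndependent.pair_iff.1 h 1 (-t) (by rw [← ht]; module)).1
        exact one_ne_zero this
      obtain ⟨a₁, b₁, h1, h2, h3, h4, h5, h6, h7⟩ := exists_partners hQ ha hb h0 hab' hb0
      exact exists_hyp_perp_two hQ hn ha h1 hb h2 h3 h4 h0 h6 (by rw [b_comm]; exact h5) h7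
    · obtain ⟨e, f, he, hf, hef, h1, h2, h3, h4⟩ := exists_hyp_perp_pair hQ (by omega) ha
        (b := (polar Q a b)⁻¹ • b) (by rw [q_smul, hb, mul_zero]) (by rw [b_smul_right, inv_mul_cancel₀ h0])
      refine ⟨e, f, he, hf, hef, h1, h2, ?_, ?_⟩
      · rw [b_smul_left] at h3; exact (mul_eq_zero.1 h3).resolve_left (inv_ne_zero h0)
      · rw [b_smul_left] at h4; exact (mul_eq_zero.1 h4).resolve_left (inv_ne_zero h0)
  obtain ⟨k, hk⟩ := omega_map hQ (by omega) ⟨g, hg⟩ he hf hef
  exact ⟨k, (hk a hae haf).trans hga, (hk b hbe hbf).trans hgb⟩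

theorem pair_indep {a b : V} (ha : Q a = 0) (hb0 : b ≠ 0) (hab : polar Q a b ≠ 0) :
    LinearIndependent F ![a, b] := by
  have ha0 : a ≠ 0 := fun h => hab (by rw [h, b_zero_left])
  refine (LinearIndependent.pair_iff' ha0).2 fun t ht => hab ?_
  rw [← ht, b_smul_right, b_self, ha, mul_zero, mul_zero]

theorem isPretransitive (hQ : (polarBilin Q).Nondegenerate) (hn : 7 ≤ finrank F V) :
    MulAction.IsPretransitive (omg Q) (pts Q) := by
  refine ⟨fun p q => ?_⟩
  have hp := p.1.rep_nonzero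
  have hq := q.1.rep_nonzero
  obtain ⟨a, ha1, ha⟩ := exists_partner hQ hp (pt_singular p)
  obtain ⟨b, hb1, hb⟩ := exists_partner hQ hq (pt_singular q)
  have ha0 : a ≠ 0 := fun h => by rw [h, b_zero_right] at ha1; exact zero_ne_one ha1
  have hb0 : b ≠ 0 := fun h => by rw [h, b_zero_right] at hb1; exact zero_ne_one hb1
  obtain ⟨g, hg, -⟩ := omega_map_two hQ hn (pair_indep (pt_singular p) ha0 (ha1 ▸ one_ne_zero))
    (pair_indep (pt_singular q) hb0 (hb1 ▸ one_ne_zero)) (pt_singular p) ha (pt_singular q) hb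
    (hb1.trans ha1.symm)
  refine ⟨g, Subtype.ext ?_⟩
  rw [SubMulAction.val_smul, ← p.1.mk_rep, smul_point]
  simp only [hg, Projectivization.mk_rep]

theorem isPreprimitive (hQ : (polarBilin Q).Nondegenerate) (hn : 7 ≤ finrank F V) :
    MulAction.IsPreprimitive (omg Q) (pts Q) := by
  haveI := isPretransitive hQ hn
  constructor
  intro S hS
  refine or_iff_not_imp_left.2 fun hns => ?_
  let P : V → Prop := fun x => ∃ (hx : x ≠ 0) (hm : Projectivization.mk F x hx ∈ pts Q), (⟨_, hm⟩ : pts Q) ∈ S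
  have psing : ∀ {x : V}, P x → Q x = 0 := fun ⟨hx, hm, _⟩ => (q_mk_rep hx).1 hm
  have pne : ∀ {x : V}, P x → x ≠ 0 := fun ⟨hx, _, _⟩ => hx
  have hscale : ∀ {x : V} {a : F}, a ≠ 0 → P x → P (a • x) := by
    rintro x a ha ⟨hx, hm, hS'⟩
    refine ⟨smul_ne_zero ha hx, ?_⟩
    have e := (Projectivization.mk_eq_mk_iff' F _ x (smul_ne_zero ha hx) hx).2 ⟨a, rfl⟩
    exact ⟨e.symm ▸ hm, by simpa only [e] using hS'⟩
  have move : ∀ {u v w : V} (g : omg Q), P u → g.1.1 u = u → g.1.1 v = w → P v → P w := by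
    rintro u v w g ⟨hu, hmu, hSu⟩ hgu hgv ⟨hv, hmv, hSv⟩
    subst hgv
    refine ⟨(LinearEquiv.map_ne_zero_iff _).2 hv, (pts Q).smul_mem g hmv, ?_⟩
    have hfix : g • (⟨_, hmu⟩ : pts Q) = ⟨_, hmu⟩ := Subtype.ext (by
      rw [SubMulAction.val_smul, smul_point]; simp only [hgu])
    have := hS.smul_eq_of_mem hSu (g := g) (by rwa [hfix])
    exact this ▸ Set.smul_mem_smul_set hSv
  have hA : ∀ {u v : V}, P u → P v → polar Q u v ≠ 0 → ∀ w, Q w = 0 → polar Q u w ≠ 0 → P w := by
    intro u v hu hv huv w hw huw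
    have hw0 : w ≠ 0 := fun h => huw (by rw [h, b_zero_right])
    have hv' := hscale (div_ne_zero huw huv) hv
    have e : polar Q u ((polar Q u w / polar Q u v) • v) = polar Q u w := by
      rw [b_smul_right, div_mul_cancel₀ _ huv]
    obtain ⟨g, hgu, hgw⟩ := omega_map_two hQ hn (pair_indep (psing hu) (pne hv') (by rw [e]; exact huw))
      (pair_indep (psing hu) hw0 huw) (psing hu) (psing hv') (psing hu) hw e.symm
    exact move g hu hgu hgw hv'
  have hB : ∀ {u v : V}, P u → P v → polar Q u v = 0 → v ∉ Submodule.span F {u} → ∀ w, Q w = 0 →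
      polar Q u w = 0 → w ∉ Submodule.span F {u} → P w := by
    intro u v hu hv huv hvu w hw huw hwu
    obtain ⟨g, hgu, hgw⟩ := omega_map_two hQ hn
      ((LinearIndependent.pair_iff' (pne hu)).2 fun t ht => hvu (Submodule.mem_span_singleton.2 ⟨t, ht⟩))
      ((LinearIndependent.pair_iff' (pne hu)).2 fun t ht => hwu (Submodule.mem_span_singleton.2 ⟨t, ht⟩))
      (psing hu) (psing hv) (psing hu) hw (huw.trans huv.symm)
    exact move g hu hgu hgw hv
  have key : ∀ {u v : V}, P u → P v → v ∉ Submodule.span F {u} → ∀ w, w ≠ 0 → Q w = 0 → P w := by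
    intro u v hu hv hvu w hw0 hw
    by_cases hwu : w ∈ Submodule.span F {u}
    · obtain ⟨t, rfl⟩ := Submodule.mem_span_singleton.1 hwu
      exact hscale (fun h => hw0 (by rw [h, zero_smul])) hu
    rcases eq_or_ne (polar Q u v) 0 with huv | huv
    · rcases eq_or_ne (polar Q u w) 0 with huw | huw
      · exact hB hu hv huv hvu w hw huw hwu
      obtain ⟨e, f, he, -, hef, hue, -, hwe, -⟩ := exists_hyp_perp_pair hQ (by omega) (psing hu)
        (b := (polar Q u w)⁻¹ • w) (by rw [q_smul, hw, mul_zero]) (by rw [b_smul_right, inv_mul_cancel₀ huw])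
      rw [b_smul_left] at hwe
      have hew : polar Q e w = 0 := by
        rw [b_comm]; exact (mul_eq_zero.1 hwe).resolve_left (inv_ne_zero huw)
      have he0 : e ≠ 0 := fun h => by rw [h, b_zero_left] at hef; exact zero_ne_one hef
      have heu : e ∉ Submodule.span F {u} := by
        rw [Submodule.mem_span_singleton]
        rintro ⟨t, rfl⟩
        rw [b_smul_left] at hew
        exact he0 (by rw [(mul_eq_zero.1 hew).resolve_right huw, zero_smul])
      have hPe : P e := hB hu hv huv hvu e he hue heu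
      refine hB hPe hu (by rw [b_comm]; exact hue) ?_ w hw hew ?_
      · rw [Submodule.mem_span_singleton]
        rintro ⟨t, ht⟩
        exact heu (Submodule.mem_span_singleton.2 ⟨t⁻¹, by
          rw [← ht, smul_smul, inv_mul_cancel₀ (fun h => pne hu (by rw [← ht, h, zero_smul])), one_smul]⟩)
      · rw [Submodule.mem_span_singleton]
        rintro ⟨t, rfl⟩
        rw [b_smul_right, hue, mul_zero] at huw
        exact huw rfl
    · rcases ne_or_eq (polar Q u w) 0 with huw | huw
      · exact hA hu hv huv w hw huw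
      have huw' : u ∉ Submodule.span F {w} := by
        rw [Submodule.mem_span_singleton]
        rintro ⟨t, ht⟩
        exact hwu (Submodule.mem_span_singleton.2 ⟨t⁻¹, by
          rw [← ht, smul_smul, inv_mul_cancel₀ (fun h => pne hu (by rw [← ht, h, zero_smul])), one_smul]⟩)
      obtain ⟨u', w', hu', hw', h1, h2, h3, h4, h5⟩ := exists_partners hQ (psing hu) hw huw huw' hw0
      have hs : Q (u' + w') = 0 := by rw [q_add, hu', hw', h5]; ring
      have hus : polar Q u (u' + w') = 1 := by rw [b_add_right, h1, h4, add_zero]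
      have hPs : P (u' + w') := hA hu hv huv _ hs (hus ▸ one_ne_zero)
      refine hA hPs hu (by rw [b_comm, hus]; exact one_ne_zero) w hw ?_
      rw [b_comm, b_add_right, h2, h3, zero_add]
      exact one_ne_zero
  obtain ⟨p, hp, q, hq, hpq⟩ := Set.not_subsingleton_iff.1 hns
  have hPp : P p.1.rep := ⟨p.1.rep_nonzero, by rw [Projectivization.mk_rep]; exact p.2, by
    simpa only [Projectivization.mk_rep] using hp⟩
  have hPq : P q.1.rep := ⟨q.1.rep_nonzero, by rw [Projectivization.mk_rep]; exact q.2, by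
    simpa only [Projectivization.mk_rep] using hq⟩
  have hqp : q.1.rep ∉ Submodule.span F {p.1.rep} := by
    rw [Submodule.mem_span_singleton]
    rintro ⟨t, ht⟩
    apply hpq
    refine Subtype.ext ?_
    rw [← p.1.mk_rep, ← q.1.mk_rep]
    exact ((Projectivization.mk_eq_mk_iff' F _ _ q.1.rep_nonzero p.1.rep_nonzero).2 ⟨t, ht⟩).symm
  refine Set.eq_univ_iff_forall.2 fun r => ?_
  obtain ⟨hx, hm, hr⟩ := key hPp hPq hqp r.1.rep r.1.rep_nonzero (pt_singular r)
  simpa only [Projectivization.mk_rep] using hr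

/-- An element of Omega fixing all singular points is a scalar. -/
theorem eq_scalar_of_fix (hQ : (polarBilin Q).Nondegenerate) (hn : 7 ≤ finrank F V) (g : omg Q)
    (hfix : ∀ p : pts Q, g • p = p) : ∃ a : F, ∀ x, g.1.1 x = a • x := by
  have eig : ∀ x, x ≠ 0 → Q x = 0 → ∃ l : F, g.1.1 x = l • x := by
    intro x hx hxx
    have h := congrArg Subtype.val (hfix ⟨_, mk_mem_pts hx hxx⟩)
    rw [SubMulAction.val_smul, smul_point, Projectivization.mk_eq_mk_iff'] at h
    obtain ⟨l, hl⟩ := h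
    exact ⟨l, hl.symm⟩
  obtain ⟨e, he0, he⟩ := exists_singular hQ (by omega)
  obtain ⟨f, hef, hf⟩ := exists_partner hQ he0 he
  obtain ⟨a, ha⟩ := eig e he0 he
  have hf0 : f ≠ 0 := fun h => by rw [h, b_zero_right] at hef; exact zero_ne_one hef
  obtain ⟨b, hb⟩ := eig f hf0 hf
  have hab : a * b = 1 := by
    have h := b_map g.1.2 e f
    rw [ha, hb, b_smul_left, b_smul_right, hef, mul_one] at h
    exact h
  have key : ∀ r, polar Q e r = 0 → polar Q f r = 0 → g.1.1 r = a • r ∧ Q r * (b - a) = 0 := by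
    intro r her hfr
    obtain ⟨x, hx⟩ : ∃ x, e + r - Q r • f = x := ⟨_, rfl⟩
    have hxx : Q x = 0 := by
      rw [← hx, q_sub, q_add, q_smul, b_smul_right, b_add_left, he, hf, her, hef, b_comm r f, hfr]; ring
    have hxf : polar Q x f = 1 := by
      rw [← hx, b_sub_left, b_add_left, b_smul_left, b_self, hf, hef, b_comm r f, hfr]; ring
    have hx0 : x ≠ 0 := fun h => by rw [h, b_zero_left] at hxf; exact zero_ne_one hxf
    obtain ⟨c, hc⟩ := eig x hx0 hxx
    have hgre : polar Q (g.1.1 r) e = 0 := by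
      have h := b_map g.1.2 r e
      rw [ha, b_smul_right, b_comm r e, her] at h
      exact (mul_eq_zero.1 h).resolve_left (left_ne_zero_of_mul_eq_one hab)
    have hgrf : polar Q (g.1.1 r) f = 0 := by
      have h := b_map g.1.2 r f
      rw [hb, b_smul_right, b_comm r f, hfr] at h
      exact (mul_eq_zero.1 h).resolve_left (right_ne_zero_of_mul_eq_one hab)
    rw [← hx, map_sub, map_add, map_smul, ha, hb] at hc
    have h1 := congrArg (fun z => polar Q z f) hc
    have h2 := congrArg (fun z => polar Q z e) hc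
    simp only [b_sub_left, b_add_left, b_smul_left, b_self, he, hf, hef, hgre, hgrf, b_comm f e, b_comm r f, hfr,
      b_comm r e, her, mul_zero, mul_one, add_zero, zero_add, sub_zero, zero_sub] at h1 h2
    have hca : c = a := by linear_combination -h1
    subst hca
    have hd : Q r * (b - c) = 0 := by linear_combination -h2
    refine ⟨?_, hd⟩
    have h3 : g.1.1 r = c • r + (Q r * (b - c)) • f := by linear_combination (norm := module) hc
    rw [h3, hd, zero_smul, add_zero]
  have hP := hyp_pair_nondeg he hf hef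
  have hRn := nondeg_restr (perp_nondeg hQ hP)
  have hd := finrank_perp hP
  have h2 := finrank_span_pair_le (F := F) e f
  obtain ⟨r₁, hr₁⟩ := exists_value hRn (by omega) 1
  have hba : b = a := by
    have h := (key r₁ (mem_perp_span.1 r₁.2 e (by simp)) (mem_perp_span.1 r₁.2 f (by simp))).2
    rw [show Q (r₁ : V) = 1 from hr₁, one_mul] at h
    exact sub_eq_zero.1 h
  refine ⟨a, fun x => ?_⟩
  obtain ⟨p, hp, hxp⟩ := exists_proj hP x
  obtain ⟨s, t, rfl⟩ := Submodule.mem_span_pair.1 hp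
  obtain ⟨y, hy⟩ : ∃ y, x - (s • e + t • f) = y := ⟨_, rfl⟩
  rw [hy] at hxp
  rw [show x = s • e + t • f + y by rw [← hy]; abel, map_add, map_add, map_smul, map_smul, ha, hb, hba,
    (key y (mem_perp_span.1 hxp e (by simp)) (mem_perp_span.1 hxp f (by simp))).1]
  module

/-- The root group at a point. -/
def rootAt (p : pts Q) : Subgroup (omg Q) where
  carrier := {g | ∃ y, polar Q p.1.rep y = 0 ∧ IsSiegel g.1.1 Q p.1.rep y}
  one_mem' := ⟨0, b_zero_right _, isSiegel_one (map_zero Q) (Or.inr (Submodule.zero_mem _))⟩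
  mul_mem' := by
    rintro g h ⟨y, hy, hg⟩ ⟨y', hy', hh⟩
    exact ⟨y + y', by rw [b_add_right, hy, hy', add_zero], hg.mul (pt_singular p) hy hy' hh⟩
  inv_mem' := by
    rintro g ⟨y, hy, hg⟩
    have hny : polar Q p.1.rep (-y) = 0 := by rw [← neg_one_smul F y, b_smul_right, hy, mul_zero]
    obtain ⟨T, hT, hT'⟩ := exists_siegel (pt_singular p) hny
    refine ⟨-y, hny, ?_⟩
    have h12 := hg.mul (pt_singular p) hy hny hT'
    rw [add_neg_cancel] at h12
    have e : g.1.1 * T = 1 := h12.eq (isSiegel_one (map_zero Q) (Or.inr (Submodule.zero_mem _)))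
    show IsSiegel ((g.1.1)⁻¹) Q p.1.rep (-y)
    rwa [inv_eq_of_mul_eq_one_right e]

theorem mem_iSup_rootAt (hQ : (polarBilin Q).Nondegenerate) (hn : 7 ≤ finrank F V) :
    ⨆ p, rootAt p = (⊤ : Subgroup (omg Q)) := by
  refine eq_top_iff.2 fun g _ => ?_
  have hle : siegelGroup Q ≤ (⨆ p, rootAt p).map (omg Q).subtype := by
    rw [siegelGroup, Subgroup.closure_le]
    rintro k ⟨u, y, hu, hy, huy, hk⟩
    have hk' : k ∈ omg Q := siegelGroup_le hQ (by omega) (Subgroup.subset_closure ⟨u, y, hu, hy, huy, hk⟩)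
    refine ⟨⟨k, hk'⟩, ?_, rfl⟩
    rcases eq_or_ne u 0 with rfl | hu0
    · have : (⟨k, hk'⟩ : omg Q) = 1 := Subtype.ext (Subtype.ext (hk.eq (isSiegel_one hy (Or.inl rfl))))
      rw [this]; exact Subgroup.one_mem _
    obtain ⟨a, ha⟩ := Projectivization.exists_smul_eq_mk_rep F u hu0
    refine Subgroup.mem_iSup_of_mem ⟨_, mk_mem_pts hu0 hu⟩ ⟨((a⁻¹ : Fˣ) : F) • y, ?_, ?_⟩
    · show polar Q (Projectivization.mk F u hu0).rep _ = 0
      rw [← ha, Units.smul_def, b_smul_left, b_smul_right, huy, mul_zero, mul_zero]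
    · show IsSiegel k.1 Q (Projectivization.mk F u hu0).rep _
      rw [← ha, Units.smul_def]
      apply IsSiegel.unscale
      rwa [smul_smul, ← Units.val_mul, mul_inv_cancel, Units.val_one, one_smul]
  rw [siegelGroup_eq hQ (by omega)] at hle
  obtain ⟨g', hg', he⟩ := hle g.2
  rwa [← show g' = g from Subtype.ext he]

/-- The Iwasawa structure. -/
def iwasawa (hQ : (polarBilin Q).Nondegenerate) (hn : 7 ≤ finrank F V) :
    MulAction.IwasawaStructure (omg Q) (pts Q) where
  T := rootAt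
  is_comm p := ⟨⟨fun a b => by
    obtain ⟨y, hy, hay⟩ := a.2
    obtain ⟨y', hy', hby⟩ := b.2
    refine Subtype.ext (Subtype.ext (Subtype.ext ?_))
    show a.1.1.1 * b.1.1.1 = b.1.1.1 * a.1.1.1
    have h1 := hay.mul (pt_singular p) hy hy' hby
    have h2 := hby.mul (pt_singular p) hy' hy hay
    rw [add_comm y'] at h2
    exact h1.eq h2⟩⟩
  is_conj g p := by
    obtain ⟨a, ha⟩ : ∃ a : Fˣ, a • g.1.1 p.1.rep = (g • p : pts Q).1.rep := by
      have h0 : g.1.1 p.1.rep ≠ 0 := (LinearEquiv.map_ne_zero_iff _).2 p.1.rep_nonzero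
      have : (g • p : pts Q).1 = Projectivization.mk F (g.1.1 p.1.rep) h0 := by
        rw [SubMulAction.val_smul]
        conv_lhs => rw [← p.1.mk_rep, smul_point]
      rw [this]
      exact Projectivization.exists_smul_eq_mk_rep F _ h0
    ext k
    simp only [Subgroup.mem_pointwise_smul_iff_inv_smul_mem, MulAut.smul_def, MulAut.inv_apply,
      MulAut.conj_symm_apply]
    constructor
    · rintro ⟨y, hy, hk⟩
      have hk' : IsSiegel k.1.1 Q ((a : F) • g.1.1 p.1.rep) y := by
        have : (g • p : pts Q).1.rep = (a : F) • g.1.1 p.1.rep := by rw [← ha, Units.smul_def]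
        rwa [this] at hk
      have hc := hk'.scale.conj (g⁻¹).1.2
      have hgp : (g⁻¹).1.1 (g.1.1 p.1.rep) = p.1.rep := g.1.1.symm_apply_apply _
      rw [hgp] at hc
      refine ⟨(g⁻¹).1.1 ((a : F) • y), ?_, ?_⟩
      · rw [← hgp, b_map (g⁻¹).1.2, b_smul_right, ← b_smul_left, ← Units.smul_def, ha]
        exact hy
      · show IsSiegel ((g⁻¹).1.1 * k.1.1 * g.1.1) Q p.1.rep _
        have e : ((g⁻¹).1.1)⁻¹ = g.1.1 := by rw [Subgroup.coe_inv, Subgroup.coe_inv, inv_inv]
        rw [e] at hc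
        exact hc
    · rintro ⟨y, hy, hk⟩
      have hc := hk.conj g.1.2
      have hk' : IsSiegel k.1.1 Q (g.1.1 p.1.rep) (g.1.1 y) := by
        have e : g.1.1 * (g⁻¹ * k * g).1.1 * g.1.1⁻¹ = k.1.1 := by
          simp only [Subgroup.coe_mul, Subgroup.coe_inv]
          group
        rwa [e] at hc
      refine ⟨((a⁻¹ : Fˣ) : F) • g.1.1 y, ?_, ?_⟩
      · rw [← ha, Units.smul_def, b_smul_left, b_smul_right, b_map g.1.2, hy, mul_zero, mul_zero]
      · rw [← ha, Units.smul_def]
        apply IsSiegel.unscale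
        rwa [smul_smul, ← Units.val_mul, mul_inv_cancel, Units.val_one, one_smul]
  is_generator := mem_iSup_rootAt hQ hn

/-- Omega is perfect. -/
theorem commutator_omg (hQ : (polarBilin Q).Nondegenerate) (hn : 7 ≤ finrank F V) :
    commutator (omg Q) = ⊤ := by
  refine eq_top_iff.2 fun g _ => ?_
  have hle : siegelGroup Q ≤ (commutator (omg Q)).map (omg Q).subtype := by
    rw [siegelGroup, Subgroup.closure_le]
    rintro k ⟨u, v, hu, hv, huv, hk⟩
    have hk' : k ∈ omg Q := siegelGroup_le hQ (by omega) (Subgroup.subset_closure ⟨u, v, hu, hv, huv, hk⟩)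
    refine ⟨⟨k, hk'⟩, ?_, rfl⟩
    by_cases hone : u = 0 ∨ v ∈ Submodule.span F {u}
    · have : (⟨k, hk'⟩ : omg Q) = 1 := Subtype.ext (Subtype.ext (hk.eq (isSiegel_one hv hone)))
      rw [this]; exact Subgroup.one_mem _
    push Not at hone
    have hv0 : v ≠ 0 := fun h => hone.2 (by rw [h]; exact Submodule.zero_mem _)
    have huv' : u ∉ Submodule.span F {v} := by
      rw [Submodule.mem_span_singleton]
      rintro ⟨t, ht⟩
      exact hone.2 (Submodule.mem_span_singleton.2 ⟨t⁻¹, by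
        rw [← ht, smul_smul, inv_mul_cancel₀ (fun h => hone.1 (by rw [← ht, h, zero_smul])), one_smul]⟩)
    obtain ⟨u', v', h1, h2, h3, h4, h5, h6, h7⟩ := exists_partners hQ hu hv huv huv' hv0
    obtain ⟨w, w', hw, hw', hww', huw, huw', hvw, hvw'⟩ := exists_hyp_perp_two hQ hn hu h1 hv h2 h3 h4 huv h6
      (by rw [b_comm]; exact h5) h7
    obtain ⟨T, hT, hT'⟩ := exists_siegel hu huw
    obtain ⟨S', hS, hS'⟩ := exists_siegel hw' (by rw [b_comm]; exact hvw' : polar Q w' v = 0)
    have hTm : (⟨T, hT⟩ : oGroup Q) ∈ omg Q :=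
      siegelGroup_le hQ (by omega) (Subgroup.subset_closure ⟨u, w, hu, hw, huw, hT'⟩)
    have hSm : (⟨S', hS⟩ : oGroup Q) ∈ omg Q :=
      siegelGroup_le hQ (by omega) (Subgroup.subset_closure ⟨w', v, hw', hv, by rw [b_comm]; exact hvw', hS'⟩)
    have hSu : S' u = u := hS'.fix huw' huv
    have hSw : S' w = w + v := by
      rw [hS' w, hww', hv, b_comm w v, hvw]
      module
    have hc := hT'.conj hS
    rw [hSu, hSw] at hc
    have h12 : IsSiegel (T * k.1) Q u (w + v) := hT'.mul hu huw huv hk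
    have he : T * k.1 = S' * T * S'⁻¹ := h12.eq hc
    have hk1 : (⟨k, hk'⟩ : omg Q) = ⁅(⟨_, hTm⟩ : omg Q)⁻¹, ⟨_, hSm⟩⁆ := Subtype.ext (Subtype.ext (by
      show k.1 = T⁻¹ * S' * T⁻¹⁻¹ * S'⁻¹
      rw [inv_inv, mul_assoc T⁻¹ S', mul_assoc T⁻¹, ← he, inv_mul_cancel_left]))
    rw [hk1]
    exact Subgroup.commutator_mem_commutator (Subgroup.mem_top _) (Subgroup.mem_top _)
  rw [siegelGroup_eq hQ (by omega)] at hle
  obtain ⟨g', hg', he⟩ := hle g.2
  rwa [← show g' = g from Subtype.ext he]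

theorem center_ne_top (hQ : (polarBilin Q).Nondegenerate) (hn : 7 ≤ finrank F V) :
    Subgroup.center (omg Q) ≠ ⊤ := by
  intro h
  have hbot : commutator (omg Q) = ⊥ := by
    rw [commutator_def, Subgroup.commutator_eq_bot_iff_le_centralizer]
    intro a _
    rw [Subgroup.mem_centralizer_iff]
    intro b _
    exact Subgroup.mem_center_iff.1 (h ▸ Subgroup.mem_top a) b
  rw [commutator_omg hQ hn] at hbot
  obtain ⟨e, he0, he⟩ := exists_singular hQ (by omega)
  obtain ⟨f, hef, hf⟩ := exists_partner hQ he0 he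
  obtain ⟨y, y', hy, -, hyy', hey, -, hfy, -⟩ := exists_hyp_perp_pair hQ (by omega) he hf hef
  obtain ⟨T, hT, hT'⟩ := exists_siegel he hey
  have hTm : (⟨T, hT⟩ : oGroup Q) ∈ omg Q :=
    siegelGroup_le hQ (by omega) (Subgroup.subset_closure ⟨e, y, he, hy, hey, hT'⟩)
  have h1 : (⟨_, hTm⟩ : omg Q) ∈ (⊥ : Subgroup (omg Q)) := hbot ▸ Subgroup.mem_top _
  have h2 := congrArg (fun k : omg Q => k.1.1 f) (Subgroup.mem_bot.1 h1)
  simp only [OneMemClass.coe_one, LinearEquiv.coe_one, id, hT' f] at h2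
  rw [b_comm f e, hef, hfy, hy] at h2
  have h3 : y = 0 := by linear_combination (norm := module) h2
  rw [h3, b_zero_left] at hyy'
  exact zero_ne_one hyy'

/-- Every normal subgroup is central or everything. -/
theorem normal_le_center_or (hQ : (polarBilin Q).Nondegenerate) (hn : 7 ≤ finrank F V)
    (M : Subgroup (omg Q)) [M.Normal] : (∀ g ∈ M, ∀ p : pts Q, g • p = p) ∨ M = ⊤ := by
  haveI := isPreprimitive hQ hn
  by_cases h : MulAction.fixedPoints M (pts Q) = .univ
  · exact Or.inl fun g hg p => Set.eq_univ_iff_forall.1 h p ⟨g, hg⟩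
  · have hle := (iwasawa hQ hn).commutator_le M h
    rw [commutator_omg hQ hn] at hle
    exact Or.inr (top_le_iff.1 hle)

theorem center_scalar (hQ : (polarBilin Q).Nondegenerate) (hn : 7 ≤ finrank F V) (g : omg Q) :
    g ∈ Subgroup.center (omg Q) ↔ ∃ a : F, ∀ x, g.1.1 x = a • x := by
  refine ⟨fun hg => ?_, fun ⟨a, ha⟩ => Subgroup.mem_center_iff.2 fun k => Subtype.ext (Subtype.ext
    (LinearEquiv.ext fun x => ?_))⟩
  · rcases normal_le_center_or hQ hn (Subgroup.center (omg Q)) with h | h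
    · exact eq_scalar_of_fix hQ hn g (h g hg)
    · exact absurd h (center_ne_top hQ hn)
  · show k.1.1 (g.1.1 x) = g.1.1 (k.1.1 x)
    rw [ha, ha, map_smul]

theorem isSimpleGroup_omega (hQ : (polarBilin Q).Nondegenerate) (hn : 7 ≤ finrank F V) :
    IsSimpleGroup (omg Q ⧸ Subgroup.center (omg Q)) := by
  haveI : Nontrivial (omg Q ⧸ Subgroup.center (omg Q)) :=
    QuotientGroup.nontrivial_iff.2 (center_ne_top hQ hn)
  refine IsSimpleGroup.mk fun N hN => ?_
  have hsurj := QuotientGroup.mk'_surjective (Subgroup.center (omg Q))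
  rw [← Subgroup.map_comap_eq_self_of_surjective hsurj N]
  rcases normal_le_center_or hQ hn (N.comap (QuotientGroup.mk' (Subgroup.center (omg Q)))) with h | h
  · left
    refine (Subgroup.map_eq_bot_iff _).2 ?_
    rw [QuotientGroup.ker_mk']
    exact fun g hg => (center_scalar hQ hn g).2 (eq_scalar_of_fix hQ hn g (h g hg))
  · right
    rw [h, Subgroup.map_top_of_surjective _ hsurj]

end Cfsg.Agent.Orth
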