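/-
Simplicity and orders of the projective Omega groups.
-/
import Cfsg.Agent.Lib.Orthogonal.Simple
import Cfsg.Agent.Lib.Orthogonal.IndexTwo
import Cfsg.Agent.Lib.Orthogonal.NegOne
import Cfsg.Agent.Lib.Orthogonal.RootMatrix

set_option autoImplicit false

namespace Cfsg.Agent.Orth

open QuadraticMap Module

variable {ι : Type} [Fintype ι] [DecidableEq ι] {F : Type*} [Field F] [Fintype F] {Q : QuadraticForm F (ι → F)}

theorem map_omega (Q : QuadraticForm F (ι → F)) :
    (Cfsg.Omega F (⇑Q)).map (isoEquiv Q).toMonoidHom = omg Q := by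
  show (commutator _).map _ = commutator _
  rw [commutator_def, commutator_def, Subgroup.map_commutator,
    Subgroup.map_top_of_surjective _ (isoEquiv Q).surjective]

/-- The matrix Omega is the linear one. -/
noncomputable def omegaEquiv (Q : QuadraticForm F (ι → F)) : ↥(Cfsg.Omega F (⇑Q)) ≃* omg Q :=
  ((isoEquiv Q).subgroupMap (Cfsg.Omega F (⇑Q))).trans (MulEquiv.subgroupCongr (map_omega Q))

theorem omegaEquiv_apply (g : Cfsg.Omega F (⇑Q)) (x : ι → F) :
    (omegaEquiv Q g).1.1 x = ((g.1 : GL ι F) : Matrix ι ι F).mulVec x := rfl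

theorem pomega_congr (hQ : (polarBilin Q).Nondegenerate) (hn : 7 ≤ Fintype.card ι) :
    IsSimpleGroup (Cfsg.POmega F (⇑Q)) := by
  haveI := isSimpleGroup_omega hQ (by rwa [Module.finrank_fintype_fun_eq_card])
  have hmap : (Subgroup.center ↥(Cfsg.Omega F (⇑Q))).map (omegaEquiv Q).toMonoidHom = Subgroup.center (omg Q) := by
    ext x
    simp only [Subgroup.mem_map, Subgroup.mem_center_iff]
    refine ⟨?_, fun h => ⟨(omegaEquiv Q).symm x, fun g => (omegaEquiv Q).injective (by simpa using h _), by simp⟩⟩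
    rintro ⟨y, hy, rfl⟩ g
    simpa using congrArg (omegaEquiv Q) (hy ((omegaEquiv Q).symm g))
  let e : Cfsg.POmega F (⇑Q) ≃* omg Q ⧸ Subgroup.center (omg Q) :=
    QuotientGroup.congr _ _ (omegaEquiv Q) hmap
  haveI : Nontrivial (Cfsg.POmega F (⇑Q)) := e.toEquiv.nontrivial
  exact IsSimpleGroup.isSimpleGroup_of_surjective e.symm.toMonoidHom e.symm.surjective

/-- The scalars in Omega. -/
theorem center_omega_iff (hQ : (polarBilin Q).Nondegenerate) (hn : 7 ≤ Fintype.card ι) (g : Cfsg.Omega F (⇑Q)) :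
    g ∈ Subgroup.center ↥(Cfsg.Omega F (⇑Q)) ↔
      ∃ a : F, a * a = 1 ∧ ((g.1 : GL ι F) : Matrix ι ι F) = a • (1 : Matrix ι ι F) := by
  haveI : Nonempty ι := Fintype.card_pos_iff.1 (by omega)
  have h1 : g ∈ Subgroup.center ↥(Cfsg.Omega F (⇑Q)) ↔ omegaEquiv Q g ∈ Subgroup.center (omg Q) := by
    simp only [Subgroup.mem_center_iff]
    refine ⟨fun h x => ?_, fun h x => (omegaEquiv Q).injective (by simpa using h (omegaEquiv Q x))⟩
    simpa using congrArg (omegaEquiv Q) (h ((omegaEquiv Q).symm x))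
  rw [h1, center_scalar hQ (by rwa [Module.finrank_fintype_fun_eq_card])]
  constructor
  · rintro ⟨a, ha⟩
    haveI : Nontrivial (ι → F) := Function.nontrivial
    obtain ⟨v, hv⟩ := exists_ne_zero_value hQ
    refine ⟨a, ?_, Matrix.ext_iff_mulVec.2 fun x => ?_⟩
    · have h := (omegaEquiv Q g).1.2 v
      rw [ha, q_smul] at h
      exact mul_right_cancel₀ hv (by rw [h, one_mul])
    · rw [← omegaEquiv_apply, ha, Matrix.smul_mulVec, Matrix.one_mulVec]
  · rintro ⟨a, -, ha⟩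
    exact ⟨a, fun x => by rw [omegaEquiv_apply, ha, Matrix.smul_mulVec, Matrix.one_mulVec]⟩

theorem card_pomega (hQ : (polarBilin Q).Nondegenerate) (hn : 7 ≤ Fintype.card ι) :
    Nat.card (Cfsg.POmega F (⇑Q)) * Nat.card (Subgroup.center ↥(Cfsg.Omega F (⇑Q))) * Nat.card (SpinVal F)
      = Nat.card (Cfsg.isometryGroup F (⇑Q)) := by
  show Nat.card (↥(Cfsg.Omega F (⇑Q)) ⧸ Subgroup.center ↥(Cfsg.Omega F (⇑Q))) * _ * _ = _
  rw [← Subgroup.card_eq_card_quotient_mul_card_subgroup, ← omega_index Q hQ (by omega) (Or.inr (by omega)),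
    Subgroup.card_mul_index]

theorem card_center_one (hQ : (polarBilin Q).Nondegenerate) (hn : 7 ≤ Fintype.card ι)
    (h : (2 : F) = 0 ∨ Odd (Fintype.card ι)) : Nat.card (Subgroup.center ↥(Cfsg.Omega F (⇑Q))) = 1 := by
  rw [Subgroup.card_eq_one, Subgroup.eq_bot_iff_forall]
  intro g hg
  obtain ⟨a, ha, hga⟩ := (center_omega_iff hQ hn g).1 hg
  have ha1 : a = 1 := by
    rcases mul_self_eq_one_iff.1 ha with h1 | h1
    · exact h1
    · rcases h with h2 | hodd
      · rw [h1]; linear_combination -h2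
      · obtain ⟨χ, hker, -, hχ⟩ := exists_matrix_spinor Q hQ (by omega) (Or.inr (by omega))
        have hd := det_eq_sgn Q hQ (Or.inr (by omega)) χ hχ g.1
        have hg1 : g.1 ∈ χ.ker := hker.symm ▸ g.2
        rw [MonoidHom.mem_ker] at hg1
        rw [hg1, hga, Matrix.det_smul, Matrix.det_one, mul_one, h1, hodd.neg_one_pow] at hd
        simp [sgn] at hd
        rw [h1]; linear_combination hd
  refine Subtype.ext (Subtype.ext (Units.ext ?_))
  rw [hga, ha1, one_smul]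
  rfl

theorem card_center_two (hQ : (polarBilin Q).Nondegenerate) (hn : 7 ≤ Fintype.card ι) (h2 : (2 : F) ≠ 0) :
    ((∃ g : ↥(Cfsg.isometryGroup F (⇑Q)), g ∈ Cfsg.Omega F (⇑Q) ∧ ((g : GL ι F) : Matrix ι ι F) = -1) →
      Nat.card (Subgroup.center ↥(Cfsg.Omega F (⇑Q))) = 2) ∧
    (¬ (∃ g : ↥(Cfsg.isometryGroup F (⇑Q)), g ∈ Cfsg.Omega F (⇑Q) ∧ ((g : GL ι F) : Matrix ι ι F) = -1) →
      Nat.card (Subgroup.center ↥(Cfsg.Omega F (⇑Q))) = 1) := by
  have hcase : ∀ z ∈ Subgroup.center ↥(Cfsg.Omega F (⇑Q)),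
      z = 1 ∨ ((z.1 : GL ι F) : Matrix ι ι F) = -1 := by
    intro z hz
    obtain ⟨a, ha, hza⟩ := (center_omega_iff hQ hn z).1 hz
    rcases mul_self_eq_one_iff.1 ha with h1 | h1
    · exact Or.inl (Subtype.ext (Subtype.ext (Units.ext (by rw [hza, h1, one_smul]; rfl))))
    · exact Or.inr (by rw [hza, h1, neg_one_smul])
  haveI : Nonempty ι := Fintype.card_pos_iff.1 (by omega)
  constructor
  · rintro ⟨g, hg, hgm⟩
    obtain ⟨z, hzdef⟩ : ∃ z : ↥(Cfsg.Omega F (⇑Q)), (⟨g, hg⟩ : ↥(Cfsg.Omega F (⇑Q))) = z := ⟨_, rfl⟩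
    have hzm : ((z.1 : GL ι F) : Matrix ι ι F) = -1 := by rw [← hzdef]; exact hgm
    have hzc : z ∈ Subgroup.center ↥(Cfsg.Omega F (⇑Q)) :=
      (center_omega_iff hQ hn z).2 ⟨-1, by ring, by rw [hzm, neg_one_smul]⟩
    have hz1 : z ≠ 1 := fun h => by
      rw [h] at hzm
      have h3 := congrFun (congrFun hzm (Classical.arbitrary ι)) (Classical.arbitrary ι)
      simp at h3
      exact h2 (by linear_combination h3)
    rw [Nat.card_eq_two_iff]
    refine ⟨⟨1, Subgroup.one_mem _⟩, ⟨z, hzc⟩, fun h => hz1 (congrArg Subtype.val h).symm,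
      Set.eq_univ_iff_forall.2 fun w => ?_⟩
    rcases hcase w.1 w.2 with h | h
    · exact Or.inl (Subtype.ext h)
    · exact Or.inr (Subtype.ext (Subtype.ext (Subtype.ext (Units.ext (h.trans hzm.symm)))))
  · intro hno
    rw [Subgroup.card_eq_one, Subgroup.eq_bot_iff_forall]
    intro z hz
    rcases hcase z hz with h | h
    · exact h
    · exact absurd ⟨z.1, z.2, h⟩ hno

end Cfsg.Agent.Orth
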