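/-
Orthogonal frames, the discriminant, and classification of forms in odd characteristic.
-/
import Cfsg.Agent.Lib.Orthogonal.Perp
import Cfsg.Agent.Lib.Orthogonal.NegOne

set_option autoImplicit false

universe u v

namespace Cfsg.Agent.Orth

open QuadraticMap Module

/-- An orthogonal family of non-singular vectors. -/
def IsFrame {F V κ : Type*} [Field F] [AddCommGroup V] [Module F V] (Q : QuadraticForm F V) (e : κ → V) : Prop :=
  (∀ i j, i ≠ j → polar Q (e i) (e j) = 0) ∧ ∀ i, Q (e i) ≠ 0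

section

variable {F V κ : Type*} [Field F] [AddCommGroup V] [Module F V] {Q : QuadraticForm F V} {e : κ → V}

theorem IsFrame.indep (he : IsFrame Q e) (h2 : (2 : F) ≠ 0) : LinearIndependent F e := by
  classical
  refine linearIndependent_iff'.2 fun s c hc i hi => ?_
  have h := congrArg (fun x => polarBilin Q (e i) x) hc
  simp only [map_sum, map_smul, polarBilin_apply_apply, map_zero, smul_eq_mul] at h
  rw [Finset.sum_eq_single i (fun j _ hj => by rw [he.1 i j hj.symm, mul_zero]) (fun h => absurd hi h),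
    b_self] at h
  exact (mul_eq_zero.1 h).resolve_right (mul_ne_zero h2 (he.2 i))

theorem IsFrame.span_nondeg (he : IsFrame Q e) (h2 : (2 : F) ≠ 0) [Finite κ] :
    ∀ a ∈ Submodule.span F (Set.range e), (∀ b ∈ Submodule.span F (Set.range e), polar Q a b = 0) → a = 0 := by
  classical
  haveI := Fintype.ofFinite κ
  intro a ha h
  obtain ⟨c, rfl⟩ := (Submodule.mem_span_range_iff_exists_fun F).1 ha
  refine Finset.sum_eq_zero fun i _ => ?_
  have h1 := h (e i) (Submodule.subset_span ⟨i, rfl⟩)
  rw [b_comm, ← polarBilin_apply_apply, map_sum] at h1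
  simp only [map_smul, polarBilin_apply_apply, smul_eq_mul] at h1
  rw [Finset.sum_eq_single i (fun j _ hj => by rw [he.1 i j hj.symm, mul_zero])
    (fun h => absurd (Finset.mem_univ i) h), b_self] at h1
  rw [(mul_eq_zero.1 h1).resolve_right (mul_ne_zero h2 (he.2 i)), zero_smul]

theorem IsFrame.cons {k : ℕ} {e : Fin k → V} (he : IsFrame Q e) {v : V}
    (hv : Q v ≠ 0) (hperp : v ∈ perp Q (Submodule.span F (Set.range e))) :
    IsFrame Q (Fin.snoc (α := fun _ => V) e v) := by
  have h := mem_perp_span.1 hperp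
  refine ⟨fun i j hij => ?_, fun i => ?_⟩
  · induction i using Fin.lastCases with
    | last =>
      induction j using Fin.lastCases with
      | last => exact absurd rfl hij
      | cast j => rw [Fin.snoc_last, Fin.snoc_castSucc, b_comm]; exact h _ ⟨j, rfl⟩
    | cast i =>
      induction j using Fin.lastCases with
      | last => rw [Fin.snoc_last, Fin.snoc_castSucc]; exact h _ ⟨i, rfl⟩
      | cast j =>
        rw [Fin.snoc_castSucc, Fin.snoc_castSucc]
        exact he.1 i j fun h => hij (h ▸ rfl)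
  · induction i using Fin.lastCases with
    | last => rwa [Fin.snoc_last]
    | cast i => rw [Fin.snoc_castSucc]; exact he.2 i

end

section

variable {F V : Type*} [Field F] [Finite F] [AddCommGroup V] [Module F V] [FiniteDimensional F V]
  {Q : QuadraticForm F V}

/-- A frame with all norms 1 except the last, which is 1 or a given non-square. -/
theorem exists_normal_frame (hQ : (polarBilin Q).Nondegenerate) (h2 : (2 : F) ≠ 0) {n : ℕ}
    (hn : finrank F V = n + 1) {α : F} (hα : ¬ IsSquare α) :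
    ∃ e : Fin (n + 1) → V, IsFrame Q e ∧ (∀ i, i ≠ Fin.last n → Q (e i) = 1) ∧
      (Q (e (Fin.last n)) = 1 ∨ Q (e (Fin.last n)) = α) := by
  classical
  haveI := Fintype.ofFinite F
  have main : ∀ k, k ≤ n → ∃ e : Fin k → V, IsFrame Q e ∧ ∀ i, Q (e i) = 1 := by
    intro k
    induction k with
    | zero => exact fun _ => ⟨Fin.elim0, ⟨fun i => i.elim0, fun i => i.elim0⟩, fun i => i.elim0⟩
    | succ k ih =>
      intro hk
      obtain ⟨e, he, he1⟩ := ih (by omega)
      have hP := he.span_nondeg h2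
      have hd := finrank_perp hP
      rw [finrank_span_eq_card (he.indep h2), Fintype.card_fin] at hd
      obtain ⟨v, hv⟩ := exists_value (nondeg_restr (perp_nondeg hQ hP)) (by omega) 1
      refine ⟨Fin.snoc e (v : V), he.cons (by rw [show Q (v : V) = 1 from hv]; exact one_ne_zero) v.2, fun i => ?_⟩
      induction i using Fin.lastCases with
      | last => rw [Fin.snoc_last]; exact hv
      | cast i => rw [Fin.snoc_castSucc]; exact he1 i
  obtain ⟨e, he, he1⟩ := main n le_rfl
  have hP := he.span_nondeg h2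
  have hd := finrank_perp hP
  rw [finrank_span_eq_card (he.indep h2), Fintype.card_fin] at hd
  haveI : Nontrivial (perp Q (Submodule.span F (Set.range e))) :=
    Module.nontrivial_of_finrank_pos (R := F) (by omega)
  obtain ⟨v, hv⟩ := exists_ne_zero_value (nondeg_restr (perp_nondeg hQ hP))
  have hv' : Q (v : V) ≠ 0 := hv
  obtain ⟨t, ht0, ht⟩ : ∃ t : F, t ≠ 0 ∧ (t * t * Q (v : V) = 1 ∨ t * t * Q (v : V) = α) := by
    have hα0 : α ≠ 0 := fun h => hα (h ▸ ⟨0, by ring⟩)
    by_cases hsq : IsSquare (Q (v : V))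
    · obtain ⟨s, hs⟩ := hsq
      have hs0 : s ≠ 0 := fun h => hv' (by rw [hs, h, mul_zero])
      exact ⟨s⁻¹, inv_ne_zero hs0, Or.inl (by rw [hs]; field_simp)⟩
    · have h1 : IsSquare ((Q (v : V))⁻¹ * α) := by
        rw [isSquare_mul_nonsquare h2 (inv_ne_zero hv') hα0 hα, isSquare_inv]; exact hsq
      obtain ⟨s, hs⟩ := h1
      have hs0 : s ≠ 0 := fun h => mul_ne_zero (inv_ne_zero hv') hα0 (by rw [hs, h, mul_zero])
      exact ⟨s, hs0, Or.inr (by rw [← hs]; field_simp)⟩
  refine ⟨Fin.snoc e (t • (v : V)), he.cons (by rw [q_smul]; exact mul_ne_zero (mul_ne_zero ht0 ht0) hv')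
    (Submodule.smul_mem _ t v.2), fun i hi => ?_, ?_⟩
  · induction i using Fin.lastCases with
    | last => exact absurd rfl hi
    | cast i => rw [Fin.snoc_castSucc]; exact he1 i
  · rw [Fin.snoc_last, q_smul]; exact ht

end

section Disc

variable {F : Type*} [Field F] {ι : Type} [Fintype ι] [DecidableEq ι]

/-- All frames of a form have the same discriminant class. -/
theorem frame_class (Q : QuadraticForm F (ι → F)) (hQ : (polarBilin Q).Nondegenerate) (h2 : (2 : F) ≠ 0)
    {e e' : ι → (ι → F)} (he : IsFrame Q e) (he' : IsFrame Q e') :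
    sqc F (∏ i, Q (e i)) = sqc F (∏ i, Q (e' i)) := by
  let M := LinearMap.toMatrix₂' F (polarBilin Q)
  have hM : M.det ≠ 0 := toMatrix_det_ne_zero Q hQ
  have key : ∀ {e : ι → (ι → F)}, IsFrame Q e → ∃ p : F, p ≠ 0 ∧
      p * p * M.det = 2 ^ Fintype.card ι * ∏ i, Q (e i) := by
    intro e he
    let P : Matrix ι ι F := Matrix.of fun i j => e j i
    have hD : P.transpose * M * P = Matrix.diagonal (fun i => 2 * Q (e i)) := by
      have h1 := LinearMap.toMatrix₂'_compl₁₂ (polarBilin Q) (Matrix.toLin' P) (Matrix.toLin' P)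
      rw [LinearMap.toMatrix'_toLin'] at h1
      rw [← h1]
      ext i j
      rw [LinearMap.toMatrix₂'_apply]
      have hcol : ∀ k, Matrix.toLin' P (Pi.single k 1) = e k := fun k => by
        rw [Matrix.toLin'_apply]; ext l; simp [P, Matrix.mulVec_single]
      show polar Q (Matrix.toLin' P (Pi.single i 1)) (Matrix.toLin' P (Pi.single j 1)) = _
      rw [hcol, hcol]
      rcases eq_or_ne i j with rfl | hij
      · rw [Matrix.diagonal_apply_eq, b_self]
      · rw [Matrix.diagonal_apply_ne _ hij, he.1 i j hij]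
    have hdet := congrArg Matrix.det hD
    rw [Matrix.det_mul, Matrix.det_mul, Matrix.det_transpose, Matrix.det_diagonal, Finset.prod_mul_distrib,
      Finset.prod_const, Finset.card_univ] at hdet
    refine ⟨P.det, fun h0 => ?_, by linear_combination hdet⟩
    rw [h0, zero_mul, zero_mul] at hdet
    exact mul_ne_zero (pow_ne_zero _ h2) (Finset.prod_ne_zero_iff.2 fun i _ => he.2 i) hdet.symm
  obtain ⟨p, hp, hpe⟩ := key he
  obtain ⟨p', hp', hpe'⟩ := key he'
  have hc : (2 : F) ^ Fintype.card ι ≠ 0 := pow_ne_zero _ h2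
  have hpi : ∀ {e : ι → (ι → F)}, IsFrame Q e → ∏ i, Q (e i) ≠ 0 := fun he =>
    Finset.prod_ne_zero_iff.2 fun i _ => he.2 i
  have h1 : sqc F (2 ^ Fintype.card ι) * sqc F (∏ i, Q (e i)) =
      sqc F (2 ^ Fintype.card ι) * sqc F (∏ i, Q (e' i)) := by
    rw [← sqc_mul hc (hpi he), ← sqc_mul hc (hpi he'), ← hpe, ← hpe', sqc_mul (mul_ne_zero hp hp) hM,
      sqc_mul (mul_ne_zero hp' hp') hM, sqc_mul hp hp, sqc_mul_self hp, sqc_mul hp' hp', sqc_mul_self hp']
  have h3 := congrArg (sqc F (2 ^ Fintype.card ι) * ·) h1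
  obtain ⟨a, ha⟩ := QuotientGroup.mk_surjective (sqc F (∏ i, Q (e i)))
  obtain ⟨b, hb⟩ := QuotientGroup.mk_surjective (sqc F (∏ i, Q (e' i)))
  rw [← ha, ← hb] at h3 ⊢
  have hx : ∀ u : Fˣ, sqc F (2 ^ Fintype.card ι) * (sqc F (2 ^ Fintype.card ι) * (QuotientGroup.mk u : SqCls F))
      = QuotientGroup.mk u := fun u => by
    rw [← mul_assoc, sqc_mul_self hc, ← QuotientGroup.mk_one, ← QuotientGroup.mk_mul, one_mul]
  exact (hx a).symm.trans (h3.trans (hx b))

/-- Forms with frames of the same norms are isometric. -/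
theorem exists_isometry_of_frames (h2 : (2 : F) ≠ 0) {Q₁ Q₂ : QuadraticForm F (ι → F)}
    {e e' : ι → (ι → F)} (he : IsFrame Q₁ e) (he' : IsFrame Q₂ e') (h : ∀ i, Q₂ (e' i) = Q₁ (e i)) :
    ∃ g : (ι → F) ≃ₗ[F] (ι → F), ∀ x, Q₂ (g x) = Q₁ x := by
  have hspan : ∀ {Q : QuadraticForm F (ι → F)} {e : ι → (ι → F)}, IsFrame Q e →
      ⊤ ≤ Submodule.span F (Set.range e) := fun he =>
    ((he.indep h2).span_eq_top_of_card_eq_finrank' (by rw [Module.finrank_fintype_fun_eq_card])).ge
  let b := Module.Basis.mk (he.indep h2) (hspan he)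
  let b' := Module.Basis.mk (he'.indep h2) (hspan he')
  refine ⟨b.equiv b' (Equiv.refl ι), fun x => ?_⟩
  have hb : (polarBilin Q₂).compl₁₂ (b.equiv b' (Equiv.refl ι)).toLinearMap (b.equiv b' (Equiv.refl ι)).toLinearMap
      = polarBilin Q₁ := by
    refine LinearMap.ext_basis b b fun i j => ?_
    show polar Q₂ (b.equiv b' (Equiv.refl ι) (b i)) (b.equiv b' (Equiv.refl ι) (b j)) = polar Q₁ (b i) (b j)
    rw [Module.Basis.equiv_apply, Module.Basis.equiv_apply]
    simp only [b, b', Equiv.refl_apply, Module.Basis.mk_apply]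
    rcases eq_or_ne i j with rfl | hij
    · rw [b_self, b_self, h]
    · rw [he.1 i j hij, he'.1 i j hij]
  have hx := LinearMap.congr_fun (LinearMap.congr_fun hb x) x
  simp only [LinearMap.compl₁₂_apply, polarBilin_apply_apply, LinearEquiv.coe_coe, b_self] at hx
  exact mul_left_cancel₀ h2 hx

/-- In odd dimension all non-degenerate forms are similar. -/
theorem exists_similarity [Fintype F] (h2 : (2 : F) ≠ 0) {n : ℕ} (hn : Odd n)
    (Q₁ Q₂ : QuadraticForm F (Fin n → F)) (h₁ : (polarBilin Q₁).Nondegenerate) (h₂ : (polarBilin Q₂).Nondegenerate) :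
    ∃ (g : (Fin n → F) ≃ₗ[F] (Fin n → F)) (c : F), c ≠ 0 ∧ ∀ v, Q₂ (g v) = c * Q₁ v := by
  obtain ⟨m, rfl⟩ : ∃ m, n = m + 1 := ⟨n - 1, by have := hn.pos; omega⟩
  obtain ⟨α, hα⟩ := FiniteField.exists_nonsquare (F := F) (fun h => h2 (by
    haveI := ringChar.of_eq h; exact CharTwo.two_eq_zero))
  have hα0 : α ≠ 0 := fun h => hα (h ▸ ⟨0, by ring⟩)
  have norm : ∀ Q : QuadraticForm F (Fin (m + 1) → F), (polarBilin Q).Nondegenerate →
      ∃ e, IsFrame Q e ∧ ∀ i, Q (e i) = if i = Fin.last m then Q (e (Fin.last m)) else 1 := by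
    intro Q hQ
    obtain ⟨e, he, h1, -⟩ := exists_normal_frame hQ h2 (Module.finrank_fin_fun F) hα
    refine ⟨e, he, fun i => ?_⟩
    split_ifs with h
    · rw [h]
    · exact h1 i h
  obtain ⟨e₁, he₁, h11⟩ := norm Q₁ h₁
  obtain ⟨e₂, he₂, h21⟩ := norm Q₂ h₂
  have prod_eq : ∀ {Q : QuadraticForm F (Fin (m + 1) → F)} {e : Fin (m + 1) → (Fin (m + 1) → F)},
      (∀ i, Q (e i) = if i = Fin.last m then Q (e (Fin.last m)) else 1) → ∏ i, Q (e i) = Q (e (Fin.last m)) :=
    fun {Q e} h => by rw [Finset.prod_congr rfl fun i _ => h i, Finset.prod_ite_eq' Finset.univ]; simp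
  have concl : ∀ c : F, c ≠ 0 → ∀ e : Fin (m + 1) → (Fin (m + 1) → F), IsFrame (c • Q₁) e →
      (∀ i, (c • Q₁) (e i) = if i = Fin.last m then (c • Q₁) (e (Fin.last m)) else 1) →
      sqc F ((c • Q₁) (e (Fin.last m))) = sqc F (Q₂ (e₂ (Fin.last m))) →
      ∃ (g : (Fin (m + 1) → F) ≃ₗ[F] (Fin (m + 1) → F)) (c : F), c ≠ 0 ∧ ∀ v, Q₂ (g v) = c * Q₁ v := by
    intro c hc e he hnorm hcl
    have hsq : IsSquare ((c • Q₁) (e (Fin.last m)) * (Q₂ (e₂ (Fin.last m)))⁻¹) := by
      rw [← sqc_eq_one_iff (mul_ne_zero (he.2 _) (inv_ne_zero (he₂.2 _))), sqc_mul (he.2 _) (inv_ne_zero (he₂.2 _)),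
        hcl, ← sqc_mul (he₂.2 _) (inv_ne_zero (he₂.2 _)), mul_inv_cancel₀ (he₂.2 _), sqc_one]
    obtain ⟨t, ht⟩ := hsq
    have ht0 : t ≠ 0 := fun h => mul_ne_zero (he.2 _) (inv_ne_zero (he₂.2 _)) (by rw [ht, h, mul_zero])
    let e' : Fin (m + 1) → (Fin (m + 1) → F) := fun i => if i = Fin.last m then t • e₂ i else e₂ i
    have he' : IsFrame Q₂ e' := by
      refine ⟨fun i j hij => ?_, fun i => ?_⟩
      · simp only [e']; split_ifs <;> simp [b_smul_left, b_smul_right, he₂.1 i j hij]
      · simp only [e']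
        split_ifs
        · rw [q_smul]; exact mul_ne_zero (mul_ne_zero ht0 ht0) (he₂.2 i)
        · exact he₂.2 i
    obtain ⟨g, hg⟩ := exists_isometry_of_frames h2 he he' fun i => by
      rw [hnorm i]
      simp only [e']
      split_ifs with h
      · rw [h, q_smul, ← ht, inv_mul_cancel_right₀ (he₂.2 _)]
      · rw [h21 i, if_neg h]
    exact ⟨g, c, hc, fun v => by rw [hg]; rfl⟩
  by_cases hcl : sqc F (Q₁ (e₁ (Fin.last m))) = sqc F (Q₂ (e₂ (Fin.last m)))
  · exact concl 1 one_ne_zero e₁ (by rw [one_smul]; exact he₁) (by rw [one_smul]; exact h11)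
      (by rw [one_smul]; exact hcl)
  have h1' : (polarBilin (α • Q₁)).Nondegenerate := nondeg_of fun x hx => eq_zero_of_b h₁ fun y => by
    have h := hx y
    have e : polar (⇑(α • Q₁)) x y = α * polar Q₁ x y := by simp [polar]; ring
    rw [e] at h
    exact (mul_eq_zero.1 h).resolve_left hα0
  obtain ⟨f, hf, hf1⟩ := norm (α • Q₁) h1'
  have hf' : IsFrame (α • Q₁) e₁ := ⟨fun i j hij => by
    have : polar (⇑(α • Q₁)) (e₁ i) (e₁ j) = α * polar Q₁ (e₁ i) (e₁ j) := by simp [polar]; ring
    rw [this, he₁.1 i j hij, mul_zero], fun i => mul_ne_zero hα0 (he₁.2 i)⟩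
  refine concl α hα0 f hf hf1 ?_
  have hcls := frame_class (α • Q₁) h1' h2 hf hf'
  rw [prod_eq hf1, show ∏ i, (α • Q₁) (e₁ i) = α ^ (m + 1) * ∏ i, Q₁ (e₁ i) by
    simp [Finset.prod_mul_distrib], prod_eq h11, sqc_mul (pow_ne_zero _ hα0) (he₁.2 _)] at hcls
  have hpow : sqc F (α ^ (m + 1)) = sqc F α := by
    obtain ⟨k, hk⟩ := hn
    rw [hk, pow_succ, sqc_mul (pow_ne_zero _ hα0) hα0, two_mul, pow_add,
      sqc_mul (pow_ne_zero _ hα0) (pow_ne_zero _ hα0), sqc_mul_self (pow_ne_zero _ hα0), one_mul]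
  rw [hcls, hpow]
  haveI := Fintype.ofFinite (SqCls F)
  classical
  have hA : sqc F α ≠ 1 := fun h => hα ((sqc_eq_one_iff hα0).1 h)
  by_contra hne
  have hne2 : sqc F α * sqc F (Q₁ (e₁ (Fin.last m))) ≠ sqc F (Q₁ (e₁ (Fin.last m))) := fun h =>
    hA (mul_eq_right.1 h)
  have h3 : ({sqc F α * sqc F (Q₁ (e₁ (Fin.last m))), sqc F (Q₁ (e₁ (Fin.last m))),
      sqc F (Q₂ (e₂ (Fin.last m)))} : Finset (SqCls F)).card = 3 := by
    rw [Finset.card_insert_of_notMem (by simp [hne, hne2]), Finset.card_pair hcl]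
  have h4 := ({sqc F α * sqc F (Q₁ (e₁ (Fin.last m))), sqc F (Q₁ (e₁ (Fin.last m))),
      sqc F (Q₂ (e₂ (Fin.last m)))} : Finset (SqCls F)).card_le_univ
  have hle := (card_sqCls_le (F := F)).1
  rw [Nat.card_eq_fintype_card] at hle
  omega

end Disc

section SumSquares

variable {F : Type u} [Field F]

/-- A totally singular half-dimensional subspace gives a frame with norms ±1 in equal numbers. -/
theorem frame_of_singular (h2 : (2 : F) ≠ 0) : ∀ (m : ℕ) {V : Type v} [AddCommGroup V] [Module F V]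
    [FiniteDimensional F V] (Q : QuadraticForm F V), (polarBilin Q).Nondegenerate → finrank F V = 2 * m →
    ∀ W : Submodule F V, finrank F W = m → (∀ w ∈ W, Q w = 0) →
    ∃ e : Fin m ⊕ Fin m → V, IsFrame Q e ∧ (∀ i, Q (e (.inl i)) = 1) ∧ ∀ i, Q (e (.inr i)) = -1
  | 0, _, _, _, _, _, _, _, _, _, _ => ⟨fun i => (i.elim Fin.elim0 Fin.elim0),
      ⟨fun i => (i.elim Fin.elim0 Fin.elim0), fun i => (i.elim Fin.elim0 Fin.elim0)⟩,
      fun i => i.elim0, fun i => i.elim0⟩
  | m + 1, V, _, _, _, Q, hQ, hn, W, hW, hs => by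
    obtain ⟨w, hwW, hw0⟩ : ∃ w ∈ W, w ≠ 0 := by
      by_contra! hall
      have : W = ⊥ := (Submodule.eq_bot_iff W).2 hall
      rw [this, finrank_bot] at hW
      omega
    obtain ⟨d, hwd, hd⟩ := exists_partner hQ hw0 (hs w hwW)
    have hP := hyp_pair_nondeg (hs w hwW) hd hwd
    have hle := finrank_span_pair_le (F := F) w d
    have hperp := finrank_perp hP
    have hinter : Disjoint (Submodule.span F {w, d}) (perp Q (Submodule.span F {w, d})) :=
      Submodule.disjoint_def.2 fun x hx hx' => hP x hx fun b hb => by rw [b_comm]; exact hx' b hb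
    have hsum := Submodule.finrank_add_finrank_le_of_disjoint hinter
    have h2' : finrank F (Submodule.span F {w, d}) = 2 := by
      have hli : LinearIndependent F ![w, d] := (LinearIndependent.pair_iff' hw0).2 fun t ht => by
        rw [← ht, b_smul_right, b_self, hs w hwW, mul_zero, mul_zero] at hwd
        exact zero_ne_one hwd
      have h := finrank_span_eq_card hli
      rwa [Fintype.card_fin, Matrix.range_cons, Matrix.range_cons, Matrix.range_empty, Set.union_empty,
        Set.singleton_union] at h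
    set R := perp Q (Submodule.span F {w, d})
    have hR : finrank F R = 2 * m := by omega
    let W' : Submodule F R := Submodule.comap R.subtype W
    have hW' : finrank F W' = m := by
      have hle1 : finrank F W' ≤ m := by
        have h : 2 * finrank F W' ≤ finrank F R :=
          finrank_singular_le (nondeg_restr (perp_nondeg hQ hP)) (W := W') (fun x hx => hs _ hx)
        rw [hR] at h
        exact Nat.le_of_mul_le_mul_left h two_pos
      let L : W →ₗ[F] F := (polarBilin Q d).comp W.subtype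
      have h1 := L.finrank_range_add_finrank_ker
      have h3 := (LinearMap.range L).finrank_le
      rw [Module.finrank_self] at h3
      have hmem : ∀ x : LinearMap.ker L, ((x : W) : V) ∈ R := fun x => mem_perp_span.2 (by
        rintro b (rfl | rfl)
        · exact b_eq_zero_of_singular hs hwW x.1.2
        · exact x.2)
      let ψ : LinearMap.ker L →ₗ[F] W' :=
        { toFun := fun x => ⟨⟨((x : W) : V), hmem x⟩, x.1.2⟩
          map_add' := fun _ _ => rfl
          map_smul' := fun _ _ => rfl }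
      have hψ : Function.Injective ψ := fun x y h =>
        Subtype.ext (Subtype.ext (congrArg (fun z : W' => ((z : R) : V)) h))
      have h4 : finrank F (LinearMap.ker L) ≤ finrank F W' := LinearMap.finrank_le_finrank_of_injective hψ
      refine le_antisymm hle1 ?_
      refine le_trans ?_ h4
      omega
    obtain ⟨e, he, he1, he2⟩ := frame_of_singular h2 m (restr Q R) (nondeg_restr (perp_nondeg hQ hP)) hR W' hW'
      (fun x hx => hs _ hx)
    refine ⟨Sum.elim (Fin.snoc (α := fun _ => V) (fun i => (e (.inl i) : V)) (w + d))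
      (Fin.snoc (α := fun _ => V) (fun i => (e (.inr i) : V)) (w - d)), ⟨?_, ?_⟩, ?_, ?_⟩
    · have hpe : ∀ i, polar Q (w + d) (e i : V) = 0 ∧ polar Q (w - d) (e i : V) = 0 := fun i => by
        have h1 := mem_perp_span.1 (e i).2 w (by simp)
        have h3 := mem_perp_span.1 (e i).2 d (by simp)
        exact ⟨by rw [b_add_left, h1, h3, add_zero], by rw [b_sub_left, h1, h3, sub_zero]⟩
      have hwd' : polar Q (w + d) (w - d) = 0 := by
        rw [b_add_left, b_sub_right, b_sub_right, b_self, b_self, hs w hwW, hd, hwd, b_comm d w, hwd]; ring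
      rintro (i | i) (j | j) hij <;> induction i using Fin.lastCases <;> induction j using Fin.lastCases <;>
        simp only [Sum.elim_inl, Sum.elim_inr, Fin.snoc_last, Fin.snoc_castSucc]
      all_goals first
        | exact (hij rfl).elim
        | exact (hpe _).1
        | exact (hpe _).2
        | exact hwd'
        | (rw [b_comm]; exact (hpe _).1)
        | (rw [b_comm]; exact (hpe _).2)
        | (rw [b_comm]; exact hwd')
        | (refine he.1 _ _ ?_; intro h; apply hij; simp_all)
    · rintro (i | i) <;> induction i using Fin.lastCases <;>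
        simp only [Sum.elim_inl, Sum.elim_inr, Fin.snoc_last, Fin.snoc_castSucc]
      all_goals first
        | exact he.2 _
        | (simp only [q_add, q_sub, hs w hwW, hd, hwd]; norm_num)
    · intro i; induction i using Fin.lastCases <;> simp only [Sum.elim_inl, Fin.snoc_last, Fin.snoc_castSucc]
      · rw [q_add, hs w hwW, hd, hwd]; ring
      · exact he1 _
    · intro i; induction i using Fin.lastCases <;> simp only [Sum.elim_inr, Fin.snoc_last, Fin.snoc_castSucc]
      · rw [q_sub, hs w hwW, hd, hwd]; ring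
      · exact he2 _

end SumSquares

end Cfsg.Agent.Orth
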