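/-
Maximal totally singular subspaces of a hyperbolic space: the parity of intersections.
-/
import Cfsg.Agent.Lib.Orthogonal.Perp
import Cfsg.Agent.Lib.Orthogonal.Counts
import Cfsg.Agent.Lib.Classical.AlternatingWitt

set_option autoImplicit false

namespace Cfsg.Agent.Orth

open QuadraticMap Module

variable {F V : Type*} [Field F] [AddCommGroup V] [Module F V] [FiniteDimensional F V] {Q : QuadraticForm F V}

theorem finrank_perp_eq (hQ : (polarBilin Q).Nondegenerate) (P : Submodule F V) :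
    finrank F (perp Q P) + finrank F P = finrank F V := by
  let Φ : V →ₗ[F] Dual F P := (LinearMap.lcomp F F P.subtype).comp (polarBilin Q)
  have hker : LinearMap.ker Φ = perp Q P := by
    ext x
    rw [LinearMap.mem_ker, mem_perp]
    constructor
    · intro h b hb
      rw [b_comm]; exact LinearMap.congr_fun h ⟨b, hb⟩
    · intro h
      refine LinearMap.ext fun b => ?_
      show polar Q x (b : V) = 0
      rw [b_comm]; exact h b b.2
  have hsurj : Function.Surjective Φ := fun f => by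
    obtain ⟨f', hf'⟩ := LinearMap.exists_extend f
    obtain ⟨y, hy⟩ := exists_rep hQ f'
    refine ⟨y, LinearMap.ext fun b => ?_⟩
    show polar Q y (b : V) = f b
    rw [b_comm, hy, ← hf']; rfl
  have h := Φ.finrank_range_add_finrank_ker
  rw [LinearMap.range_eq_top.2 hsurj, finrank_top, Subspace.dual_finrank_eq, hker] at h
  omega

theorem le_perp_perp (P : Submodule F V) : P ≤ perp Q (perp Q P) := fun x hx b hb => by
  rw [b_comm]; exact hb x hx

theorem perp_perp (hQ : (polarBilin Q).Nondegenerate) (P : Submodule F V) : perp Q (perp Q P) = P := by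
  refine (Submodule.eq_of_le_of_finrank_eq (le_perp_perp P) ?_).symm
  have h1 := finrank_perp_eq hQ P
  have h2 := finrank_perp_eq hQ (perp Q P)
  omega

omit [FiniteDimensional F V] in
theorem perp_sup (A B : Submodule F V) : perp Q (A ⊔ B) = perp Q A ⊓ perp Q B := by
  ext x
  simp only [mem_perp, Submodule.mem_inf]
  refine ⟨fun h => ⟨fun b hb => h b (Submodule.mem_sup_left hb), fun b hb => h b (Submodule.mem_sup_right hb)⟩,
    fun ⟨h1, h2⟩ b hb => ?_⟩
  obtain ⟨a, ha, c, hc, rfl⟩ := Submodule.mem_sup.1 hb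
  rw [b_add_left, h1 a ha, h2 c hc, add_zero]

/-- A totally singular subspace of half dimension. -/
def IsMaxSing (Q : QuadraticForm F V) (m : ℕ) (U : Submodule F V) : Prop :=
  finrank F U = m ∧ ∀ w ∈ U, Q w = 0

theorem IsMaxSing.perp_eq {m : ℕ} {U : Submodule F V} (hU : IsMaxSing Q m U) (hQ : (polarBilin Q).Nondegenerate)
    (hV : finrank F V = 2 * m) : perp Q U = U := by
  have hle : U ≤ perp Q U := fun x hx b hb => b_eq_zero_of_singular hU.2 hb hx
  refine (Submodule.eq_of_le_of_finrank_eq hle ?_).symm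
  have h1 := finrank_perp_eq hQ U
  have h2 := hU.1
  omega

omit [FiniteDimensional F V] in
/-- An alternating form has even rank. -/
theorem even_rank_alt {X : Type*} [AddCommGroup X] [Module F X] [FiniteDimensional F X]
    (β : LinearMap.BilinForm F X) (hβ : β.IsAlt) (R : Submodule F X)
    (hR : ∀ x, x ∈ R ↔ ∀ y, β x y = 0) : Even (finrank F X - finrank F R) := by
  obtain ⟨m, k, b, he, hee, hff, hr⟩ := AltForm.exists_basis hβ
  have hskew : ∀ u v, β u v = -β v u := fun u v => (LinearMap.IsAlt.neg hβ v u).symm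
  have hRspan : R = Submodule.span F (Set.range fun j : Fin k => b (Sum.inr j)) := by
    refine le_antisymm (fun x hx => ?_) (Submodule.span_le.2 (by rintro _ ⟨j, rfl⟩; exact (hR _).2 (hr j)))
    have hx' := (hR x).1 hx
    have h0 : ∀ i : Fin m ⊕ Fin m, b.repr x (Sum.inl i) = 0 := by
      rintro (i | i)
      · have h := hx' (b (Sum.inl (Sum.inr i)))
        rw [← b.sum_repr x, map_sum, LinearMap.sum_apply] at h
        simp only [map_smul, LinearMap.smul_apply, Fintype.sum_sum_type, he, hff, hr, smul_eq_mul, mul_zero,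
          Finset.sum_const_zero, add_zero, mul_ite, mul_one, Finset.sum_ite_eq', Finset.mem_univ, if_true] at h
        exact h
      · have h := hx' (b (Sum.inl (Sum.inl i)))
        rw [← b.sum_repr x, map_sum, LinearMap.sum_apply] at h
        simp only [map_smul, LinearMap.smul_apply, Fintype.sum_sum_type, hee, hr, smul_eq_mul, mul_zero,
          Finset.sum_const_zero, add_zero, zero_add] at h
        rw [Finset.sum_eq_single i (fun j _ hj => by
          rw [hskew _ (b (Sum.inl (Sum.inl i))), he, if_neg hj.symm, neg_zero, mul_zero])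
          (fun h => absurd (Finset.mem_univ i) h), hskew _ (b (Sum.inl (Sum.inl i))), he, if_pos rfl] at h
        linear_combination -h
    rw [← b.sum_repr x, Fintype.sum_sum_type]
    refine add_mem (Submodule.sum_mem _ fun i _ => ?_) (Submodule.sum_mem _ fun j _ => ?_)
    · rw [h0 i, zero_smul]; exact Submodule.zero_mem _
    · exact Submodule.smul_mem _ _ (Submodule.subset_span ⟨j, rfl⟩)
  have hli : LinearIndependent F (fun j : Fin k => b (Sum.inr j)) := b.linearIndependent.comp _ Sum.inr_injective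
  rw [hRspan, finrank_span_eq_card hli, Fintype.card_fin, Module.finrank_eq_card_basis b]
  exact ⟨m, by simp⟩

theorem parity_aux (hQ : (polarBilin Q).Nondegenerate) {m : ℕ} (hV : finrank F V = 2 * m) {U W X : Submodule F V}
    (hU : IsMaxSing Q m U) (hW : IsMaxSing Q m W) (hX : IsMaxSing Q m X) (hle : X ≤ U ⊔ W) :
    Even (m + finrank F ↥(U ⊓ W) + finrank F ↥(X ⊓ U) + finrank F ↥(X ⊓ W)) := by
  have hK : U ⊓ W ≤ X := by
    rw [← hX.perp_eq hQ hV]
    intro x hx b hb
    obtain ⟨u, hu, w, hw, rfl⟩ := Submodule.mem_sup.1 (hle hb)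
    rw [b_add_left, b_eq_zero_of_singular hU.2 hu hx.1, b_eq_zero_of_singular hW.2 hw hx.2, add_zero]
  let σ : U × W →ₗ[F] ↥(U ⊔ W) :=
    (U.subtype.coprod W.subtype).codRestrict _ fun p => by
      show (p.1 : V) + (p.2 : V) ∈ U ⊔ W
      exact Submodule.add_mem_sup p.1.2 p.2.2
  have hσ : LinearMap.range σ = ⊤ := by
    refine eq_top_iff.2 fun x _ => ?_
    obtain ⟨u, hu, w, hw, h⟩ := Submodule.mem_sup.1 x.2
    exact ⟨(⟨u, hu⟩, ⟨w, hw⟩), Subtype.ext h⟩
  obtain ⟨s, hs⟩ := σ.exists_rightInverse_of_surjective hσ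
  let π : X →ₗ[F] V := U.subtype.comp ((LinearMap.fst F U W).comp (s.comp (Submodule.inclusion hle)))
  have hπU : ∀ x : X, π x ∈ U := fun x => (s (Submodule.inclusion hle x)).1.2
  have hπW : ∀ x : X, (x : V) - π x ∈ W := fun x => by
    have h := congrArg Subtype.val (LinearMap.congr_fun hs (Submodule.inclusion hle x))
    have h' : π x + ((s (Submodule.inclusion hle x)).2 : V) = (x : V) := h
    rw [← h', add_sub_cancel_left]
    exact (s _).2.2
  let β : LinearMap.BilinForm F X := ((polarBilin Q).compl₁₂ π X.subtype)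
  have hβ : ∀ x y : X, β x y = polar Q (π x) (y : V) := fun _ _ => rfl
  have halt : β.IsAlt := fun x => by
    rw [hβ]
    have e : (x : V) = π x + ((x : V) - π x) := by abel
    have h := hX.2 _ x.2
    rw [e, q_add, hU.2 _ (hπU x), hW.2 _ (hπW x), zero_add, zero_add] at h
    conv_lhs => arg 3; rw [e]
    rw [b_add_right, h, b_self, hU.2 _ (hπU x)]
    ring
  let R : Submodule F X := Submodule.comap X.subtype ((X ⊓ U) ⊔ (X ⊓ W))
  have hR : ∀ x, x ∈ R ↔ ∀ y, β x y = 0 := by
    intro x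
    rw [Submodule.mem_comap]
    constructor
    · intro hx y
      rw [hβ]
      refine b_eq_zero_of_singular hX.2 ?_ y.2
      obtain ⟨a, ha, c, hc, hac⟩ := Submodule.mem_sup.1 hx
      -- π x lies in X
      have hmem : π x - a ∈ U ⊓ W := by
        refine ⟨U.sub_mem (hπU x) ha.2, ?_⟩
        have e : π x - a = c - ((x : V) - π x) := by rw [show ((x : V)) = a + c from hac.symm]; abel
        rw [e]; exact W.sub_mem hc.2 (hπW x)
      have := X.add_mem (hK hmem) ha.1
      rwa [sub_add_cancel] at this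
    · intro h
      have hp : π x ∈ perp Q X := by
        intro b hb
        rw [b_comm, ← hβ x ⟨b, hb⟩]
        exact h _
      have hπX : π x ∈ X := by rwa [hX.perp_eq hQ hV] at hp
      exact Submodule.mem_sup.2 ⟨π x, ⟨hπX, hπU x⟩, (x : V) - π x, ⟨X.sub_mem x.2 hπX, hπW x⟩, add_sub_cancel _ _⟩
  have hev := even_rank_alt β halt R hR
  have hdR : finrank F R = finrank F ↥((X ⊓ U) ⊔ (X ⊓ W)) :=
    (Submodule.comapSubtypeEquivOfLe (sup_le inf_le_left inf_le_left)).finrank_eq
  have hsum := Submodule.finrank_sup_add_finrank_inf_eq (X ⊓ U) (X ⊓ W)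
  have hint : (X ⊓ U) ⊓ (X ⊓ W) = U ⊓ W := by
    ext v
    simp only [Submodule.mem_inf]
    exact ⟨fun h => ⟨h.1.2, h.2.2⟩, fun h => ⟨⟨hK ⟨h.1, h.2⟩, h.1⟩, hK ⟨h.1, h.2⟩, h.2⟩⟩
  have hmono := Submodule.finrank_mono (show (X ⊓ U) ⊔ (X ⊓ W) ≤ X from sup_le inf_le_left inf_le_left)
  rw [hint] at hsum
  rw [hdR, hX.1] at hev
  rw [hX.1] at hmono
  obtain ⟨r, hr⟩ := hev
  exact ⟨r + finrank F ↥((X ⊓ U) ⊔ (X ⊓ W)) + (finrank F ↥(U ⊓ W)), by omega⟩

theorem max_singular_parity (hQ : (polarBilin Q).Nondegenerate) {m : ℕ} (hV : finrank F V = 2 * m)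
    {U W X : Submodule F V} (hU : IsMaxSing Q m U) (hW : IsMaxSing Q m W) (hX : IsMaxSing Q m X) :
    Even ((m - finrank F ↥(U ⊓ W)) + (m - finrank F ↥(W ⊓ X)) + (m - finrank F ↥(U ⊓ X))) := by
  have hS : perp Q (U ⊓ W) = U ⊔ W := by
    rw [← perp_perp hQ (U ⊔ W), perp_sup, hU.perp_eq hQ hV, hW.perp_eq hQ hV]
  obtain ⟨X', hX'⟩ : ∃ X', (X ⊓ (U ⊔ W)) ⊔ (U ⊓ W) = X' := ⟨_, rfl⟩
  have hperpXS : perp Q (X ⊔ (U ⊔ W)) = X ⊓ (U ⊓ W) := by
    rw [perp_sup, hX.perp_eq hQ hV, ← hS, perp_perp hQ]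
  have d1 := finrank_perp_eq hQ (X ⊔ (U ⊔ W))
  rw [hperpXS] at d1
  have d2 := Submodule.finrank_sup_add_finrank_inf_eq X (U ⊔ W)
  have d3 := finrank_perp_eq hQ (U ⊓ W)
  rw [hS] at d3
  have hKle : U ⊓ W ≤ U ⊔ W := inf_le_left.trans le_sup_left
  have hinf : (X ⊓ (U ⊔ W)) ⊓ (U ⊓ W) = X ⊓ (U ⊓ W) := by
    rw [inf_assoc, inf_eq_right.2 hKle]
  have d4 := Submodule.finrank_sup_add_finrank_inf_eq (X ⊓ (U ⊔ W)) (U ⊓ W)
  rw [hinf, hX'] at d4
  have h1 := hX.1
  have hX'm : IsMaxSing Q m X' := by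
    refine ⟨by omega, fun v hv => ?_⟩
    rw [← hX'] at hv
    obtain ⟨a, ha, c, hc, rfl⟩ := Submodule.mem_sup.1 hv
    have hac : polar Q c a = 0 := by
      obtain ⟨u, hu, w, hw, hau⟩ := Submodule.mem_sup.1 ha.2
      rw [← hau, b_add_right, b_eq_zero_of_singular hU.2 hc.1 hu, b_eq_zero_of_singular hW.2 hc.2 hw, add_zero]
    rw [q_add, hX.2 a ha.1, hU.2 c hc.1, b_comm, hac]; ring
  have hle : X' ≤ U ⊔ W := hX' ▸ sup_le inf_le_right hKle
  have hp := parity_aux hQ hV hU hW hX'm hle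
  have key : ∀ T : Submodule F V, U ⊓ W ≤ T → T ≤ U ⊔ W →
      finrank F ↥(X' ⊓ T) + finrank F ↥(X ⊓ (U ⊓ W)) = finrank F ↥(X ⊓ T) + finrank F ↥(U ⊓ W) := by
    intro T hKT hTS
    have e : X' ⊓ T = (X ⊓ T) ⊔ (U ⊓ W) := by
      rw [← hX', sup_comm, sup_inf_assoc_of_le _ hKT, sup_comm, inf_assoc, inf_eq_right.2 hTS]
    have d := Submodule.finrank_sup_add_finrank_inf_eq (X ⊓ T) (U ⊓ W)
    rw [← e, inf_assoc, inf_eq_right.2 hKT] at d
    exact d
  have kU := key U inf_le_left le_sup_left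
  have kW := key W inf_le_right le_sup_right
  have bU : finrank F ↥(U ⊓ W) ≤ m := hU.1 ▸ Submodule.finrank_mono inf_le_left
  have bWX : finrank F ↥(X ⊓ W) ≤ m := hX.1 ▸ Submodule.finrank_mono inf_le_left
  have bUX : finrank F ↥(X ⊓ U) ≤ m := hX.1 ▸ Submodule.finrank_mono inf_le_left
  rw [inf_comm W X, inf_comm U X]
  obtain ⟨r, hr⟩ := hp
  rw [Nat.even_iff]
  omega

end Cfsg.Agent.Orth
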