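/-
The standard maximal totally singular subspaces of the hyperbolic form.
-/
import Cfsg.Agent.Lib.Orthogonal.MaxSingular

set_option autoImplicit false

namespace Cfsg.Agent.Orth

open QuadraticMap Module

variable {F : Type*} [Field F] {m : ℕ}

/-- The x-coordinates. -/
def leftEmb (F : Type*) [Field F] (m : ℕ) : (Fin m → F) →ₗ[F] (Fin m ⊕ Fin m → F) where
  toFun x := Sum.elim x 0
  map_add' x y := funext fun i => by rcases i with i | i <;> simp
  map_smul' c x := funext fun i => by rcases i with i | i <;> simp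

/-- The x-coordinates with one exchanged for its y-coordinate. -/
def swapEmb (F : Type*) [Field F] {m : ℕ} (i₀ : Fin m) : (Fin m → F) →ₗ[F] (Fin m ⊕ Fin m → F) where
  toFun x := Sum.elim (fun i => if i = i₀ then 0 else x i) (fun i => if i = i₀ then x i else 0)
  map_add' x y := funext fun i => by rcases i with i | i <;> by_cases h : i = i₀ <;> simp [h]
  map_smul' c x := funext fun i => by rcases i with i | i <;> by_cases h : i = i₀ <;> simp [h]

theorem leftEmb_injective : Function.Injective (leftEmb F m) := fun x y h =>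
  funext fun i => congrFun h (Sum.inl i)

theorem swapEmb_injective (i₀ : Fin m) : Function.Injective (swapEmb F i₀) := fun x y h => funext fun i => by
  by_cases hi : i = i₀
  · simpa [swapEmb, hi] using congrFun h (Sum.inr i)
  · simpa [swapEmb, hi] using congrFun h (Sum.inl i)

theorem isMaxSing_left : IsMaxSing (qPlus F m) m (LinearMap.range (leftEmb F m)) := by
  refine ⟨by rw [LinearMap.finrank_range_of_inj leftEmb_injective, Module.finrank_fin_fun], ?_⟩
  rintro _ ⟨x, rfl⟩
  rw [coe_qPlus]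
  simp [Cfsg.quadFormPlus, leftEmb]

theorem isMaxSing_swap (i₀ : Fin m) : IsMaxSing (qPlus F m) m (LinearMap.range (swapEmb F i₀)) := by
  refine ⟨by rw [LinearMap.finrank_range_of_inj (swapEmb_injective i₀), Module.finrank_fin_fun], ?_⟩
  rintro _ ⟨x, rfl⟩
  rw [coe_qPlus]
  simp only [Cfsg.quadFormPlus, swapEmb, LinearMap.coe_mk, AddHom.coe_mk, Sum.elim_inl, Sum.elim_inr]
  exact Finset.sum_eq_zero fun i _ => by by_cases h : i = i₀ <;> simp [h]

/-- Their common part. -/
theorem left_inf_swap (i₀ : Fin m) : LinearMap.range (leftEmb F m) ⊓ LinearMap.range (swapEmb F i₀) =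
    (LinearMap.ker (LinearMap.proj (R := F) (φ := fun _ : Fin m => F) i₀)).map (leftEmb F m) := by
  ext v
  constructor
  · rintro ⟨⟨x, rfl⟩, y, hy⟩
    refine ⟨x, ?_, rfl⟩
    show x i₀ = 0
    have := congrFun hy (Sum.inl i₀)
    simpa [swapEmb, leftEmb] using this.symm
  · rintro ⟨x, hx, rfl⟩
    have hx' : x i₀ = 0 := hx
    refine ⟨⟨x, rfl⟩, x, funext fun i => ?_⟩
    rcases i with i | i <;> by_cases h : i = i₀ <;> simp [swapEmb, leftEmb, h, hx']

theorem finrank_left_inf_swap (i₀ : Fin m) :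
    finrank F ↥(LinearMap.range (leftEmb F m) ⊓ LinearMap.range (swapEmb F i₀)) + 1 = m := by
  rw [left_inf_swap, ← (Submodule.equivMapOfInjective (leftEmb F m) leftEmb_injective _).finrank_eq]
  have h := (LinearMap.proj (R := F) (φ := fun _ : Fin m => F) i₀).finrank_range_add_finrank_ker
  rw [LinearMap.range_eq_top.2 (fun c => ⟨Pi.single i₀ c, by simp⟩), finrank_top, Module.finrank_self,
    Module.finrank_fin_fun] at h
  omega

theorem finrank_plus : finrank F (Fin m ⊕ Fin m → F) = 2 * m := by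
  rw [Module.finrank_fintype_fun_eq_card]; simp; omega

/-- A totally singular subspace of dimension m - 1 lies in exactly two maximal ones. -/
theorem card_over_eq_two [Finite F] (U : Submodule F (Fin m ⊕ Fin m → F)) (hd : finrank F U + 1 = m)
    (hU : ∀ u ∈ U, qPlus F m u = 0) :
    Nat.card {W : Submodule F (Fin m ⊕ Fin m → F) // finrank F W = m ∧ (∀ w ∈ W, qPlus F m w = 0) ∧ U ≤ W} = 2 := by
  obtain ⟨i₀⟩ : Nonempty (Fin m) := Fin.pos_iff_nonempty.1 (by omega)
  obtain ⟨L, hL⟩ : ∃ L, LinearMap.range (leftEmb F m) = L := ⟨_, rfl⟩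
  obtain ⟨S, hS⟩ : ∃ S, LinearMap.range (swapEmb F i₀) = S := ⟨_, rfl⟩
  obtain ⟨K, hK⟩ : ∃ K, L ⊓ S = K := ⟨_, rfl⟩
  have hKd : finrank F K + 1 = m := by rw [← hK, ← hL, ← hS]; exact finrank_left_inf_swap i₀
  have hLm : IsMaxSing (qPlus F m) m L := hL ▸ isMaxSing_left
  have hSm : IsMaxSing (qPlus F m) m S := hS ▸ isMaxSing_swap i₀
  let φ : K ≃ₗ[F] U := LinearEquiv.ofFinrankEq _ _ (by omega)
  obtain ⟨g, hg, hgφ⟩ := witt_pair (qPlus_nondeg m) φ (fun x => by
    have hx : qPlus F m (x : Fin m ⊕ Fin m → F) = 0 := hLm.2 _ ((hK ▸ x.2 : (x : Fin m ⊕ Fin m → F) ∈ L ⊓ S).1)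
    rw [hx, hU _ (φ x).2])
  have hKU : K.map g.toLinearMap = U := by
    ext v
    constructor
    · rintro ⟨x, hx, rfl⟩
      show g x ∈ U
      rw [hgφ ⟨x, hx⟩]
      exact (φ _).2
    · intro hv
      refine ⟨(φ.symm ⟨v, hv⟩ : K), (φ.symm _).2, ?_⟩
      show g _ = v
      rw [hgφ, φ.apply_symm_apply]
  have hmap : ∀ W : Submodule F (Fin m ⊕ Fin m → F), IsMaxSing (qPlus F m) m W → K ≤ W →
      finrank F (W.map g.toLinearMap) = m ∧ (∀ w ∈ W.map g.toLinearMap, qPlus F m w = 0) ∧
        U ≤ W.map g.toLinearMap := by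
    intro W hW hKW
    refine ⟨(LinearEquiv.finrank_map_eq g W).trans hW.1, ?_, hKU ▸ Submodule.map_mono hKW⟩
    rintro _ ⟨w, hw, rfl⟩
    exact (hg w).trans (hW.2 w hw)
  have hne : L.map g.toLinearMap ≠ S.map g.toLinearMap := fun h => by
    have h1 := Submodule.map_injective_of_injective (f := g.toLinearMap) g.injective h
    have : finrank F K = m := by rw [← hK, ← h1, inf_idem]; exact hLm.1
    omega
  rw [Nat.card_eq_two_iff]
  refine ⟨⟨_, hmap L hLm (hK ▸ inf_le_left)⟩, ⟨_, hmap S hSm (hK ▸ inf_le_right)⟩,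
    fun h => hne (congrArg Subtype.val h), Set.eq_univ_iff_forall.2 ?_⟩
  rintro ⟨W, hW1, hW2, hW3⟩
  obtain ⟨W', hW'⟩ : ∃ W', W.map g.symm.toLinearMap = W' := ⟨_, rfl⟩
  have hW'W : W = W'.map g.toLinearMap := by
    rw [← hW', ← Submodule.map_comp]; simp
  have hW'm : IsMaxSing (qPlus F m) m W' := by
    refine ⟨hW' ▸ (LinearEquiv.finrank_map_eq g.symm W).trans hW1, ?_⟩
    rw [← hW']
    rintro _ ⟨w, hw, rfl⟩
    show qPlus F m (g.symm w) = 0
    rw [← hg (g.symm w), g.apply_symm_apply]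
    exact hW2 w hw
  have hKW' : K ≤ W' := fun x hx => by
    rw [← hW']
    exact ⟨g x, hW3 (hKU ▸ Submodule.mem_map_of_mem hx), g.symm_apply_apply x⟩
  have hzero : ∀ w ∈ W', ∀ i, i ≠ i₀ → w (Sum.inr i) = 0 := by
    intro w hw i hi
    have he : leftEmb F m (Pi.single i 1) ∈ K := by
      rw [← hK, ← hL, ← hS, left_inf_swap]
      exact ⟨_, Pi.single_eq_of_ne (Ne.symm hi) _, rfl⟩
    have h := b_eq_zero_of_singular hW'm.2 (hKW' he) hw
    simp only [polar, coe_qPlus, Cfsg.quadFormPlus, leftEmb, LinearMap.coe_mk, AddHom.coe_mk, Pi.add_apply,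
      Sum.elim_inl, Sum.elim_inr, Pi.zero_apply, mul_zero, Finset.sum_const_zero, zero_add, sub_zero, add_mul,
      Finset.sum_add_distrib, add_sub_cancel_right, Pi.single_apply, ite_mul, one_mul, zero_mul, Finset.sum_ite_eq',
      Finset.mem_univ, if_true] at h
    exact h
  have hq : ∀ w ∈ W', w (Sum.inl i₀) * w (Sum.inr i₀) = 0 := by
    intro w hw
    have h := hW'm.2 w hw
    rw [coe_qPlus] at h
    simp only [Cfsg.quadFormPlus] at h
    rwa [Finset.sum_eq_single i₀ (fun i _ hi => by rw [hzero w hw i hi, mul_zero]) (by simp)] at h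
  by_cases hall : ∀ w ∈ W', w (Sum.inr i₀) = 0
  · have hWL : W' ≤ L := fun w hw => hL ▸ ⟨fun i => w (Sum.inl i), funext fun i => by
      rcases i with i | i
      · rfl
      · show (0 : F) = _
        by_cases hi : i = i₀
        · rw [hi, hall w hw]
        · rw [hzero w hw i hi]⟩
    have e := Submodule.eq_of_le_of_finrank_eq hWL (hW'm.1.trans hLm.1.symm)
    left
    exact Subtype.ext (hW'W.trans (by rw [e]))
  · push Not at hall
    obtain ⟨w₀, hw₀, hne₀⟩ := hall
    have hx₀ : w₀ (Sum.inl i₀) = 0 := (mul_eq_zero.1 (hq w₀ hw₀)).resolve_right hne₀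
    have hx : ∀ w ∈ W', w (Sum.inl i₀) = 0 := by
      intro w hw
      have h := hq _ (W'.add_mem hw₀ hw)
      simp only [Pi.add_apply] at h
      have h' := hq w hw
      rw [hx₀, zero_add] at h
      have : w (Sum.inl i₀) * w₀ (Sum.inr i₀) = 0 := by linear_combination h - h'
      exact (mul_eq_zero.1 this).resolve_right hne₀
    have hWS : W' ≤ S := fun w hw => hS ▸ ⟨fun i => if i = i₀ then w (Sum.inr i) else w (Sum.inl i),
      funext fun i => by
        rcases i with i | i <;> by_cases hi : i = i₀ <;>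
          simp [swapEmb, hi, hx w hw, hzero w hw]
        ⟩
    have e := Submodule.eq_of_le_of_finrank_eq hWS (hW'm.1.trans hSm.1.symm)
    right
    exact Subtype.ext (hW'W.trans (by rw [e]))

end Cfsg.Agent.Orth
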