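/-
A quadratic form with a hyperbolic frame and an anisotropic core of rank at most one, over any field:
the commutator subgroup of the isometry group lies in the subgroup generated by the root elements of
the frame.
-/
import Cfsg.Agent.Lib.Orthogonal.OmegaTheory
import Cfsg.Agent.Lib.Orthogonal.Siegel

set_option autoImplicit false

namespace Cfsg.Agent.Orth

open QuadraticMap Module
open scoped commutatorElement

variable {F V : Type*} [Field F] [AddCommGroup V] [Module F V] {Q : QuadraticForm F V}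

/-- the partner label -/
def par (a : ℕ) : ℕ := if a % 2 = 0 then a + 1 else a - 1

theorem par_two_mul (k : ℕ) : par (2 * k) = 2 * k + 1 := by unfold par; split_ifs <;> omega

theorem par_two_mul_add (k : ℕ) : par (2 * k + 1) = 2 * k := by unfold par; split_ifs <;> omega

theorem par_par (a : ℕ) : par (par a) = a := by unfold par; split_ifs <;> omega

theorem par_ne (a : ℕ) : par a ≠ a := by unfold par; split_ifs <;> omega

theorem par_lt {a m : ℕ} (h : a < 2 * m) : par a < 2 * m := by unfold par; split_ifs <;> omega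

/-- A hyperbolic frame `v 0, v 1 | v 2, v 3 | …` with core `v (2m)` (possibly zero). -/
structure Frame (Q : QuadraticForm F V) (m : ℕ) (v : ℕ → V) : Prop where
  two : 2 ≤ m
  sing : ∀ a < 2 * m, Q (v a) = 0
  pol : ∀ a < 2 * m, ∀ b ≤ 2 * m, polar Q (v a) (v b) = if b = par a then 1 else 0
  core : ∀ x, (∀ a < 2 * m, polar Q x (v a) = 0) → ∃ c : F, x = c • v (2 * m)
  aniso : ∀ c : F, Q (c • v (2 * m)) = 0 → c • v (2 * m) = 0

/-- admissible pairs of labels -/
def Adm (m a b : ℕ) : Prop := a < 2 * m ∧ b ≤ 2 * m ∧ b ≠ a ∧ b ≠ par a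

/-- the root elements of the frame -/
def rootEls (Q : QuadraticForm F V) (m : ℕ) (v : ℕ → V) : Set (oGroup Q) :=
  {g | ∃ a b, ∃ t : F, Adm m a b ∧ IsSiegel g.1 Q (v a) (t • v b)}

/-- swaps of a pair and elements fixing the planes -/
def extraEls (Q : QuadraticForm F V) (m : ℕ) (v : ℕ → V) : Set (oGroup Q) :=
  {g | (∃ k < m, ∃ c : F, c ≠ 0 ∧ IsRefl g.1 Q (v (2 * k) - c • v (2 * k + 1))) ∨
    ∀ a < 2 * m, g.1 (v a) = v a}

namespace Frame

variable {m : ℕ} {v : ℕ → V} (H : Frame Q m v)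

include H

theorem pol' {a b : ℕ} (ha : a ≤ 2 * m) (hb : b < 2 * m) :
    polar Q (v a) (v b) = if a = par b then 1 else 0 := by rw [b_comm, H.pol b hb a ha]

theorem decomp (x : V) : ∃ c : F,
    x = (∑ b ∈ Finset.range (2 * m), polar Q x (v (par b)) • v b) + c • v (2 * m) := by
  obtain ⟨c, hc⟩ := H.core (x - ∑ b ∈ Finset.range (2 * m), polar Q x (v (par b)) • v b) fun a ha => by
    rw [b_sub_left, sub_eq_zero, show polar Q (∑ b ∈ Finset.range (2 * m), polar Q x (v (par b)) • v b) (v a) =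
      polarBilin Q (∑ b ∈ Finset.range (2 * m), polar Q x (v (par b)) • v b) (v a) from rfl,
      map_sum, LinearMap.sum_apply]
    rw [Finset.sum_eq_single (par a)]
    · show _ = polar Q (polar Q x (v (par (par a))) • v (par a)) (v a)
      rw [b_smul_left, par_par, H.pol' (par_lt ha).le ha, if_pos rfl, mul_one]
    · intro b hb hne
      show polar Q (polar Q x (v (par b)) • v b) (v a) = 0
      rw [b_smul_left, H.pol' (Finset.mem_range.1 hb).le ha, if_neg hne, mul_zero]
    · exact fun h => absurd (Finset.mem_range.2 (par_lt ha)) h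
  exact ⟨c, by rw [← hc, add_sub_cancel]⟩

theorem ext {g h : oGroup Q} (e : ∀ a ≤ 2 * m, g.1 (v a) = h.1 (v a)) : g = h := by
  refine Subtype.ext (LinearEquiv.ext fun x => ?_)
  obtain ⟨c, hc⟩ := H.decomp x
  rw [hc, map_add, map_add, map_sum, map_sum, map_smul, map_smul, e _ le_rfl]
  refine congrArg (· + _) (Finset.sum_congr rfl fun b hb => ?_)
  rw [map_smul, map_smul, e b (Finset.mem_range.1 hb).le]

theorem siegel_mem {a : ℕ} (ha : a < 2 * m) {w : V} (h1 : polar Q w (v a) = 0)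
    (h2 : polar Q w (v (par a)) = 0) {g : oGroup Q} (hg : IsSiegel g.1 Q (v a) w) :
    g ∈ Subgroup.closure (rootEls Q m v) := by
  have hu := H.sing a ha
  let P : V → Prop := fun y => polar Q (v a) y = 0 ∧
    ∀ g : oGroup Q, IsSiegel g.1 Q (v a) y → g ∈ Subgroup.closure (rootEls Q m v)
  have hadd : ∀ y y', P y → P y' → P (y + y') := by
    rintro y y' ⟨hy, ih⟩ ⟨hy', ih'⟩
    refine ⟨by rw [b_add_right, hy, hy', add_zero], fun g hg => ?_⟩
    obtain ⟨T₁, m1, s1⟩ := exists_siegel hu hy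
    obtain ⟨T₂, m2, s2⟩ := exists_siegel hu hy'
    have e : g = ⟨T₁, m1⟩ * ⟨T₂, m2⟩ := Subtype.ext (hg.eq (s1.mul hu hy hy' s2))
    rw [e]
    exact mul_mem (ih ⟨T₁, m1⟩ s1) (ih' ⟨T₂, m2⟩ s2)
  have hzero : P 0 := by
    refine ⟨b_zero_right _, fun g hg => ?_⟩
    rw [show g = 1 from Subtype.ext (hg.eq (isSiegel_one (map_zero Q) (Or.inr (Submodule.zero_mem _))))]
    exact one_mem _
  have hroot : ∀ b, ∀ t : F, Adm m a b → P (t • v b) := fun b t h =>
    ⟨by rw [b_smul_right, H.pol a ha b h.2.1, if_neg h.2.2.2, mul_zero],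
      fun g hg => Subgroup.subset_closure ⟨a, b, t, h, hg⟩⟩
  obtain ⟨c, hc⟩ := H.decomp w
  have hP : P w := by
    rw [hc]
    refine hadd _ _ (Finset.sum_induction _ P hadd hzero fun b hb => ?_) ?_
    · by_cases hba : b = a
      · rw [hba, h2, zero_smul]; exact hzero
      by_cases hbp : b = par a
      · rw [hbp, par_par, h1, zero_smul]; exact hzero
      exact hroot b _ ⟨ha, (Finset.mem_range.1 hb).le, hba, hbp⟩
    · exact hroot _ c ⟨ha, le_rfl, ha.ne', (par_lt ha).ne'⟩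
  exact hP.2 g hg

theorem refl_apply {k : ℕ} (hk : k < m) {c : F} (hc : c ≠ 0) {g : oGroup Q}
    (hg : IsRefl g.1 Q (v (2 * k) - c • v (2 * k + 1))) :
    g.1 (v (2 * k)) = c • v (2 * k + 1) ∧ g.1 (v (2 * k + 1)) = c⁻¹ • v (2 * k) ∧
      ∀ a ≤ 2 * m, a ≠ 2 * k → a ≠ 2 * k + 1 → g.1 (v a) = v a := by
  have h0 : 2 * k < 2 * m := by omega
  have h1 : 2 * k + 1 < 2 * m := by omega
  have hq : Q (v (2 * k) - c • v (2 * k + 1)) = -c := by
    rw [q_sub, q_smul, b_smul_right, H.sing _ h0, H.sing _ h1, H.pol _ h0 _ h1.le, par_two_mul, if_pos rfl]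
    ring
  refine ⟨?_, ?_, fun a ha n0 n1 => hg.fix ?_⟩
  · rw [hg.2, hq, b_sub_right, b_smul_right, b_self, H.sing _ h0, H.pol _ h0 _ h1.le, par_two_mul, if_pos rfl]
    match_scalars <;> field_simp <;> ring
  · rw [hg.2, hq, b_sub_right, b_smul_right, b_self, H.sing _ h1, H.pol _ h1 _ h0.le, par_two_mul_add,
      if_pos rfl]
    match_scalars <;> field_simp <;> ring
  · rw [b_sub_right, b_smul_right, H.pol' ha h0, H.pol' ha h1, par_two_mul, par_two_mul_add, if_neg n1,
      if_neg n0]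
    ring

theorem exists_refl_el {k : ℕ} (hk : k < m) {c : F} (hc : c ≠ 0) :
    ∃ g : oGroup Q, g ∈ extraEls Q m v ∧ IsRefl g.1 Q (v (2 * k) - c • v (2 * k + 1)) := by
  obtain ⟨r, hr, h⟩ := exists_isRefl (Q := Q) (a := v (2 * k) - c • v (2 * k + 1)) (by
    rw [q_sub, q_smul, b_smul_right, H.sing _ (by omega), H.sing _ (by omega),
      H.pol _ (by omega) _ (by omega), par_two_mul, if_pos rfl]
    simpa using hc)
  exact ⟨⟨r, hr⟩, Or.inl ⟨k, hk, c, hc, h⟩, h⟩

/-- the conjugate of a root element by an element of `extraEls` -/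
theorem extra_conj {g s : oGroup Q} (hg : g ∈ extraEls Q m v) (hs : s ∈ rootEls Q m v) :
    g * s * g⁻¹ ∈ rootEls Q m v := by
  obtain ⟨a, b, t, hab, hs⟩ := hs
  obtain ⟨π, hπ, hmap⟩ : ∃ π : ℕ → ℕ, (∀ a b, Adm m a b → Adm m (π a) (π b)) ∧
      ∀ a ≤ 2 * m, ∃ c : F, g.1 (v a) = c • v (π a) := by
    rcases hg with ⟨k, hk, c, hc, hg⟩ | hg
    · obtain ⟨e0, e1, e2⟩ := H.refl_apply hk hc hg
      obtain ⟨π, hπ⟩ : ∃ π : ℕ → ℕ, ∀ a, π a = if a = 2 * k then 2 * k + 1 else
          if a = 2 * k + 1 then 2 * k else a := ⟨_, fun _ => rfl⟩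
      have hinv : ∀ a, π (π a) = a := fun a => by rw [hπ (π a), hπ a]; split_ifs <;> omega
      have hpar : ∀ a, par (π a) = π (par a) := fun a => by
        rw [hπ a]
        split_ifs with n0 n1
        · rw [n0, par_two_mul_add, hπ, par_two_mul, if_neg (by omega), if_pos rfl]
        · rw [n1, par_two_mul, hπ, par_two_mul_add, if_pos rfl]
        · rw [hπ (par a), if_neg, if_neg]
          · exact fun h => n0 (by rw [← par_par a, h, par_two_mul_add])
          · exact fun h => n1 (by rw [← par_par a, h, par_two_mul])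
      refine ⟨π, fun a b h => ⟨?_, ?_, fun e => h.2.2.1 ?_, fun e => h.2.2.2 ?_⟩, fun a ha => ?_⟩
      · have := h.1; rw [hπ]; split_ifs <;> omega
      · have := h.2.1; rw [hπ]; split_ifs <;> omega
      · rw [← hinv b, e, hinv]
      · rw [← hinv b, e, hpar, hinv]
      · by_cases n0 : a = 2 * k
        · exact ⟨c, by rw [hπ, if_pos n0, n0, e0]⟩
        by_cases n1 : a = 2 * k + 1
        · exact ⟨c⁻¹, by rw [hπ, if_neg n0, if_pos n1, n1, e1]⟩
        exact ⟨1, by rw [hπ, if_neg n0, if_neg n1, one_smul, e2 a ha n0 n1]⟩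
    · refine ⟨id, fun _ _ h => h, fun a ha => ?_⟩
      rcases lt_or_eq_of_le ha with h | rfl
      · exact ⟨1, by rw [one_smul]; exact hg a h⟩
      · refine H.core _ fun a ha => ?_
        rw [← hg a ha, b_map g.2, b_comm, H.pol a ha _ le_rfl, if_neg (par_lt ha).ne']
  obtain ⟨ca, ea⟩ := hmap a hab.1.le
  obtain ⟨cb, eb⟩ := hmap b hab.2.1
  have h := hs.conj g.2
  rw [map_smul, ea, eb] at h
  have h' := h.scale
  rw [smul_smul, smul_smul] at h'
  exact ⟨π a, π b, _, hπ a b hab, h'⟩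

theorem extra_inv {g : oGroup Q} (hg : g ∈ extraEls Q m v) : g⁻¹ ∈ extraEls Q m v := by
  rcases hg with ⟨k, hk, c, hc, hg⟩ | hg
  · refine Or.inl ⟨k, hk, c, hc, ?_⟩
    have e : g * g = 1 := by
      obtain ⟨e0, e1, e2⟩ := H.refl_apply hk hc hg
      refine H.ext fun a ha => ?_
      show g.1 (g.1 (v a)) = v a
      by_cases n0 : a = 2 * k
      · rw [n0, e0, map_smul, e1, smul_smul, mul_inv_cancel₀ hc, one_smul]
      by_cases n1 : a = 2 * k + 1
      · rw [n1, e1, map_smul, e0, smul_smul, inv_mul_cancel₀ hc, one_smul]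
      rw [e2 a ha n0 n1, e2 a ha n0 n1]
    rwa [inv_eq_of_mul_eq_one_right e]
  · refine Or.inr fun a ha => ?_
    conv_lhs => rw [← hg a ha]
    exact g.1.symm_apply_apply (v a)

theorem exists_n {a b : ℕ} (hab : Adm m a b) (hb : b < 2 * m) {t : F} (ht : t ≠ 0) :
    ∃ n ∈ Subgroup.closure (rootEls Q m v), n.1 (v a) = t⁻¹ • v (par b) ∧ n.1 (v (par a)) = t • v b ∧
      n.1 (v b) = -(t⁻¹ • v (par a)) ∧ n.1 (v (par b)) = -(t • v a) ∧
      ∀ x ≤ 2 * m, x ≠ a → x ≠ par a → x ≠ b → x ≠ par b → n.1 (v x) = v x := by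
  obtain ⟨ha, -, hba, hbp⟩ := hab
  have hpa := par_lt ha
  have hpb := par_lt hb
  have hbp' : par b ≠ par a := fun h => hba (by rw [← par_par b, h, par_par])
  have hbp2 : par b ≠ a := fun h => hbp (by rw [← h, par_par])
  have key : ∀ a b, a < 2 * m → b < 2 * m → b ≠ a → b ≠ par a → ∀ s : F, ∃ g ∈ Subgroup.closure (rootEls Q m v),
      ∀ x ≤ 2 * m, g.1 (v x) = v x + (if x = par a then s • v b else 0) - (if x = par b then s • v a else 0) := by
    intro a b ha hb hba hbp s
    have hy : polar Q (v a) (s • v b) = 0 := by rw [b_smul_right, H.pol a ha b hb.le, if_neg hbp, mul_zero]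
    obtain ⟨T, hT, hs⟩ := exists_siegel (H.sing a ha) hy
    refine ⟨⟨T, hT⟩, Subgroup.subset_closure ⟨a, b, s, ⟨ha, hb.le, hba, hbp⟩, hs⟩, fun x hx => ?_⟩
    rw [hs, b_smul_right, q_smul, H.sing b hb, H.pol' hx ha, H.pol' hx hb]
    split_ifs <;> module
  obtain ⟨A, hA, eA⟩ := key a b ha hb hba hbp t
  obtain ⟨B, hB, eB⟩ := key (par a) (par b) hpa hpb hbp' (by rw [par_par]; exact hbp2) t⁻¹
  simp only [par_par] at eB
  refine ⟨A * B * A, mul_mem (mul_mem hA hB) hA, ?_, ?_, ?_, ?_, fun x hx n1 n2 n3 n4 => ?_⟩ <;>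
    show A.1 (B.1 (A.1 _)) = _
  · have a1 : A.1 (v a) = v a := by rw [eA a ha.le, if_neg (par_ne a).symm, if_neg hbp2.symm]; simp
    have b1 : B.1 (v a) = v a + t⁻¹ • v (par b) := by rw [eB a ha.le, if_pos rfl, if_neg hba.symm]; simp
    have a2 : A.1 (v (par b)) = v (par b) - t • v a := by
      rw [eA _ hpb.le, if_neg hbp', if_pos rfl]; simp
    rw [a1, b1, map_add, map_smul, a1, a2]
    match_scalars <;> field_simp <;> ring
  · have a1 : A.1 (v (par a)) = v (par a) + t • v b := by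
      rw [eA _ hpa.le, if_pos rfl, if_neg hbp'.symm]; simp
    have b1 : B.1 (v (par a)) = v (par a) := by rw [eB _ hpa.le, if_neg (par_ne a), if_neg hbp.symm]; simp
    have b2 : B.1 (v b) = v b - t⁻¹ • v (par a) := by rw [eB b hb.le, if_neg hba, if_pos rfl]; simp
    have a2 : A.1 (v b) = v b := by rw [eA b hb.le, if_neg hbp, if_neg (par_ne b).symm]; simp
    rw [a1, map_add, map_smul, b1, b2, map_add, map_smul, map_sub, map_smul, a1, a2]
    match_scalars <;> field_simp <;> ring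
  · have a2 : A.1 (v b) = v b := by rw [eA b hb.le, if_neg hbp, if_neg (par_ne b).symm]; simp
    have b2 : B.1 (v b) = v b - t⁻¹ • v (par a) := by rw [eB b hb.le, if_neg hba, if_pos rfl]; simp
    have a1 : A.1 (v (par a)) = v (par a) + t • v b := by
      rw [eA _ hpa.le, if_pos rfl, if_neg hbp'.symm]; simp
    rw [a2, b2, map_sub, map_smul, a1, a2]
    match_scalars <;> field_simp <;> ring
  · have a2 : A.1 (v (par b)) = v (par b) - t • v a := by
      rw [eA _ hpb.le, if_neg hbp', if_pos rfl]; simp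
    have b2 : B.1 (v (par b)) = v (par b) := by rw [eB _ hpb.le, if_neg hbp2, if_neg (par_ne b)]; simp
    have b1 : B.1 (v a) = v a + t⁻¹ • v (par b) := by rw [eB a ha.le, if_pos rfl, if_neg hba.symm]; simp
    have a1 : A.1 (v a) = v a := by rw [eA a ha.le, if_neg (par_ne a).symm, if_neg hbp2.symm]; simp
    rw [a2, map_sub, map_smul, b1, b2, map_sub, map_smul, map_add, map_smul, a1, a2]
    match_scalars <;> field_simp <;> ring
  · have a1 : A.1 (v x) = v x := by rw [eA x hx, if_neg n2, if_neg n4]; simp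
    have b1 : B.1 (v x) = v x := by rw [eB x hx, if_neg n1, if_neg n3]; simp
    rw [a1, b1, a1]

/-- the squares of the hyperbolic rotations of a plane -/
theorem exists_rot_sq {k : ℕ} (hk : k < m) {c : F} (hc : c ≠ 0) :
    ∃ h ∈ Subgroup.closure (rootEls Q m v), h.1 (v (2 * k)) = (c * c) • v (2 * k) ∧
      h.1 (v (2 * k + 1)) = (c⁻¹ * c⁻¹) • v (2 * k + 1) ∧
      ∀ x ≤ 2 * m, x ≠ 2 * k → x ≠ 2 * k + 1 → h.1 (v x) = v x := by
  obtain ⟨j, hj, hjk⟩ : ∃ j < m, j ≠ k := by
    have := H.two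
    by_cases h : k = 0
    · exact ⟨1, by omega, by omega⟩
    · exact ⟨0, by omega, fun e => h e.symm⟩
  have hk0 : 2 * k < 2 * m := by omega
  have two : ∀ b, Adm m (2 * k) b → b < 2 * m → ∃ d ∈ Subgroup.closure (rootEls Q m v),
      d.1 (v (2 * k)) = c • v (2 * k) ∧ d.1 (v (2 * k + 1)) = c⁻¹ • v (2 * k + 1) ∧
      d.1 (v b) = c • v b ∧ d.1 (v (par b)) = c⁻¹ • v (par b) ∧
      ∀ x ≤ 2 * m, x ≠ 2 * k → x ≠ 2 * k + 1 → x ≠ b → x ≠ par b → d.1 (v x) = v x := by
    intro b hab hb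
    obtain ⟨n, hn, n1, n2, n3, n4, n5⟩ := H.exists_n hab hb (neg_ne_zero.2 hc)
    obtain ⟨p, hp, p1, p2, p3, p4, p5⟩ := H.exists_n hab hb (one_ne_zero (α := F))
    simp only [par_two_mul, inv_one, one_smul] at n1 n2 n3 n4 n5 p1 p2 p3 p4 p5
    refine ⟨n * p, mul_mem hn hp, ?_, ?_, ?_, ?_, fun x hx m1 m2 m3 m4 => ?_⟩ <;> show n.1 (p.1 _) = _
    · rw [p1, n4, neg_smul, _root_.neg_neg]
    · rw [p2, n3, inv_neg, neg_smul, _root_.neg_neg]
    · rw [p3, map_neg, n2, neg_smul, _root_.neg_neg]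
    · rw [p4, map_neg, n1, inv_neg, neg_smul, _root_.neg_neg]
    · rw [p5 x hx m1 m2 m3 m4, n5 x hx m1 m2 m3 m4]
  obtain ⟨d, hd, d1, d2, d3, d4, d5⟩ := two (2 * j)
    ⟨hk0, by omega, by omega, by rw [par_two_mul]; omega⟩ (by omega)
  obtain ⟨d', hd', e1, e2, e3, e4, e5⟩ := two (2 * j + 1)
    ⟨hk0, by omega, by omega, by rw [par_two_mul]; omega⟩ (by omega)
  rw [par_two_mul] at d4 d5
  rw [par_two_mul_add] at e4 e5
  refine ⟨d * d', mul_mem hd hd', ?_, ?_, fun x hx m1 m2 => ?_⟩ <;> show d.1 (d'.1 _) = _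
  · rw [e1, map_smul, d1, smul_smul]
  · rw [e2, map_smul, d2, smul_smul]
  · by_cases m3 : x = 2 * j
    · rw [m3, e4, map_smul, d3, smul_smul, inv_mul_cancel₀ hc, one_smul]
    by_cases m4 : x = 2 * j + 1
    · rw [m4, e3, map_smul, d4, smul_smul, mul_inv_cancel₀ hc, one_smul]
    rw [e5 x hx m1 m2 m4 m3, d5 x hx m1 m2 m3 m4]

theorem extra_comm {g h : oGroup Q} (hg : g ∈ extraEls Q m v) (hh : h ∈ extraEls Q m v) :
    ⁅g, h⁆ ∈ Subgroup.closure (rootEls Q m v) := by
  have hres : ∀ g : oGroup Q, (∀ a < 2 * m, g.1 (v a) = v a) → ∃ c : F, g.1 (v (2 * m)) = c • v (2 * m) :=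
    fun g hg => H.core _ fun a ha => by
      rw [← hg a ha, b_map g.2, b_comm, H.pol a ha _ le_rfl, if_neg (par_lt ha).ne']
  have hcomm : ∀ g h : oGroup Q, (∀ a ≤ 2 * m, g.1 (h.1 (v a)) = h.1 (g.1 (v a))) →
      ⁅g, h⁆ ∈ Subgroup.closure (rootEls Q m v) := fun g h e => by
    rw [commutatorElement_eq_one_iff_mul_comm.2 (H.ext (g := g * h) (h := h * g) e)]
    exact one_mem _
  have mixed : ∀ g h : oGroup Q, ∀ k < m, ∀ c : F, c ≠ 0 → IsRefl g.1 Q (v (2 * k) - c • v (2 * k + 1)) →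
      (∀ a < 2 * m, h.1 (v a) = v a) → ∀ a ≤ 2 * m, g.1 (h.1 (v a)) = h.1 (g.1 (v a)) := by
    intro g h k hk c hc hg hh a ha
    obtain ⟨e0, e1, e2⟩ := H.refl_apply hk hc hg
    rcases lt_or_eq_of_le ha with hlt | rfl
    · rw [hh a hlt]
      by_cases n0 : a = 2 * k
      · rw [n0, e0, map_smul, hh _ (by omega)]
      by_cases n1 : a = 2 * k + 1
      · rw [n1, e1, map_smul, hh _ (by omega)]
      rw [e2 a ha n0 n1, hh a hlt]
    · obtain ⟨d, hd⟩ := hres h hh
      rw [hd, map_smul, e2 _ le_rfl (by omega) (by omega), hd]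
  rcases hg with ⟨k, hk, c, hc, hg⟩ | hg <;> rcases hh with ⟨j, hj, d, hd, hh⟩ | hh
  · obtain ⟨g0, g1, g2⟩ := H.refl_apply hk hc hg
    obtain ⟨h0, h1, h2⟩ := H.refl_apply hj hd hh
    by_cases hkj : k = j
    · subst hkj
      obtain ⟨r, hr, r0, r1, r2⟩ := H.exists_rot_sq hk (c := d / c) (div_ne_zero hd hc)
      have e : r * (h * g) = g * h := by
        refine H.ext fun a ha => ?_
        show r.1 (h.1 (g.1 (v a))) = g.1 (h.1 (v a))
        by_cases n0 : a = 2 * k
        · rw [n0, g0, map_smul, h1, map_smul, map_smul, r0, h0, map_smul, g1]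
          match_scalars
          field_simp
        by_cases n1 : a = 2 * k + 1
        · rw [n1, g1, map_smul, h0, map_smul, map_smul, r1, h1, map_smul, g0]
          match_scalars
          field_simp
        rw [g2 a ha n0 n1, h2 a ha n0 n1, g2 a ha n0 n1, r2 a ha n0 n1]
      rw [commutatorElement_def, show g * h * g⁻¹ * h⁻¹ = g * h * (h * g)⁻¹ by group, ← e,
        mul_inv_cancel_right]
      exact hr
    · refine hcomm g h fun a ha => ?_
      by_cases n0 : a = 2 * k
      · rw [n0, g0, h2 _ (by omega) (by omega) (by omega), map_smul, g0, h2 _ (by omega) (by omega) (by omega)]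
      by_cases n1 : a = 2 * k + 1
      · rw [n1, g1, h2 _ (by omega) (by omega) (by omega), map_smul, g1, h2 _ (by omega) (by omega) (by omega)]
      by_cases n2 : a = 2 * j
      · rw [n2, h0, g2 _ (by omega) (by omega) (by omega), map_smul, h0,
          g2 _ (by omega) (by omega) (by omega)]
      by_cases n3 : a = 2 * j + 1
      · rw [n3, h1, g2 _ (by omega) (by omega) (by omega), map_smul, h1,
          g2 _ (by omega) (by omega) (by omega)]
      rw [g2 a ha n0 n1, h2 a ha n2 n3, g2 a ha n0 n1]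
  · exact hcomm g h (mixed g h k hk c hc hg hh)
  · exact hcomm g h fun a ha => (mixed h g j hj d hd hh hg a ha).symm
  · refine hcomm g h fun a ha => ?_
    rcases lt_or_eq_of_le ha with hlt | rfl
    · rw [hg a hlt, hh a hlt, hg a hlt]
    · obtain ⟨c, hc⟩ := hres g hg
      obtain ⟨d, hd⟩ := hres h hh
      rw [hc, hd, map_smul, map_smul, hc, hd, smul_smul, smul_smul, mul_comm]

theorem step {k : ℕ} (hk : k < m) (g : oGroup Q) (hg : ∀ a < 2 * k, g.1 (v a) = v a) :
    ∃ y ∈ Subgroup.closure (rootEls Q m v ∪ extraEls Q m v),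
      ∀ a < 2 * (k + 1), (y⁻¹ * g).1 (v a) = v a := by
  have h0 : 2 * k < 2 * m := by omega
  have h1 : 2 * k + 1 < 2 * m := by omega
  have p01 : polar Q (v (2 * k)) (v (2 * k + 1)) = 1 := by rw [H.pol _ h0 _ h1.le, par_two_mul, if_pos rfl]
  have p10 : polar Q (v (2 * k + 1)) (v (2 * k)) = 1 := by rw [b_comm]; exact p01
  set K := Subgroup.closure (rootEls Q m v ∪ extraEls Q m v)
  have hE : Subgroup.closure (rootEls Q m v) ≤ K := Subgroup.closure_mono Set.subset_union_left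
  -- Siegel elements fixing the earlier planes
  have sie : ∀ a, (a = 2 * k ∨ a = 2 * k + 1) → ∀ w : V, polar Q w (v (2 * k)) = 0 →
      polar Q w (v (2 * k + 1)) = 0 → (∀ b < 2 * k, polar Q w (v b) = 0) →
      ∃ y ∈ K, IsSiegel y.1 Q (v a) w ∧ ∀ b < 2 * k, y.1 (v b) = v b := by
    intro a ha w w0 w1 wlt
    have hal : a < 2 * m := by rcases ha with rfl | rfl <;> assumption
    have q1 : polar Q w (v a) = 0 := by rcases ha with rfl | rfl <;> assumption
    have q2 : polar Q w (v (par a)) = 0 := by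
      rcases ha with rfl | rfl
      · rw [par_two_mul]; exact w1
      · rw [par_two_mul_add]; exact w0
    obtain ⟨T, hT, hs⟩ := exists_siegel (H.sing a hal) (y := w) (by rw [b_comm]; exact q1)
    refine ⟨⟨T, hT⟩, hE (H.siegel_mem hal q1 q2 (g := ⟨T, hT⟩) hs), hs, fun b hb => hs.fix ?_ ?_⟩
    · rw [H.pol' (by omega) hal, if_neg]
      rcases ha with rfl | rfl
      · rw [par_two_mul]; omega
      · rw [par_two_mul_add]; omega
    · rw [b_comm]; exact wlt b hb
  have ref : ∀ c : F, c ≠ 0 → ∃ y ∈ K, y.1 (v (2 * k)) = c • v (2 * k + 1) ∧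
      y.1 (v (2 * k + 1)) = c⁻¹ • v (2 * k) ∧ (∀ b < 2 * k, y.1 (v b) = v b) ∧
      ∀ x, polar Q x (v (2 * k)) = 0 → polar Q x (v (2 * k + 1)) = 0 → y.1 x = x := by
    intro c hc
    obtain ⟨r, hr, hr'⟩ := H.exists_refl_el hk hc
    obtain ⟨e0, e1, e2⟩ := H.refl_apply hk hc hr'
    exact ⟨r, Subgroup.subset_closure (Or.inr hr), e0, e1, fun b hb => e2 b (by omega) (by omega) (by omega),
      fun x x0 x1 => hr'.fix (by rw [b_sub_right, b_smul_right, x0, x1]; ring)⟩
  have orth : ∀ x : V, ∃ w, x = polar Q x (v (2 * k + 1)) • v (2 * k) + polar Q x (v (2 * k)) • v (2 * k + 1) + w ∧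
      polar Q w (v (2 * k)) = 0 ∧ polar Q w (v (2 * k + 1)) = 0 ∧
      ∀ b < 2 * k, polar Q w (v b) = polar Q x (v b) := by
    intro x
    refine ⟨x - polar Q x (v (2 * k + 1)) • v (2 * k) - polar Q x (v (2 * k)) • v (2 * k + 1), by abel, ?_, ?_,
      fun b hb => ?_⟩
    · rw [b_sub_left, b_sub_left, b_smul_left, b_smul_left, b_self, H.sing _ h0, p10]; ring
    · rw [b_sub_left, b_sub_left, b_smul_left, b_smul_left, b_self, H.sing _ h1, p01]; ring
    · rw [b_sub_left, b_sub_left, b_smul_left, b_smul_left, H.pol _ h0 _ (by omega), H.pol _ h1 _ (by omega),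
        par_two_mul, par_two_mul_add, if_neg (by omega), if_neg (by omega)]
      ring
  -- move the first vector
  obtain ⟨x, hxe⟩ : ∃ x, g.1 (v (2 * k)) = x := ⟨_, rfl⟩
  have xlt : ∀ b < 2 * k, polar Q x (v b) = 0 := fun b hb => by
    rw [← hxe, ← hg b hb, b_map g.2, H.pol _ h0 _ (by omega), if_neg]
    rw [par_two_mul]; omega
  have xq : Q x = 0 := by rw [← hxe, g.2, H.sing _ h0]
  have x0 : x ≠ 0 := fun e => by
    have := g.1.map_eq_zero_iff.1 (hxe.trans e)
    rw [this, b_zero_left] at p01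
    exact zero_ne_one p01
  -- the case of a non-zero coordinate
  have main : ∀ x : V, Q x = 0 → (∀ b < 2 * k, polar Q x (v b) = 0) → polar Q x (v (2 * k + 1)) ≠ 0 →
      ∃ y ∈ K, y.1 (v (2 * k)) = x ∧ ∀ b < 2 * k, y.1 (v b) = v b := by
    intro x xq xlt hα
    obtain ⟨w, hw, w0, w1, wlt⟩ := orth x
    generalize polar Q x (v (2 * k + 1)) = α at hα hw
    generalize polar Q x (v (2 * k)) = β at hw
    obtain ⟨T, hT, hs, Tlt⟩ := sie (2 * k + 1) (Or.inr rfl) w w0 w1 fun b hb => by rw [wlt b hb, xlt b hb]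
    obtain ⟨r, hr, r0, r1, rlt, rfix⟩ := ref 1 one_ne_zero
    obtain ⟨r', hr', r'0, r'1, r'lt, r'fix⟩ := ref α hα
    have hβ : α * β + Q w = 0 := by
      simp only [hw, q_add, q_smul, b_add_left, b_smul_left, b_smul_right, H.sing _ h0,
        H.sing _ h1, p01, b_comm (v (2 * k)) w, b_comm (v (2 * k + 1)) w, w0, w1] at xq
      linear_combination xq
    refine ⟨r * r' * T, mul_mem (mul_mem hr hr') hT, ?_, fun b hb => ?_⟩
    · show r.1 (r'.1 (T.1 (v (2 * k)))) = x
      have et : T.1 (v (2 * k)) = v (2 * k) + w - Q w • v (2 * k + 1) := by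
        rw [hs, p01, b_comm (v (2 * k)) w, w0, one_smul, zero_add, mul_one]
      rw [et, map_sub, map_add, map_smul, r'0, r'1, r'fix w w0 w1, map_sub, map_add, map_smul, map_smul,
        map_smul, r0, r1, rfix w w0 w1, hw]
      match_scalars
      · simp
      · ring
      · field_simp
        linear_combination -hβ
    · show r.1 (r'.1 (T.1 (v b))) = v b
      rw [Tlt b hb, r'lt b hb, rlt b hb]
  obtain ⟨y, hy, ye, ylt⟩ : ∃ y ∈ K, y.1 (v (2 * k)) = x ∧ ∀ b < 2 * k, y.1 (v b) = v b := by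
    by_cases hα : polar Q x (v (2 * k + 1)) = 0
    swap
    · exact main x xq xlt hα
    by_cases hβ : polar Q x (v (2 * k)) = 0
    swap
    · obtain ⟨r, hr, r0, r1, rlt, -⟩ := ref 1 one_ne_zero
      have hne : polar Q (r.1 x) (v (2 * k + 1)) ≠ 0 := by
        rw [show v (2 * k + 1) = r.1 (v (2 * k)) by rw [r0, one_smul], b_map r.2]
        exact hβ
      obtain ⟨y, hy, ye, ylt⟩ := main (r.1 x) ((r.2 x).trans xq)
        (fun b hb => by rw [← rlt b hb, b_map r.2, xlt b hb]) hne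
      refine ⟨r⁻¹ * y, mul_mem (inv_mem hr) hy, ?_, fun b hb => ?_⟩
      · show r.1.symm (y.1 (v (2 * k))) = x
        rw [ye, LinearEquiv.symm_apply_apply]
      · show r.1.symm (y.1 (v b)) = v b
        rw [ylt b hb, LinearEquiv.symm_apply_eq, rlt b hb]
    obtain ⟨b, hb, hxb⟩ : ∃ b < 2 * m, polar Q x (v b) ≠ 0 := by
      by_contra hcon
      push Not at hcon
      obtain ⟨c, hc⟩ := H.core x hcon
      exact x0 (hc.trans (H.aniso c (hc ▸ xq)))
    have hb2 : 2 * k + 2 ≤ b := by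
      by_contra hlt
      rcases (by omega : b < 2 * k ∨ b = 2 * k ∨ b = 2 * k + 1) with h | rfl | rfl
      · exact hxb (xlt b h)
      · exact hxb hβ
      · exact hxb hα
    obtain ⟨c, hc⟩ : ∃ c, c = v b := ⟨_, rfl⟩
    obtain ⟨T, hT, hs, Tlt⟩ := sie (2 * k) (Or.inl rfl) c
      (by rw [hc, H.pol' hb.le h0, par_two_mul, if_neg (by omega)])
      (by rw [hc, H.pol' hb.le h1, par_two_mul_add, if_neg (by omega)])
      (fun d hd => by
        rw [hc, H.pol' hb.le (by omega), if_neg]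
        unfold par; split_ifs <;> omega)
    have hTx : T.1 x = x - polar Q x (v b) • v (2 * k) := by
      rw [hs, hc, hβ, zero_smul, add_zero, mul_zero, add_zero]
    obtain ⟨y, hy, ye, ylt⟩ := main (T.1 x) ((T.2 x).trans xq)
      (fun d hd => by rw [← Tlt d hd, b_map T.2, xlt d hd])
      (by rw [hTx, b_sub_left, b_smul_left, hα, p01, zero_sub, mul_one]; exact neg_ne_zero.2 hxb)
    refine ⟨T⁻¹ * y, mul_mem (inv_mem hT) hy, ?_, fun d hd => ?_⟩
    · show T.1.symm (y.1 (v (2 * k))) = x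
      rw [ye, LinearEquiv.symm_apply_apply]
    · show T.1.symm (y.1 (v d)) = v d
      rw [ylt d hd, LinearEquiv.symm_apply_eq, Tlt d hd]
  -- move the second vector
  have g'e : (y⁻¹ * g).1 (v (2 * k)) = v (2 * k) := by
    show y.1.symm (g.1 (v (2 * k))) = _
    rw [hxe, LinearEquiv.symm_apply_eq, ye]
  have g'lt : ∀ b < 2 * k, (y⁻¹ * g).1 (v b) = v b := fun b hb => by
    show y.1.symm (g.1 (v b)) = _
    rw [hg b hb, LinearEquiv.symm_apply_eq, ylt b hb]
  obtain ⟨g', hg'⟩ : ∃ g', y⁻¹ * g = g' := ⟨_, rfl⟩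
  rw [hg'] at g'e g'lt
  obtain ⟨f, hfe⟩ : ∃ f, g'.1 (v (2 * k + 1)) = f := ⟨_, rfl⟩
  obtain ⟨w, hw, w0, w1, wlt⟩ := orth f
  have fe : polar Q f (v (2 * k)) = 1 := by rw [← hfe, ← g'e, b_map g'.2, p10]
  have flt : ∀ b < 2 * k, polar Q f (v b) = 0 := fun b hb => by
    rw [← hfe, ← g'lt b hb, b_map g'.2, H.pol _ h1 _ (by omega), if_neg]
    rw [par_two_mul_add]; omega
  have fq : Q f = 0 := by rw [← hfe, g'.2, H.sing _ h1]
  rw [fe, one_smul] at hw
  generalize polar Q f (v (2 * k + 1)) = α at hw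
  have hα : α + Q w = 0 := by
    simp only [hw, q_add, q_smul, b_add_left, b_smul_left, H.sing _ h0, H.sing _ h1, p01,
      b_comm (v (2 * k)) w, b_comm (v (2 * k + 1)) w, w0, w1] at fq
    linear_combination fq
  obtain ⟨T, hT, hs, Tlt⟩ := sie (2 * k) (Or.inl rfl) w w0 w1 fun b hb => by rw [wlt b hb, flt b hb]
  have Te : T.1 (v (2 * k)) = v (2 * k) := hs.fix (by rw [b_self, H.sing _ h0, mul_zero]) (by rw [b_comm, w0])
  have Tf : T.1 (v (2 * k + 1)) = f := by
    rw [hs, p10, b_comm (v (2 * k + 1)) w, w1, one_smul, zero_add, mul_one, hw,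
      show α = -Q w by linear_combination hα, neg_smul]
    abel
  refine ⟨y * T, mul_mem hy hT, fun a ha => ?_⟩
  rw [show (y * T)⁻¹ * g = T⁻¹ * (y⁻¹ * g) by group, hg']
  show T.1.symm (g'.1 (v a)) = v a
  rw [LinearEquiv.symm_apply_eq]
  rcases (by omega : a < 2 * k ∨ a = 2 * k ∨ a = 2 * k + 1) with h | rfl | rfl
  · rw [g'lt a h, Tlt a h]
  · rw [g'e, Te]
  · rw [hfe, Tf]

theorem mem_closure_all : ∀ d k, k + d = m → ∀ g : oGroup Q, (∀ a < 2 * k, g.1 (v a) = v a) →
    g ∈ Subgroup.closure (rootEls Q m v ∪ extraEls Q m v)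
  | 0, k, hk, g, hg => Subgroup.subset_closure (Or.inr (Or.inr (by rw [← hk]; simpa using hg)))
  | d + 1, k, hk, g, hg => by
    obtain ⟨y, hy, h⟩ := H.step (k := k) (by omega) g hg
    have := mul_mem hy (mem_closure_all d (k + 1) (by omega) (y⁻¹ * g) h)
    rwa [mul_inv_cancel_left] at this

/-- the commutator subgroup is generated by root elements of the frame -/
theorem commutator_le : commutator (oGroup Q) ≤ Subgroup.closure (rootEls Q m v) := by
  set E := Subgroup.closure (rootEls Q m v) with hE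
  have htop : Subgroup.closure (rootEls Q m v ∪ extraEls Q m v) = ⊤ :=
    (Subgroup.eq_top_iff' _).2 fun g => H.mem_closure_all m 0 (by omega) g fun a ha => absurd ha (by omega)
  have hext : ∀ g ∈ extraEls Q m v, ∀ x ∈ E, g * x * g⁻¹ ∈ E := by
    intro g hg x hx
    have : E ≤ E.comap (MulAut.conj g).toMonoidHom :=
      (Subgroup.closure_le _).2 fun s hs => Subgroup.subset_closure (H.extra_conj hg hs)
    exact this hx
  have hn : E.Normal := by
    refine ⟨fun x hx g => ?_⟩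
    have : ∀ g, (∀ x ∈ E, g * x * g⁻¹ ∈ E) ∧ ∀ x ∈ E, g⁻¹ * x * g⁻¹⁻¹ ∈ E := by
      intro g
      have hg : g ∈ Subgroup.closure (rootEls Q m v ∪ extraEls Q m v) := htop ▸ Subgroup.mem_top g
      induction hg using Subgroup.closure_induction with
      | mem g hg =>
        rcases hg with hg | hg
        · have hgE : g ∈ E := Subgroup.subset_closure hg
          exact ⟨fun x hx => mul_mem (mul_mem hgE hx) (inv_mem hgE),
            fun x hx => mul_mem (mul_mem (inv_mem hgE) hx) (inv_mem (inv_mem hgE))⟩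
        · exact ⟨hext g hg, hext g⁻¹ (H.extra_inv hg)⟩
      | one => simp
      | mul a b _ _ ha hb =>
        refine ⟨fun x hx => ?_, fun x hx => ?_⟩
        · have := ha.1 _ (hb.1 x hx)
          convert this using 1
          group
        · have := hb.2 _ (ha.2 x hx)
          convert this using 1
          group
      | inv a _ ha => exact ⟨ha.2, by simpa using ha.1⟩
    exact (this g).1 x hx
  refine commutator_le_of_gen htop E fun a ha b hb => ?_
  rcases ha with ha | ha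
  · rw [commutatorElement_def, mul_assoc a, mul_assoc a]
    exact mul_mem (Subgroup.subset_closure ha) (hn.conj_mem _ (inv_mem (Subgroup.subset_closure ha)) b)
  rcases hb with hb | hb
  · rw [commutatorElement_def]
    exact mul_mem (hn.conj_mem _ (Subgroup.subset_closure hb) a) (inv_mem (Subgroup.subset_closure hb))
  exact H.extra_comm ha hb

end Frame

end Cfsg.Agent.Orth
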