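/-
PΩ_2m+1(F), odd characteristic, has m pairwise non-conjugate involutions.
-/
import Cfsg.Agent.Lib.Orthogonal.OmegaTheory
import Cfsg.Agent.Lib.Orthogonal.POmega
import Cfsg.Agent.Lib.Orthogonal.Counts

set_option autoImplicit false

namespace Cfsg.Agent.OrthInvol

open QuadraticMap Cfsg.Agent.Orth Matrix

variable {F : Type*} [Field F]

/-- An orthogonal basis of the odd hyperbolic space. -/
def oBase (m : ℕ) : Unit ⊕ (Fin m ⊕ Fin m) → (Unit ⊕ (Fin m ⊕ Fin m) → F)
  | .inl _ => Pi.single (.inl ()) 1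
  | .inr (.inl i) => Pi.single (.inr (.inl i)) 1 + Pi.single (.inr (.inr i)) 1
  | .inr (.inr i) => Pi.single (.inr (.inl i)) 1 - Pi.single (.inr (.inr i)) 1

theorem oBase_value (m : ℕ) (i : Unit ⊕ (Fin m ⊕ Fin m)) :
    qOdd F m (oBase m i) = Sum.elim (fun _ => 1) (Sum.elim (fun _ => 1) fun _ => -1) i := by
  rw [coe_qOdd]
  rcases i with u | i | i <;> simp [Cfsg.quadFormOdd, oBase, Pi.single_apply, Finset.sum_ite_eq']

theorem polar_qOdd (m : ℕ) (u v : Unit ⊕ (Fin m ⊕ Fin m) → F) :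
    polar (qOdd F m) u v = 2 * u (.inl ()) * v (.inl ()) +
      ∑ l : Fin m, (u (.inr (.inl l)) * v (.inr (.inr l)) + u (.inr (.inr l)) * v (.inr (.inl l))) := by
  rw [polar, coe_qOdd]
  have hcomm : ∀ l : Fin m, u (.inr (.inr l)) * v (.inr (.inl l)) = v (.inr (.inl l)) * u (.inr (.inr l)) :=
    fun l => mul_comm _ _
  simp only [Cfsg.quadFormOdd, Pi.add_apply, add_mul, mul_add, Finset.sum_add_distrib, hcomm]
  ring

theorem oBase_orth (m : ℕ) {i j : Unit ⊕ (Fin m ⊕ Fin m)} (h : i ≠ j) :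
    polar (qOdd F m) (oBase m i) (oBase m j) = 0 := by
  rw [polar_qOdd]
  have h0 : (2 : F) * oBase m i (.inl ()) * oBase m j (.inl ()) = 0 := by
    rcases i with u | i | i <;> rcases j with v | j | j <;> simp [oBase, Pi.single_apply] at h ⊢
  rw [h0, zero_add]
  refine Finset.sum_eq_zero fun l _ => ?_
  rcases i with u | i | i <;> rcases j with v | j | j <;> simp [oBase, Pi.single_apply] at h ⊢ <;>
    split_ifs <;> simp_all

theorem sign_matrix {n : Type*} [Fintype n] [DecidableEq n] (h2 : (2 : F) ≠ 0) {M P : Matrix n n F}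
    (hP : IsUnit P) (S : Finset n)
    (hMP : M * P = P * Matrix.diagonal fun i => if i ∈ S then (-1 : F) else 1) :
    M * M = 1 ∧ (M - 1).rank = S.card := by
  classical
  set d : n → F := fun i => if i ∈ S then -1 else 1 with hd
  refine ⟨hP.mul_right_cancel ?_, ?_⟩
  · rw [mul_assoc, hMP, ← mul_assoc, hMP, mul_assoc, Matrix.diagonal_mul_diagonal,
      show (fun i => d i * d i) = fun _ => (1 : F) from funext fun i => by by_cases hi : i ∈ S <;> simp [hd, hi],
      Matrix.diagonal_one, mul_one, one_mul]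
  · have hu := (Matrix.isUnit_iff_isUnit_det P).1 hP
    rw [← Matrix.rank_mul_eq_left_of_isUnit_det P _ hu, sub_mul, hMP, one_mul,
      show P * Matrix.diagonal d - P = P * Matrix.diagonal (fun i => d i - 1) by
        rw [← Matrix.diagonal_sub, Matrix.diagonal_one, mul_sub, mul_one],
      Matrix.rank_mul_eq_right_of_isUnit_det P _ hu, Matrix.rank_diagonal, Fintype.card_subtype]
    congr 1
    ext i
    simp only [Finset.mem_filter, Finset.mem_univ, true_and, hd]
    by_cases hi : i ∈ S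
    · simp [hi]; intro h; exact h2 (by linear_combination -h)
    · simp [hi]

theorem oBase_li (h2 : (2 : F) ≠ 0) (m : ℕ) : LinearIndependent F (oBase (F := F) m) :=
  Fintype.linearIndependent_iff.2 fun c hc i => by
    have hne : qOdd F m (oBase m i) ≠ 0 := by rw [oBase_value]; rcases i with u | i | i <;> simp
    have h := congrArg (fun x => polarBilin (qOdd F m) (oBase m i) x) hc
    simp only [map_sum, map_smul, polarBilin_apply_apply, map_zero, smul_eq_mul] at h
    rw [Finset.sum_eq_single i (fun j _ hj => by rw [oBase_orth m (Ne.symm hj), mul_zero])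
      (fun h => absurd (Finset.mem_univ i) h), b_self] at h
    exact (mul_eq_zero.1 h).resolve_right (mul_ne_zero h2 hne)

theorem exists_sign_element [Fintype F] (h2 : (2 : F) ≠ 0) (m : ℕ) (hm : 1 ≤ m)
    (S : Finset (Unit ⊕ (Fin m ⊕ Fin m))) (heven : Even S.card) (hprod : ∏ i ∈ S, qOdd F m (oBase m i) = 1) :
    ∃ g : Cfsg.Omega F (⇑(qOdd F m)), g * g = 1 ∧
      ((((g : Cfsg.isometryGroup F (⇑(qOdd F m))) : GL (Unit ⊕ (Fin m ⊕ Fin m)) F) :
        Matrix (Unit ⊕ (Fin m ⊕ Fin m)) (Unit ⊕ (Fin m ⊕ Fin m)) F) - 1).rank = S.card := by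
  classical
  set Q := qOdd F m with hQdef
  set e := oBase (F := F) m with hedef
  have hQ := qOdd_nondeg h2 m
  have hcard : Fintype.card (Unit ⊕ (Fin m ⊕ Fin m)) = 2 * m + 1 := by simp; ring
  obtain ⟨χ, hker, -, hχ⟩ := exists_matrix_spinor Q hQ (by omega) (Or.inr (by omega))
  have hne : ∀ i, Q (e i) ≠ 0 := fun i => by rw [hQdef, hedef, oBase_value]; rcases i with u | i | i <;> simp
  choose R hR hR' using fun i => exists_reflection Q (hne i)
  have key : ∀ l : List (Unit ⊕ (Fin m ⊕ Fin m)), l.Nodup → ∀ j,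
      (isoEquiv Q (l.map R).prod).1 (e j) = (if j ∈ l then (-1 : F) else 1) • e j := by
    intro l
    induction l with
    | nil => intro _ j; simp
    | cons i l ih =>
      intro hnd j
      obtain ⟨hil, hl⟩ := List.nodup_cons.1 hnd
      rw [List.map_cons, List.prod_cons, map_mul, Subgroup.coe_mul, LinearEquiv.mul_apply, ih hl j, map_smul]
      rcases eq_or_ne j i with rfl | hji
      · rw [if_neg hil, one_smul, if_pos List.mem_cons_self, (hR' j).2, b_self, mul_div_assoc, div_self (hne j)]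
        module
      · rw [(hR' i).fix (oBase_orth m hji)]
        simp [hji, hedef]
  have hval : ∀ l : List (Unit ⊕ (Fin m ⊕ Fin m)), χ (l.map R).prod =
      (Multiplicative.ofAdd (l.length : ZMod 2), sqc F ((l.map fun i => Q (e i)).prod)) := by
    intro l
    induction l with
    | nil => simp [sqc_one]; rfl
    | cons i l ih =>
      rw [List.map_cons, List.prod_cons, map_mul, ih, hχ _ _ (hne i) (hR i), List.map_cons, List.prod_cons,
        sqc_mul (hne i) (List.prod_ne_zero (by simp [hne])), reflVal, Prod.mk_mul_mk, List.length_cons,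
        ← ofAdd_add, Nat.cast_succ, add_comm (1 : ZMod 2)]
  have hk : (S.toList.map R).prod ∈ χ.ker := by
    rw [MonoidHom.mem_ker, hval, Finset.length_toList, Finset.prod_map_toList, hprod, sqc_one]
    obtain ⟨r, hr⟩ := heven
    rw [hr, Nat.cast_add, CharTwo.add_self_eq_zero]
    rfl
  rw [hker] at hk
  refine ⟨⟨(S.toList.map R).prod, hk⟩, ?_⟩
  obtain ⟨x, hx⟩ : ∃ x, x = (S.toList.map R).prod := ⟨_, rfl⟩
  have hxk : ∀ b, ((x : GL (Unit ⊕ (Fin m ⊕ Fin m)) F) : Matrix _ _ F) *ᵥ e b =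
      (if b ∈ S then (-1 : F) else 1) • e b := fun b => by
    have h := key S.toList (Finset.nodup_toList S) b
    simp only [Finset.mem_toList] at h
    rw [← hx, isoEquiv_apply] at h
    exact h
  set P : Matrix (Unit ⊕ (Fin m ⊕ Fin m)) (Unit ⊕ (Fin m ⊕ Fin m)) F := Matrix.of fun a b => e b a with hP
  have hPu : IsUnit P := by
    rw [← Matrix.linearIndependent_cols_iff_isUnit]
    exact oBase_li h2 m
  obtain ⟨hsq, hrk⟩ := sign_matrix h2 (M := ((x : GL (Unit ⊕ (Fin m ⊕ Fin m)) F) : Matrix _ _ F)) hPu S (by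
    ext a b
    rw [Matrix.mul_diagonal, hP, Matrix.of_apply, mul_comm]
    exact congrFun (hxk b) a)
  refine ⟨Subtype.ext (Subtype.ext (Units.ext ?_)), ?_⟩
  · show ((((S.toList.map R).prod : Cfsg.isometryGroup F (⇑Q)) : GL (Unit ⊕ (Fin m ⊕ Fin m)) F)).1 *
      ((((S.toList.map R).prod : Cfsg.isometryGroup F (⇑Q)) : GL (Unit ⊕ (Fin m ⊕ Fin m)) F)).1 = 1
    rw [← hx]; exact hsq
  · show ((((S.toList.map R).prod : Cfsg.isometryGroup F (⇑Q)) : GL (Unit ⊕ (Fin m ⊕ Fin m)) F).1 - 1).rank = S.card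
    rw [← hx]; exact hrk

theorem exists_subset (m k : ℕ) (hk1 : 1 ≤ k) (hkm : k ≤ m) :
    ∃ S : Finset (Unit ⊕ (Fin m ⊕ Fin m)), S.card = 2 * k ∧ ∏ i ∈ S, qOdd F m (oBase m i) = 1 := by
  classical
  refine ⟨(Finset.univ : Finset Unit).disjSum
    (((Finset.univ : Finset (Fin (2 * k - 2 * (k / 2) - 1))).map (Fin.castLEEmb (by omega : _ ≤ m))).disjSum
      ((Finset.univ : Finset (Fin (2 * (k / 2)))).map (Fin.castLEEmb (by omega : _ ≤ m)))), ?_, ?_⟩
  · simp only [Finset.card_disjSum, Finset.card_map, Finset.card_univ, Fintype.card_unit, Fintype.card_fin]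
    omega
  · simp [Finset.prod_disjSum, oBase_value]

theorem exists_invols [Fintype F] (h2 : (2 : F) ≠ 0) (m : ℕ) (hm : 3 ≤ m) :
    ∃ y : Fin m → Cfsg.POmega F (⇑(qOdd F m)), (∀ k, y k * y k = 1) ∧ (∀ k, y k ≠ 1) ∧
      ∀ k l, IsConj (y k) (y l) → k = l := by
  classical
  have hcard : Fintype.card (Unit ⊕ (Fin m ⊕ Fin m)) = 2 * m + 1 := by simp; ring
  have hc := card_center_one (qOdd_nondeg (F := F) h2 m) (by omega) (Or.inr (by rw [hcard]; exact odd_two_mul_add_one m))
  have hcent : Subgroup.center ↥(Cfsg.Omega F (⇑(qOdd F m))) = ⊥ := Subgroup.card_eq_one.1 hc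
  have hinj : Function.Injective (QuotientGroup.mk' (Subgroup.center ↥(Cfsg.Omega F (⇑(qOdd F m))))) := by
    rw [← MonoidHom.ker_eq_bot_iff, QuotientGroup.ker_mk', hcent]
  choose S hS hSp using fun k : Fin m => exists_subset (F := F) m (k.1 + 1) (by omega) (by omega)
  choose g hg hgr using fun k : Fin m => exists_sign_element h2 m (by omega) (S k)
    (by rw [hS]; exact even_two_mul _) (hSp k)
  refine ⟨fun k => QuotientGroup.mk' _ (g k), fun k => by rw [← map_mul, hg, map_one], fun k hk => ?_, fun k l h => ?_⟩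
  · have h1 : g k = 1 := hinj (hk.trans (map_one _).symm)
    have := hgr k
    rw [h1, hS] at this
    simp [Matrix.rank_zero] at this
  · obtain ⟨c, hc'⟩ := isConj_iff.1 h
    obtain ⟨c, rfl⟩ := QuotientGroup.mk'_surjective _ c
    rw [← map_mul, ← map_inv, ← map_mul] at hc'
    have hconj := hinj hc'
    set M : ↥(Cfsg.Omega F (⇑(qOdd F m))) →* GL (Unit ⊕ (Fin m ⊕ Fin m)) F :=
      (Subgroup.subtype _).comp (Subgroup.subtype _) with hM
    have e := hgr l
    have e' : (((M (g l)) : GL _ F) : Matrix (Unit ⊕ (Fin m ⊕ Fin m)) (Unit ⊕ (Fin m ⊕ Fin m)) F) - 1 =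
        (M c).1 * ((M (g k)).1 - 1) * ((M c)⁻¹).1 := by
      rw [← hconj, map_mul, map_mul, map_inv, mul_sub, sub_mul, mul_one, Units.mul_inv, Units.val_mul, Units.val_mul]
    change ((M (g l)).1 - 1).rank = _ at e
    rw [e', Matrix.rank_mul_eq_left_of_isUnit_det _ _ ((Matrix.isUnit_iff_isUnit_det _).1 (Units.isUnit _)),
      Matrix.rank_mul_eq_right_of_isUnit_det _ _ ((Matrix.isUnit_iff_isUnit_det _).1 (Units.isUnit _))] at e
    have e2 := hgr k
    change ((M (g k)).1 - 1).rank = _ at e2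
    rw [e2, hS, hS] at e
    exact Fin.ext (by omega)

end Cfsg.Agent.OrthInvol
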