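/-
Representations onto orthogonal groups in small dimension: the general frame.
-/
import Cfsg.Agent.Lib.Orthogonal.IndexTwo
import Cfsg.Agent.Lib.Orthogonal.Counts
import Cfsg.Agent.Lib.Classical.SL
import Mathlib.LinearAlgebra.Matrix.SpecialLinearGroup
import Mathlib.FieldTheory.Finite.Basic

set_option autoImplicit false
set_option linter.style.haveILetI false

namespace Cfsg.Agent.OrthLow

open QuadraticMap Cfsg.Agent.Orth Matrix

/-- A group modulo its centre, computed through a covering. -/
theorem quot_center_equiv {G H P : Type*} [Group G] [Group H] [Group P] (ρ : G →* H) (π : G →* P)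
    (hπ : Function.Surjective π) (hP : Subgroup.center P = ⊥) (hc : π.ker ≤ Subgroup.center G)
    (hk : ρ.ker ≤ π.ker) {K : Subgroup H} (hK : ρ.range = K) :
    Nonempty (K ⧸ Subgroup.center K ≃* P) := by
  subst hK
  let ψ : G →* ρ.range ⧸ Subgroup.center ρ.range := (QuotientGroup.mk' _).comp ρ.rangeRestrict
  have hψ : Function.Surjective ψ :=
    (QuotientGroup.mk'_surjective _).comp ρ.rangeRestrict_surjective
  have hker : ψ.ker = π.ker := by
    ext g
    rw [MonoidHom.mem_ker, MonoidHom.mem_ker]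
    show QuotientGroup.mk' _ (ρ.rangeRestrict g) = 1 ↔ π g = 1
    rw [QuotientGroup.mk'_apply, QuotientGroup.eq_one_iff, Subgroup.mem_center_iff]
    constructor
    · intro h
      rw [← Subgroup.mem_bot, ← hP, Subgroup.mem_center_iff]
      intro y
      obtain ⟨x, rfl⟩ := hπ y
      have h1 := h (ρ.rangeRestrict x)
      rw [← map_mul, ← map_mul] at h1
      have h1' : ρ (x * g) = ρ (g * x) := congrArg Subtype.val h1
      have h2 : (x * g)⁻¹ * (g * x) ∈ π.ker := hk (by rw [MonoidHom.mem_ker, map_mul, map_inv, h1', inv_mul_cancel])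
      rw [MonoidHom.mem_ker, map_mul, map_inv, inv_mul_eq_one, map_mul, map_mul] at h2
      exact h2
    · intro h y
      obtain ⟨x, rfl⟩ := ρ.rangeRestrict_surjective y
      rw [← map_mul, ← map_mul, Subgroup.mem_center_iff.1 (hc (MonoidHom.mem_ker.2 h)) x]
  exact ⟨((QuotientGroup.quotientKerEquivOfSurjective ψ hψ).symm.trans
    (QuotientGroup.quotientMulEquivOfEq hker)).trans (QuotientGroup.quotientKerEquivOfSurjective π hπ)⟩

/-- `PSL_n(F)` has trivial centre. -/
theorem center_psl {ι : Type*} [Fintype ι] [DecidableEq ι] [Nontrivial ι] {F : Type*} [Field F] :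
    Subgroup.center (Matrix.ProjectiveSpecialLinearGroup ι F) = ⊥ := by
  rw [Subgroup.eq_bot_iff_forall]
  intro x hx
  obtain ⟨g, rfl⟩ := QuotientGroup.mk_surjective x
  rw [QuotientGroup.eq_one_iff, Subgroup.mem_center_iff]
  intro h
  have hall : ∀ s ∈ ClassicalSL.elemTransvections ι F, s * g = g * s := by
    rintro _ ⟨i, j, hij, c, rfl⟩
    set t := Matrix.SpecialLinearGroup.transvection hij c with ht
    have hcen := Subgroup.mem_center_iff.1 hx (QuotientGroup.mk t)
    rw [← QuotientGroup.mk_mul, ← QuotientGroup.mk_mul, QuotientGroup.eq] at hcen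
    obtain ⟨d, -, hd⟩ := Matrix.SpecialLinearGroup.mem_center_iff.1 hcen
    have e : (g * t : Matrix.SpecialLinearGroup ι F) = t * g * ((t * g)⁻¹ * (g * t)) := by group
    have e2 : (g : Matrix ι ι F) * (t : Matrix ι ι F) = d • ((t : Matrix ι ι F) * (g : Matrix ι ι F)) := by
      have h1 := congrArg Subtype.val e
      simp only [Matrix.SpecialLinearGroup.coe_mul] at h1 hd
      rw [h1, ← hd, Matrix.scalar_apply, ← Matrix.smul_one_eq_diagonal, mul_smul_comm, mul_one]
    set E : Matrix ι ι F := Matrix.single i j c with hE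
    have htv : (t : Matrix ι ι F) = 1 + E := Matrix.SpecialLinearGroup.transvection_coe hij c
    have hEE : E * E = 0 := by
      rw [hE, Matrix.single_mul_single_of_ne]
      exact hij.symm
    have hconj : (1 + E) * (g : Matrix ι ι F) * d • ((g⁻¹ : Matrix.SpecialLinearGroup ι F) : Matrix ι ι F) =
        (g : Matrix ι ι F) * (1 + E) * ((g⁻¹ : Matrix.SpecialLinearGroup ι F) : Matrix ι ι F) := by
      rw [← htv, e2, mul_smul_comm, smul_mul_assoc]
    have hgg : (g : Matrix ι ι F) * ((g⁻¹ : Matrix.SpecialLinearGroup ι F) : Matrix ι ι F) = 1 := by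
      rw [← Matrix.SpecialLinearGroup.coe_mul, mul_inv_cancel, Matrix.SpecialLinearGroup.coe_one]
    have hgg' : ((g⁻¹ : Matrix.SpecialLinearGroup ι F) : Matrix ι ι F) * (g : Matrix ι ι F) = 1 := by
      rw [← Matrix.SpecialLinearGroup.coe_mul, inv_mul_cancel, Matrix.SpecialLinearGroup.coe_one]
    set G := (g : Matrix ι ι F)
    set G' := ((g⁻¹ : Matrix.SpecialLinearGroup ι F) : Matrix ι ι F)
    have hX : G * E * G' = (d - 1) • (1 : Matrix ι ι F) + d • E := by
      rw [mul_smul_comm, mul_assoc, hgg, mul_one, mul_add, add_mul, mul_one, hgg, smul_add] at hconj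
      rw [sub_smul, one_smul, sub_add_eq_add_sub, hconj]
      abel
    have hsq : ((d - 1) • (1 : Matrix ι ι F) + d • E) * ((d - 1) • (1 : Matrix ι ι F) + d • E) = 0 := by
      rw [← hX, show G * E * G' * (G * E * G') = G * E * (G' * G) * E * G' by simp only [mul_assoc], hgg',
        mul_one, mul_assoc G E E, hEE, mul_zero, zero_mul]
    have hd1 : d = 1 := by
      have h00 := congrFun (congrFun hsq i) i
      simp only [mul_add, add_mul, smul_mul_assoc, mul_smul_comm, one_mul, mul_one, smul_smul, hEE,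
        Matrix.add_apply, Matrix.smul_apply, Matrix.one_apply_eq, smul_eq_mul, mul_zero, smul_zero, Matrix.zero_apply] at h00
      rw [hE, Matrix.single_apply] at h00
      rw [if_neg (by exact fun h => hij h.2.symm)] at h00
      simp only [mul_zero, mul_one, add_zero] at h00
      exact sub_eq_zero.1 (mul_self_eq_zero.1 h00)
    rw [hd1, one_smul] at e2
    exact Subtype.ext (by simp only [Matrix.SpecialLinearGroup.coe_mul]; exact e2.symm)
  have hmem : h ∈ Subgroup.centralizer ({g} : Set (Matrix.SpecialLinearGroup ι F)) := by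
    have htop : h ∈ Subgroup.closure (ClassicalSL.elemTransvections ι F) := by
      rw [ClassicalSL.closure_elemTransvections]; trivial
    refine (Subgroup.closure_le _).2 (fun s hs => ?_) htop
    exact Subgroup.mem_centralizer_singleton_iff.2 (hall s hs)
  exact Subgroup.mem_centralizer_singleton_iff.1 hmem

theorem center_prod {A B : Type*} [Group A] [Group B] (hA : Subgroup.center A = ⊥) (hB : Subgroup.center B = ⊥) :
    Subgroup.center (A × B) = ⊥ := by
  rw [Subgroup.eq_bot_iff_forall]
  rintro ⟨a, b⟩ h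
  have ha : a ∈ Subgroup.center A := Subgroup.mem_center_iff.2 fun x =>
    congrArg Prod.fst (Subgroup.mem_center_iff.1 h (x, 1))
  have hb : b ∈ Subgroup.center B := Subgroup.mem_center_iff.2 fun x =>
    congrArg Prod.snd (Subgroup.mem_center_iff.1 h (1, x))
  rw [hA, Subgroup.mem_bot] at ha
  rw [hB, Subgroup.mem_bot] at hb
  rw [ha, hb]; rfl

section rep

variable {ι : Type} [Fintype ι] [DecidableEq ι] {F : Type*} [Field F] {W : Type*} [AddCommGroup W] [Module F W]
variable {G : Type*} [Group G]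

/-- The action transported to coordinates. -/
def coordHom (emb : (ι → F) →ₗ[F] W) (proj : W →ₗ[F] (ι → F)) (hpe : ∀ x, proj (emb x) = x)
    (C : G →* Module.End F W) (hst : ∀ g x, emb (proj (C g (emb x))) = C g (emb x)) :
    G →* Module.End F (ι → F) where
  toFun g := proj ∘ₗ C g ∘ₗ emb
  map_one' := LinearMap.ext fun x => by simp [hpe]
  map_mul' g h := LinearMap.ext fun x => by
    simp only [LinearMap.comp_apply, Module.End.mul_apply, map_mul]
    rw [hst]

/-- The resulting map to the isometry group. -/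
def repHom (Q : QuadraticForm F (ι → F)) (act : G →* Module.End F (ι → F)) (hQ : ∀ g x, Q (act g x) = Q x) :
    G →* Cfsg.isometryGroup F (⇑Q) :=
  ((Units.map (LinearMap.toMatrixAlgEquiv' (R := F) (n := ι)).toMonoidHom).comp act.toHomUnits).codRestrict _
    fun g => mem_isometryGroup.2 fun x => by
      show Q (LinearMap.toMatrixAlgEquiv' (act g) *ᵥ x) = Q x
      rw [show LinearMap.toMatrixAlgEquiv' (act g) = LinearMap.toMatrix' (act g) from rfl, LinearMap.toMatrix'_mulVec]
      exact hQ g x

theorem mem_ker_repHom {Q : QuadraticForm F (ι → F)} {act : G →* Module.End F (ι → F)}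
    {hQ : ∀ g x, Q (act g x) = Q x} {g : G} :
    g ∈ (repHom Q act hQ).ker ↔ ∀ x, act g x = x := by
  rw [MonoidHom.mem_ker]
  constructor
  · intro h x
    have h1 : LinearMap.toMatrixAlgEquiv' (act g) = 1 :=
      congrArg (fun z : Cfsg.isometryGroup F (⇑Q) => ((z : GL ι F) : Matrix ι ι F)) h
    rw [← map_one (LinearMap.toMatrixAlgEquiv' (R := F) (n := ι))] at h1
    rw [LinearMap.toMatrixAlgEquiv'.injective h1]
    rfl
  · intro h
    apply Subtype.ext
    apply Units.ext
    show LinearMap.toMatrixAlgEquiv' (act g) = 1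
    rw [show act g = 1 from LinearMap.ext fun x => h x, map_one]

theorem mem_ker_coord {Q : QuadraticForm F (ι → F)} {emb : (ι → F) →ₗ[F] W} {proj : W →ₗ[F] (ι → F)}
    {hpe : ∀ x, proj (emb x) = x} {C : G →* Module.End F W}
    {hst : ∀ g x, emb (proj (C g (emb x))) = C g (emb x)}
    {hQ : ∀ g x, Q (coordHom emb proj hpe C hst g x) = Q x} {g : G} :
    g ∈ (repHom Q (coordHom emb proj hpe C hst) hQ).ker ↔ ∀ x, C g (emb x) = emb x := by
  rw [mem_ker_repHom]
  refine forall_congr' fun x => ?_
  show proj (C g (emb x)) = x ↔ _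
  constructor
  · intro h; rw [← hst, h]
  · intro h; rw [h, hpe]

end rep

section omega

variable {ι : Type} [Fintype ι] [DecidableEq ι] {F : Type*} [Field F] [Fintype F]
variable {G : Type*} [Group G] {Q : QuadraticForm F (ι → F)}

theorem card_range_mul {H : Type*} [Group H] (ρ : G →* H) :
    Nat.card ρ.range * Nat.card ρ.ker = Nat.card G := by
  rw [← Subgroup.index_ker, mul_comm, Subgroup.card_mul_index]

theorem sqCls_sq (s : SqCls F) : s * s = 1 := by
  obtain ⟨u, rfl⟩ := QuotientGroup.mk_surjective s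
  rw [← QuotientGroup.mk_mul, QuotientGroup.eq_one_iff]
  exact ⟨u, pow_two u⟩

theorem spinVal_sq (v : SpinVal F) : v * v = 1 := by
  refine Prod.ext ?_ (sqCls_sq v.2)
  show v.1 * v.1 = 1
  revert v
  rintro ⟨a, b⟩
  have : ∀ e : Multiplicative (ZMod 2), e * e = 1 := by decide
  exact this a

theorem map_mem_omega_of_odd_pow (hQ : (polarBilin Q).Nondegenerate) (hn : 2 ≤ Fintype.card ι)
    (h : Fintype.card F ≠ 2 ∨ Fintype.card ι ≠ 4) (ρ : G →* Cfsg.isometryGroup F (⇑Q)) {s : G} {N : ℕ}
    (hN : Odd N) (hs : s ^ N = 1) : ρ s ∈ Cfsg.Omega F (⇑Q) := by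
  obtain ⟨χ, hker, -, -⟩ := exists_matrix_spinor Q hQ hn h
  rw [← hker, MonoidHom.mem_ker]
  obtain ⟨t, ht⟩ := hN
  have h1 := congrArg (χ.comp ρ) hs
  rw [map_pow, map_one, ht, pow_succ, pow_mul, pow_two, spinVal_sq, one_pow, one_mul] at h1
  exact h1

omit [Fintype F] in
theorem range_le_omega_of_perfect (ρ : G →* Cfsg.isometryGroup F (⇑Q)) (hG : commutator G = ⊤) :
    ρ.range ≤ Cfsg.Omega F (⇑Q) := by
  rw [MonoidHom.range_eq_map, ← hG, commutator_def, Subgroup.map_commutator]
  exact Subgroup.commutator_mono le_top le_top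

/-- `Ω` is the image of a subgroup of the same index. -/
theorem omega_eq_range (hQ : (polarBilin Q).Nondegenerate) (hn : 2 ≤ Fintype.card ι)
    (h : Fintype.card F ≠ 2 ∨ Fintype.card ι ≠ 4) (ρ : G →* Cfsg.isometryGroup F (⇑Q))
    (hle : ρ.range ≤ Cfsg.Omega F (⇑Q))
    (hcard : Nat.card ρ.range * Nat.card (SpinVal F) = Nat.card (Cfsg.isometryGroup F (⇑Q))) :
    ρ.range = Cfsg.Omega F (⇑Q) := by
  refine Subgroup.eq_of_le_of_card_ge hle ?_
  have h1 := (Cfsg.Omega F (⇑Q)).card_mul_index
  rw [omega_index Q hQ hn h, ← hcard] at h1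
  have hpos : 0 < Nat.card (SpinVal F) := by
    obtain ⟨χ, -, hsurj, -⟩ := exists_matrix_spinor Q hQ hn h
    haveI : Finite (SpinVal F) := Finite.of_surjective _ hsurj
    exact Nat.card_pos
  exact (Nat.eq_of_mul_eq_mul_right hpos h1).le

/-- A perfect image of index two is `Ω`. -/
theorem omega_eq_range_of_two (ρ : G →* Cfsg.isometryGroup F (⇑Q)) (hG : commutator G = ⊤)
    (hcard : Nat.card ρ.range * 2 = Nat.card (Cfsg.isometryGroup F (⇑Q))) :
    ρ.range = Cfsg.Omega F (⇑Q) := by
  refine le_antisymm (range_le_omega_of_perfect ρ hG) ?_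
  have hidx : ρ.range.index = 2 := by
    have h1 := ρ.range.card_mul_index
    rw [← hcard] at h1
    exact Nat.eq_of_mul_eq_mul_left Nat.card_pos h1
  haveI := Subgroup.normal_of_index_eq_two hidx
  have hc : Nat.card (Cfsg.isometryGroup F (⇑Q) ⧸ ρ.range) = 2 := hidx
  haveI : Fact (Nat.Prime 2) := ⟨Nat.prime_two⟩
  haveI := isCyclic_of_prime_card hc
  exact (Subgroup.Normal.quotient_commutative_iff_commutator_le).1
    ⟨⟨fun a b => (IsCyclic.isMulCommutative (α := Cfsg.isometryGroup F (⇑Q) ⧸ ρ.range)).is_comm.comm a b⟩⟩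

theorem card_spinVal_eq : Nat.card (SpinVal F) = 2 * Nat.gcd 2 (Nat.card F - 1) := by
  rcases eq_or_ne (2 : F) 0 with h2 | h2
  · rw [(card_spinVal).2 h2]
    haveI : CharP F 2 := (CharP.charP_iff_prime_eq_zero Nat.prime_two).2 (by exact_mod_cast h2)
    have h := FiniteField.even_card_of_char_two (F := F) (ringChar.eq F 2)
    rw [Nat.card_eq_fintype_card (α := F)]
    have := Fintype.one_lt_card (α := F)
    rw [Nat.Coprime.gcd_eq_one ((Nat.coprime_two_left).2 (Nat.odd_iff.2 (by omega)))]
  · rw [(card_spinVal).1 h2]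
    have h := FiniteField.odd_card_of_char_ne_two (F := F) fun hc => h2 (by
      haveI := ringChar.of_eq hc
      exact_mod_cast CharP.cast_eq_zero F 2)
    rw [Nat.card_eq_fintype_card (α := F), Nat.gcd_eq_left (show 2 ∣ Fintype.card F - 1 by omega)]

/-- Images of `SL_2(K)` lie in `Ω` unless `K` has two elements. -/
theorem sl2_le_omega (hQ : (polarBilin Q).Nondegenerate) (hn : 2 ≤ Fintype.card ι)
    (h : Fintype.card F ≠ 2 ∨ Fintype.card ι ≠ 4) {K : Type*} [Field K] [Fintype K] (hK : 3 ≤ Fintype.card K)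
    (φ : Matrix.SpecialLinearGroup (Fin 2) K →* Cfsg.isometryGroup F (⇑Q)) : φ.range ≤ Cfsg.Omega F (⇑Q) := by
  rcases Nat.lt_or_ge (Fintype.card K) 4 with h4 | h4
  · have h3 : Fintype.card K = 3 := by omega
    rw [MonoidHom.range_eq_map, ← ClassicalSL.closure_elemTransvections, MonoidHom.map_closure,
      Subgroup.closure_le]
    rintro _ ⟨_, ⟨i, j, hij, c, rfl⟩, rfl⟩
    refine map_mem_omega_of_odd_pow hQ hn h φ (N := 3) (by decide) ?_
    have hadd : c + c + c = 0 := by
      have := (CharP.cast_eq_zero_iff K (ringChar K) 3)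
      have h30 : ((3 : ℕ) : K) = 0 := by rw [← h3]; exact FiniteField.cast_card_eq_zero K
      push_cast at h30
      linear_combination c * h30
    rw [pow_succ, pow_two, ← Matrix.SpecialLinearGroup.transvection_add, ← Matrix.SpecialLinearGroup.transvection_add,
      hadd, Matrix.SpecialLinearGroup.transvection_coeff_zero]
  · classical
    obtain ⟨a, ha0, ha2⟩ : ∃ a : K, a ≠ 0 ∧ a ^ 2 ≠ 1 := by
      have hlt : ({0, 1, -1} : Finset K).card < (Finset.univ : Finset K).card := by
        rw [Finset.card_univ]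
        exact lt_of_le_of_lt Finset.card_le_three (by omega)
      obtain ⟨a, -, ha⟩ := Finset.exists_mem_notMem_of_card_lt_card hlt
      simp only [Finset.mem_insert, Finset.mem_singleton, not_or] at ha
      refine ⟨a, ha.1, fun h => ?_⟩
      rcases sq_eq_one_iff.1 h with h | h
      exacts [ha.2.1 h, ha.2.2 h]
    exact range_le_omega_of_perfect φ (SL2.commutator_eq_top ha0 ha2)

end omega

end Cfsg.Agent.OrthLow
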