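/-
The Klein correspondence: alternating four-by-four matrices.
-/
import Cfsg.Agent.Lib.Orthogonal.LowDim
import Cfsg.Agent.Lib.Classical.DicksonProper

set_option autoImplicit false
set_option linter.style.haveILetI false

namespace Cfsg.Agent.OrthLow

open QuadraticMap Cfsg.Agent.Orth Matrix

variable {F : Type*} [Field F]

local notation "M4" => Matrix (Fin 4) (Fin 4) F
local notation "I6" => Fin 3 ⊕ Fin 3

/-- The Pfaffian. -/
def pf (M : M4) : F := M 0 1 * M 2 3 - M 0 2 * M 1 3 + M 0 3 * M 1 2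

/-- The dual alternating matrix. -/
def star4 (M : M4) : M4 :=
  !![0, M 2 3, -M 1 3, M 1 2; -M 2 3, 0, M 0 3, -M 0 2; M 1 3, -M 0 3, 0, M 0 1;
     -M 1 2, M 0 2, -M 0 1, 0]

/-- Alternating matrices. -/
def Alt4 (M : M4) : Prop := (∀ i, M i i = 0) ∧ ∀ i j, M j i = -M i j

theorem alt4_conj {M : M4} (hM : Alt4 M) (g : M4) : Alt4 (g * M * gᵀ) := by
  obtain ⟨hd, hs⟩ := hM
  constructor
  · intro i
    simp only [Matrix.mul_apply, Fin.sum_univ_four, Matrix.transpose_apply]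
    rw [hd 0, hd 1, hd 2, hd 3, hs 0 1, hs 0 2, hs 0 3, hs 1 2, hs 1 3, hs 2 3]
    ring
  · intro i j
    simp only [Matrix.mul_apply, Fin.sum_univ_four, Matrix.transpose_apply]
    rw [hd 0, hd 1, hd 2, hd 3, hs 0 1, hs 0 2, hs 0 3, hs 1 2, hs 1 3, hs 2 3]
    ring

theorem det_fin_four (g : M4) : g.det =
    g 0 0 * g 1 1 * g 2 2 * g 3 3 - g 0 0 * g 1 1 * g 2 3 * g 3 2 - g 0 0 * g 1 2 * g 2 1 * g 3 3
    + g 0 0 * g 1 2 * g 2 3 * g 3 1 + g 0 0 * g 1 3 * g 2 1 * g 3 2 - g 0 0 * g 1 3 * g 2 2 * g 3 1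
    - g 0 1 * g 1 0 * g 2 2 * g 3 3 + g 0 1 * g 1 0 * g 2 3 * g 3 2 + g 0 1 * g 1 2 * g 2 0 * g 3 3
    - g 0 1 * g 1 2 * g 2 3 * g 3 0 - g 0 1 * g 1 3 * g 2 0 * g 3 2 + g 0 1 * g 1 3 * g 2 2 * g 3 0
    + g 0 2 * g 1 0 * g 2 1 * g 3 3 - g 0 2 * g 1 0 * g 2 3 * g 3 1 - g 0 2 * g 1 1 * g 2 0 * g 3 3
    + g 0 2 * g 1 1 * g 2 3 * g 3 0 + g 0 2 * g 1 3 * g 2 0 * g 3 1 - g 0 2 * g 1 3 * g 2 1 * g 3 0
    - g 0 3 * g 1 0 * g 2 1 * g 3 2 + g 0 3 * g 1 0 * g 2 2 * g 3 1 + g 0 3 * g 1 1 * g 2 0 * g 3 2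
    - g 0 3 * g 1 1 * g 2 2 * g 3 0 - g 0 3 * g 1 2 * g 2 0 * g 3 1 + g 0 3 * g 1 2 * g 2 1 * g 3 0 := by
  rw [Matrix.det_succ_row_zero, Fin.sum_univ_four]
  simp only [Matrix.det_fin_three, Matrix.submatrix_apply,
    (by decide : Fin.succ (0 : Fin 3) = (1 : Fin 4)),
    (by decide : Fin.succ (1 : Fin 3) = (2 : Fin 4)),
    (by decide : Fin.succ (2 : Fin 3) = (3 : Fin 4)),
    (by decide : Fin.succAbove (0 : Fin 4) (0 : Fin 3) = 1),
    (by decide : Fin.succAbove (0 : Fin 4) (1 : Fin 3) = 2),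
    (by decide : Fin.succAbove (0 : Fin 4) (2 : Fin 3) = 3),
    (by decide : Fin.succAbove (1 : Fin 4) (0 : Fin 3) = 0),
    (by decide : Fin.succAbove (1 : Fin 4) (1 : Fin 3) = 2),
    (by decide : Fin.succAbove (1 : Fin 4) (2 : Fin 3) = 3),
    (by decide : Fin.succAbove (2 : Fin 4) (0 : Fin 3) = 0),
    (by decide : Fin.succAbove (2 : Fin 4) (1 : Fin 3) = 1),
    (by decide : Fin.succAbove (2 : Fin 4) (2 : Fin 3) = 3),
    (by decide : Fin.succAbove (3 : Fin 4) (0 : Fin 3) = 0),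
    (by decide : Fin.succAbove (3 : Fin 4) (1 : Fin 3) = 1),
    (by decide : Fin.succAbove (3 : Fin 4) (2 : Fin 3) = 2),
    Fin.val_zero, Fin.val_one, Fin.val_two, (by decide : ((3 : Fin 4) : ℕ) = 3)]
  ring

theorem pf_conj {M : M4} (hM : Alt4 M) (g : M4) : pf (g * M * gᵀ) = g.det * pf M := by
  obtain ⟨hd, hs⟩ := hM
  rw [det_fin_four]
  simp only [pf, Matrix.mul_apply, Fin.sum_univ_four, Matrix.transpose_apply]
  rw [hd 0, hd 1, hd 2, hd 3, hs 0 1, hs 0 2, hs 0 3, hs 1 2, hs 1 3, hs 2 3]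
  ring

/-- The six coordinates of an alternating matrix. -/
def emb6 : (I6 → F) →ₗ[F] M4 where
  toFun v := !![0, v (.inl 0), v (.inl 1), v (.inl 2);
    -v (.inl 0), 0, v (.inr 2), -v (.inr 1);
    -v (.inl 1), -v (.inr 2), 0, v (.inr 0);
    -v (.inl 2), v (.inr 1), -v (.inr 0), 0]
  map_add' u v := by ext i j; fin_cases i <;> fin_cases j <;> simp [add_comm]
  map_smul' c v := by ext i j; fin_cases i <;> fin_cases j <;> simp

def proj6 : M4 →ₗ[F] (I6 → F) where
  toFun M := Sum.elim ![M 0 1, M 0 2, M 0 3] ![M 2 3, -M 1 3, M 1 2]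
  map_add' u v := by ext (i | i) <;> fin_cases i <;> simp [add_comm]
  map_smul' c v := by ext (i | i) <;> fin_cases i <;> simp

theorem proj_emb6 (x : I6 → F) : proj6 (emb6 x) = x := by
  ext (i | i) <;> fin_cases i <;> simp [emb6, proj6]

theorem alt_emb6 (x : I6 → F) : Alt4 (emb6 x) :=
  ⟨fun i => by fin_cases i <;> simp [emb6], fun i j => by fin_cases i <;> fin_cases j <;> simp [emb6]⟩

theorem emb_proj6 {M : M4} (hM : Alt4 M) : emb6 (proj6 M) = M := by
  obtain ⟨hd, hs⟩ := hM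
  ext i j
  fin_cases i <;> fin_cases j <;>
    simp [emb6, proj6, hd 0, hd 1, hd 2, hd 3, hs 0 1, hs 0 2, hs 0 3, hs 1 2, hs 1 3, hs 2 3]

theorem qPlus_emb6 (x : I6 → F) : qPlus F 3 x = pf (emb6 x) := by
  rw [coe_qPlus, Cfsg.quadFormPlus, Fin.sum_univ_three]
  simp [pf, emb6]

/-- The action of matrices on alternating matrices. -/
def congHom : M4 →* Module.End F M4 where
  toFun g :=
    { toFun := fun M => g * M * gᵀ
      map_add' := fun u v => by rw [mul_add, add_mul]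
      map_smul' := fun c v => by rw [Matrix.mul_smul, Matrix.smul_mul, RingHom.id_apply] }
  map_one' := LinearMap.ext fun M => by simp
  map_mul' g h := LinearMap.ext fun M => by
    show g * h * M * (g * h)ᵀ = g * (h * M * hᵀ) * gᵀ
    rw [Matrix.transpose_mul]
    simp only [mul_assoc]

/-- A matrix fixing all alternating matrices is a sign. -/
theorem scalar_of_fix {g : M4} (h : ∀ M : M4, Alt4 M → g * M * gᵀ = M) :
    ∃ c : F, c * c = 1 ∧ g = c • (1 : M4) := by
  have key : ∀ a b : Fin 4, a ≠ b → ∀ i j,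
      g i a * g j b - g i b * g j a = (1 : M4) i a * (1 : M4) j b - (1 : M4) i b * (1 : M4) j a := by
    intro a b hab i j
    have hA : Alt4 (Matrix.single a b (1 : F) - Matrix.single b a 1) := by
      constructor
      · intro k
        simp only [Matrix.sub_apply, Matrix.single_apply]
        rw [if_neg (fun e => hab (e.1.trans e.2.symm)), if_neg (fun e => hab (e.2.trans e.1.symm)), sub_zero]
      · intro k l
        simp only [Matrix.sub_apply, Matrix.single_apply, and_comm (a := b = l), and_comm (a := a = l)]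
        rw [neg_sub]
    have h1 := congrFun (congrFun (h _ hA) i) j
    rw [mul_sub, sub_mul, Matrix.sub_apply, Matrix.sub_apply] at h1
    simp only [Matrix.mul_apply, Matrix.single_apply, Matrix.transpose_apply, Finset.sum_mul, ite_and,
      mul_ite, mul_one, mul_zero, ite_mul, zero_mul, Finset.sum_ite_eq, Finset.mem_univ, if_true] at h1
    rw [h1]
    simp only [Matrix.one_apply]
    simp only [eq_comm (a := i), eq_comm (a := j)]
    split_ifs <;> simp
  have hoff : ∀ i a, i ≠ a → g i a = 0 := by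
    intro i a hia
    obtain ⟨b, hba, hbi⟩ : ∃ b : Fin 4, b ≠ a ∧ b ≠ i :=
      (by decide : ∀ x y : Fin 4, ∃ b : Fin 4, b ≠ x ∧ b ≠ y) a i
    have e1 := key a b hba.symm i a
    have e2 := key a b hba.symm i b
    have e3 := key a b hba.symm a b
    simp [Matrix.one_apply, hia, hbi.symm, hba, hba.symm] at e1 e2 e3
    linear_combination (-g i a) * e3 + g a a * e2 - g b a * e1
  have hdiag : ∀ a b, a ≠ b → g a a * g b b = 1 := by
    intro a b hab
    have e := key a b hab a b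
    simpa [Matrix.one_apply, hab, hab.symm, hoff a b hab] using e
  have heq : ∀ a, g a a = g 0 0 := by
    intro a
    obtain ⟨c, hca, hc0⟩ : ∃ c : Fin 4, c ≠ a ∧ c ≠ 0 :=
      (by decide : ∀ x y : Fin 4, ∃ b : Fin 4, b ≠ x ∧ b ≠ y) a 0
    have h1 := hdiag a c hca.symm
    have h2 := hdiag 0 c hc0.symm
    have hne : g c c ≠ 0 := fun h0 => by rw [h0, mul_zero] at h1; exact zero_ne_one h1
    exact mul_right_cancel₀ hne (h1.trans h2.symm)
  refine ⟨g 0 0, ?_, ?_⟩
  · have := hdiag 0 1 (by decide)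
    rwa [heq 1] at this
  · ext i j
    rcases eq_or_ne i j with rfl | hij
    · simp [heq i]
    · simp [hij, hoff i j hij]

theorem fix_of_scalar {g : M4} {c : F} (hc : c * c = 1) (hg : g = c • (1 : M4)) (M : M4) :
    g * M * gᵀ = M := by
  rw [hg, Matrix.transpose_smul, Matrix.transpose_one, Matrix.smul_mul, one_mul, Matrix.smul_mul,
    Matrix.mul_smul, mul_one, smul_smul, hc, one_smul]

/-- The number of signs. -/
theorem card_signs [Finite F] : Nat.card {c : F // c * c = 1} = Nat.gcd 2 (Nat.card F - 1) := by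
  rw [← Dickson.card_center (F := F)]
  symm
  refine Nat.card_eq_of_bijective
    (fun A : Subgroup.center (Matrix.SpecialLinearGroup (Fin 2) F) =>
      (⟨A.1.1 0 0, ?_⟩ : {c : F // c * c = 1})) ⟨?_, ?_⟩
  · obtain ⟨r, hr, hA⟩ := Matrix.SpecialLinearGroup.mem_center_iff.1 A.2
    rw [Fintype.card_fin, pow_two] at hr
    rw [← hA]
    simpa using hr
  · intro A B h
    obtain ⟨r, -, hA⟩ := Matrix.SpecialLinearGroup.mem_center_iff.1 A.2
    obtain ⟨s, -, hB⟩ := Matrix.SpecialLinearGroup.mem_center_iff.1 B.2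
    have h' : A.1.1 0 0 = B.1.1 0 0 := congrArg Subtype.val h
    rw [← hA, ← hB] at h'
    simp at h'
    exact Subtype.ext (Subtype.ext (by rw [← hA, ← hB, h']))
  · rintro ⟨c, hc⟩
    refine ⟨⟨⟨Matrix.scalar (Fin 2) c, by rw [Matrix.scalar_apply, Matrix.det_diagonal, Fin.prod_univ_two]; exact hc⟩,
      Matrix.SpecialLinearGroup.mem_center_iff.2 ⟨c, by rw [Fintype.card_fin, pow_two]; exact hc, rfl⟩⟩, ?_⟩
    apply Subtype.ext
    simp

/-- A subgroup consisting of the sign matrices has as many elements as there are signs. -/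
theorem card_sign_group [Finite F] {G : Type*} [Group G] {n : Type*} [Fintype n] [DecidableEq n] [Nonempty n]
    {mat : G → Matrix n n F} (hinj : Function.Injective mat) {H : Subgroup G}
    (hH : ∀ g, g ∈ H ↔ ∃ c : F, c * c = 1 ∧ mat g = c • (1 : Matrix n n F))
    (hex : ∀ c : F, c * c = 1 → ∃ g, mat g = c • (1 : Matrix n n F)) :
    Nat.card H = Nat.gcd 2 (Nat.card F - 1) := by
  rw [← card_signs]
  choose e he using hex
  have hcan : ∀ c d : F, c • (1 : Matrix n n F) = d • (1 : Matrix n n F) → c = d := fun c d h => by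
    obtain ⟨i⟩ := ‹Nonempty n›
    simpa using congrFun (congrFun h i) i
  symm
  refine Nat.card_eq_of_bijective
    (fun c : {c : F // c * c = 1} => (⟨e c.1 c.2, (hH _).2 ⟨c.1, c.2, he _ _⟩⟩ : H)) ⟨?_, ?_⟩
  · intro c d h
    refine Subtype.ext (hcan _ _ ?_)
    have h' : e c.1 c.2 = e d.1 d.2 := congrArg Subtype.val h
    rw [← he c.1 c.2, ← he d.1 d.2, h']
  · rintro ⟨g, hg⟩
    obtain ⟨c, hc, hgc⟩ := (hH g).1 hg
    exact ⟨⟨c, hc⟩, Subtype.ext (hinj ((he c hc).trans hgc.symm))⟩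

end Cfsg.Agent.OrthLow
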