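/-
PΩ_5(q) and PSp_4(q).
-/
import Cfsg.Agent.Lib.Orthogonal.Klein
import Cfsg.Agent.Lib.Classical.Symplectic

set_option autoImplicit false
set_option linter.style.haveILetI false

namespace Cfsg.Agent.OrthLow

open QuadraticMap Cfsg.Agent.Orth Matrix

/-- A simple perfect group has trivial centre. -/
theorem center_bot_of_simple {P : Type*} [Group P] [IsSimpleGroup P] (hP : commutator P = ⊤) :
    Subgroup.center P = ⊥ := by
  refine ((Subgroup.center P).normal_of_characteristic.eq_bot_or_eq_top).resolve_right fun h => ?_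
  obtain ⟨x, hx⟩ := exists_ne (1 : P)
  have hbot : commutator P = ⊥ := by
    rw [eq_bot_iff, commutator_def, Subgroup.commutator_le]
    intro a _ b _
    rw [Subgroup.mem_bot, commutatorElement_eq_one_iff_mul_comm]
    exact (Subgroup.mem_center_iff.1 (h ▸ Subgroup.mem_top b) a)
  exact hx (Subgroup.mem_bot.1 (hbot ▸ hP.symm ▸ Subgroup.mem_top x))

theorem commutator_quot {G : Type*} [Group G] (N : Subgroup G) [N.Normal] (hG : commutator G = ⊤) :
    commutator (G ⧸ N) = ⊤ := by
  have h := congrArg (Subgroup.map (QuotientGroup.mk' N)) hG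
  rwa [map_commutator_eq, MonoidHom.range_eq_top.2 (QuotientGroup.mk'_surjective N),
    Subgroup.map_top_of_surjective _ (QuotientGroup.mk'_surjective N), ← commutator_def] at h

variable {F : Type*} [Field F]

local notation "Sp4" => Matrix.symplecticGroup (Fin 2) F
local notation "M4" => Matrix (Fin 4) (Fin 4) F
local notation "I5" => Unit ⊕ (Fin 2 ⊕ Fin 2)
local notation "J4" => (!![0, 0, -1, 0; 0, 0, 0, -1; 1, 0, 0, 0; 0, 1, 0, 0] : Matrix (Fin 4) (Fin 4) F)

/-- Symplectic matrices as four-by-four matrices. -/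
def spMat : Sp4 →* M4 :=
  (Matrix.reindexAlgEquiv F F (finSumFinEquiv (m := 2) (n := 2))).toMonoidHom.comp
    (Matrix.symplecticGroup (Fin 2) F).subtype

theorem reindex_J : Matrix.reindexAlgEquiv F F (finSumFinEquiv (m := 2) (n := 2)) (Matrix.J (Fin 2) F) = J4 := by
  ext i j
  fin_cases i <;> fin_cases j <;> simp [Matrix.J, finSumFinEquiv, Fin.addCases]

theorem spMat_left (g : Sp4) : (spMat g)ᵀ * J4 * spMat g = J4 := by
  have h := congrArg (Matrix.reindexAlgEquiv F F (finSumFinEquiv (m := 2) (n := 2))) (SymplecticGroup.mem_iff'.1 g.2)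
  rw [map_mul, map_mul, reindex_J] at h
  exact h

theorem spMat_right (g : Sp4) : spMat g * J4 * (spMat g)ᵀ = J4 := by
  have h := congrArg (Matrix.reindexAlgEquiv F F (finSumFinEquiv (m := 2) (n := 2))) (SymplecticGroup.mem_iff.1 g.2)
  rw [map_mul, map_mul, reindex_J] at h
  exact h

theorem spMat_det (g : Sp4) : (spMat g).det = 1 := by
  rw [show spMat g = Matrix.reindexAlgEquiv F F (finSumFinEquiv (m := 2) (n := 2)) g.1 from rfl,
    Matrix.det_reindexAlgEquiv]
  exact SymplecticGroup.det_eq_one g.2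

theorem spMat_injective : Function.Injective (spMat (F := F)) :=
  fun _ _ h => Subtype.ext ((Matrix.reindexAlgEquiv F F _).injective h)

def emb5 : (I5 → F) →ₗ[F] M4 :=
  emb6 ∘ₗ
    { toFun := fun v => Sum.elim ![v (.inr (.inl 0)), v (.inl ()), v (.inr (.inl 1))]
        ![v (.inr (.inr 0)), v (.inl ()), v (.inr (.inr 1))]
      map_add' := fun u v => by ext (i | i) <;> fin_cases i <;> simp
      map_smul' := fun c v => by ext (i | i) <;> fin_cases i <;> simp }

def proj5 : M4 →ₗ[F] (I5 → F) where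
  toFun M := Sum.elim (fun _ => M 0 2) (Sum.elim ![M 0 1, M 0 3] ![M 2 3, M 1 2])
  map_add' u v := by ext (i | i | i) <;> first | rfl | (fin_cases i <;> rfl)
  map_smul' c v := by ext (i | i | i) <;> first | rfl | (fin_cases i <;> rfl)

theorem proj_emb5 (x : I5 → F) : proj5 (emb5 x) = x := by
  ext (i | i | i)
  · simp [emb5, emb6, proj5]
  · fin_cases i <;> simp [emb5, emb6, proj5]
  · fin_cases i <;> simp [emb5, emb6, proj5]

theorem qOdd_emb5 (x : I5 → F) : qOdd F 2 x = pf (emb5 x) := by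
  rw [coe_qOdd, Cfsg.quadFormOdd, Fin.sum_univ_two]
  simp [pf, emb5, emb6]
  ring

theorem trace_J4 (M : M4) : (J4 * M).trace = M 0 2 + M 1 3 - M 2 0 - M 3 1 := by
  simp [Matrix.trace, Matrix.vecMul, dotProduct, Fin.sum_univ_four]
  ring

theorem emb5_spec (x : I5 → F) : Alt4 (emb5 x) ∧ (J4 * emb5 x).trace = 0 := by
  refine ⟨alt_emb6 _, ?_⟩
  rw [trace_J4]
  simp [emb5, emb6]

theorem emb_proj5 {M : M4} (h2 : (2 : F) ≠ 0) (hM : Alt4 M) (ht : (J4 * M).trace = 0) :
    emb5 (proj5 M) = M := by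
  conv_rhs => rw [← emb_proj6 hM]
  have h13 : M 0 2 = -M 1 3 := by
    rw [trace_J4, hM.2 0 2, hM.2 1 3] at ht
    exact mul_left_cancel₀ h2 (by linear_combination ht)
  show emb6 _ = emb6 _
  congr 1
  ext (i | i) <;> fin_cases i <;> simp [proj5, proj6, h13]

theorem stable5 (h2 : (2 : F) ≠ 0) (g : Sp4) (x : I5 → F) :
    emb5 (proj5 (congHom (spMat g) (emb5 x))) = congHom (spMat g) (emb5 x) := by
  refine emb_proj5 h2 (alt4_conj (emb5_spec x).1 _) ?_
  show (J4 * (spMat g * emb5 x * (spMat g)ᵀ)).trace = 0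
  rw [← mul_assoc, Matrix.trace_mul_comm, ← mul_assoc, ← mul_assoc, spMat_left, (emb5_spec x).2]

def rho5 (h2 : (2 : F) ≠ 0) : Sp4 →* Cfsg.isometryGroup F (⇑(qOdd F 2)) :=
  repHom (qOdd F 2) (coordHom emb5 proj5 proj_emb5 (congHom.comp spMat) (stable5 h2)) fun g x => by
    rw [qOdd_emb5, qOdd_emb5]
    show pf (emb5 (proj5 (congHom (spMat g) (emb5 x)))) = _
    rw [stable5 h2]
    show pf (spMat g * emb5 x * (spMat g)ᵀ) = _
    rw [pf_conj (emb5_spec x).1, spMat_det, one_mul]

theorem mem_ker_rho5 (h2 : (2 : F) ≠ 0) (g : Sp4) :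
    g ∈ (rho5 h2).ker ↔ ∃ c : F, c * c = 1 ∧ spMat g = c • (1 : M4) := by
  rw [rho5, mem_ker_coord]
  constructor
  · intro h
    have h0 : ∀ M : M4, Alt4 M → (J4 * M).trace = 0 → spMat g * M * (spMat g)ᵀ = M := fun M hM ht => by
      rw [← emb_proj5 h2 hM ht]; exact h _
    refine scalar_of_fix fun M hM => ?_
    set s := -(M 0 2 + M 1 3) / 2 with hs
    have hAJ : Alt4 (M - s • J4) := by
      constructor
      · intro i
        rw [Matrix.sub_apply, Matrix.smul_apply, hM.1 i]
        fin_cases i <;> simp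
      · intro i j
        rw [Matrix.sub_apply, Matrix.sub_apply, Matrix.smul_apply, Matrix.smul_apply, hM.2 i j]
        fin_cases i <;> fin_cases j <;> simp <;> ring
    have e := h0 _ hAJ (by
      rw [trace_J4, Matrix.sub_apply, Matrix.sub_apply, Matrix.sub_apply, Matrix.sub_apply, hM.2 0 2, hM.2 1 3, hs]
      simp
      field_simp
      ring)
    rw [mul_sub, sub_mul, Matrix.mul_smul, Matrix.smul_mul, spMat_right] at e
    exact sub_left_injective e
  · rintro ⟨c, hc, hg⟩ x
    exact fix_of_scalar hc hg _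

/-- PΩ_5(q) ≅ PSp_4(q). -/
theorem pomega_five [Fintype F] (hodd : Odd (Fintype.card F)) :
    Nonempty (Cfsg.POmega F (⇑(qOdd F 2)) ≃* Cfsg.PSp 2 F) := by
  have h2 : (2 : F) ≠ 0 := fun h => by
    haveI : CharP F 2 := (CharP.charP_iff_prime_eq_zero Nat.prime_two).2 (by exact_mod_cast h)
    have := FiniteField.even_card_of_char_two (F := F) (ringChar.eq F 2)
    have := Nat.odd_iff.1 hodd
    omega
  have hq3 : 3 ≤ Nat.card F := by
    rw [Nat.card_eq_fintype_card]
    have := Fintype.one_lt_card (α := F)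
    have := Nat.odd_iff.1 hodd
    omega
  have hperf : commutator Sp4 = ⊤ := ClassicalSp.commutator_sp (Or.inr (Or.inl ⟨rfl, hq3⟩))
  haveI := ClassicalSp.isSimpleGroup_psp (F := F) (m := 2) le_rfl fun _ => hq3
  have hn : 2 ≤ Fintype.card I5 := by simp
  have hne : Fintype.card F ≠ 2 ∨ Fintype.card I5 ≠ 4 := Or.inr (by simp)
  have hsign : ∀ c : F, c * c = 1 → ∃ g : Sp4, spMat g = c • (1 : M4) := by
    intro c hc
    refine ⟨⟨c • 1, ?_⟩, ?_⟩
    · rw [SymplecticGroup.mem_iff, Matrix.transpose_smul, Matrix.transpose_one, Matrix.smul_mul, one_mul,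
        Matrix.mul_smul, mul_one, smul_smul, hc, one_smul]
    · show Matrix.reindexAlgEquiv F F _ (c • (1 : Matrix (Fin 2 ⊕ Fin 2) (Fin 2 ⊕ Fin 2) F)) = _
      rw [map_smul, map_one]
  have hcard : Nat.card (rho5 h2).range * Nat.card (SpinVal F) =
      Nat.card (Cfsg.isometryGroup F (⇑(qOdd F 2))) := by
    rw [card_isometryGroup _ rfl, card_oGroup_qOdd h2, card_spinVal_eq]
    have h1 := card_range_mul (rho5 h2)
    rw [card_sign_group spMat_injective (mem_ker_rho5 h2) hsign, ClassicalSp.card_sp] at h1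
    rw [mul_comm 2 (Nat.gcd _ _), ← mul_assoc, h1]
    ring
  refine quot_center_equiv (rho5 h2) (QuotientGroup.mk' _) (QuotientGroup.mk'_surjective _)
    (center_bot_of_simple (commutator_quot _ hperf)) (QuotientGroup.ker_mk' _).le (fun g hg => ?_)
    (omega_eq_range (qOdd_nondeg h2 2) hn hne _ (range_le_omega_of_perfect _ hperf) hcard)
  rw [QuotientGroup.ker_mk', Subgroup.mem_center_iff]
  obtain ⟨c, -, hg'⟩ := (mem_ker_rho5 h2 g).1 hg
  intro y
  refine spMat_injective ?_
  rw [map_mul, map_mul, hg', Matrix.mul_smul, mul_one, Matrix.smul_mul, one_mul]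

end Cfsg.Agent.OrthLow
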