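/-
In characteristic two the odd-dimensional orthogonal group is the symplectic group.
-/
import Cfsg.Agent.Lib.Orthogonal.Counts
import Mathlib.LinearAlgebra.SymplecticGroup
import Mathlib.FieldTheory.Perfect

set_option autoImplicit false

namespace Cfsg.Agent.Orth

open QuadraticMap Module
open scoped Matrix

variable (F : Type*) [Field F] (m : ℕ)

/-- The isometries of the polar form of the hyperbolic form. -/
def polarGroup : Subgroup ((Fin m ⊕ Fin m → F) ≃ₗ[F] (Fin m ⊕ Fin m → F)) where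
  carrier := {g | ∀ x y, polar (qPlus F m) (g x) (g y) = polar (qPlus F m) x y}
  mul_mem' {a b} ha hb x y := (ha _ _).trans (hb x y)
  one_mem' _ _ := rfl
  inv_mem' {a} ha x y := by
    have h := ha (a⁻¹ x) (a⁻¹ y)
    rw [show a (a⁻¹ x) = x from a.apply_symm_apply x, show a (a⁻¹ y) = y from a.apply_symm_apply y] at h
    exact h.symm

variable {F m}

theorem polar_qPlus_sum (x y : Fin m ⊕ Fin m → F) :
    polar (qPlus F m) x y = ∑ i, (x (.inl i) * y (.inr i) + y (.inl i) * x (.inr i)) := by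
  simp only [polar, coe_qPlus, Cfsg.quadFormPlus, Pi.add_apply, ← Finset.sum_sub_distrib]
  exact Finset.sum_congr rfl fun i _ => by ring

variable [CharP F 2]

theorem toMatrix_polar : LinearMap.toMatrix₂' F (polarBilin (qPlus F m)) = Matrix.J (Fin m) F := by
  ext i j
  rw [LinearMap.toMatrix₂'_apply, polarBilin_apply_apply, polar_qPlus_sum]
  rcases i with i | i <;> rcases j with j | j
  · simp [Matrix.J]
  · simp [Matrix.J, Pi.single_apply, Matrix.one_apply, CharTwo.neg_eq, eq_comm]
  · simp [Matrix.J, Pi.single_apply, Matrix.one_apply, eq_comm]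
  · simp [Matrix.J]

theorem mem_symplectic_iff (A : Matrix (Fin m ⊕ Fin m) (Fin m ⊕ Fin m) F) :
    A ∈ Matrix.symplecticGroup (Fin m) F ↔
      ∀ x y, polar (qPlus F m) (A *ᵥ x) (A *ᵥ y) = polar (qPlus F m) x y := by
  rw [SymplecticGroup.mem_iff', ← toMatrix_polar]
  have h1 := LinearMap.toMatrix₂'_compl₁₂ (polarBilin (qPlus F m)) (Matrix.toLin' A) (Matrix.toLin' A)
  rw [LinearMap.toMatrix'_toLin'] at h1
  rw [← h1, (LinearMap.toMatrix₂' F).injective.eq_iff]
  exact ⟨fun h x y => LinearMap.congr_fun (LinearMap.congr_fun h x) y,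
    fun h => LinearMap.ext fun x => LinearMap.ext fun y => h x y⟩

/-- Symplectic matrices as linear maps. -/
noncomputable def spEquivPolar : Matrix.symplecticGroup (Fin m) F ≃* polarGroup F m where
  toFun A := ⟨LinearEquiv.ofLinear (Matrix.toLin' A.1) (Matrix.toLin' (A⁻¹).1)
      (by rw [← Matrix.toLin'_mul]; exact (congrArg Matrix.toLin' (congrArg Subtype.val (mul_inv_cancel A))).trans Matrix.toLin'_one)
      (by rw [← Matrix.toLin'_mul]; exact (congrArg Matrix.toLin' (congrArg Subtype.val (inv_mul_cancel A))).trans Matrix.toLin'_one),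
    fun x y => (mem_symplectic_iff A.1).1 A.2 x y⟩
  invFun g := ⟨LinearMap.toMatrix' g.1.toLinearMap, (mem_symplectic_iff _).2 fun x y => by
    rw [← Matrix.toLin'_apply, ← Matrix.toLin'_apply, Matrix.toLin'_toMatrix']; exact g.2 x y⟩
  left_inv A := Subtype.ext (LinearMap.toMatrix'_toLin' A.1)
  right_inv g := Subtype.ext (LinearEquiv.ext fun x => by
    show Matrix.toLin' (LinearMap.toMatrix' g.1.toLinearMap) x = g.1 x
    rw [Matrix.toLin'_toMatrix']; rfl)
  map_mul' A B := Subtype.ext (LinearEquiv.ext fun x => by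
    show Matrix.toLin' (A.1 * B.1) x = Matrix.toLin' A.1 (Matrix.toLin' B.1 x)
    rw [Matrix.toLin'_mul]; rfl)

theorem qOdd_split (v : Unit ⊕ (Fin m ⊕ Fin m) → F) :
    qOdd F m v = v (.inl ()) ^ 2 + qPlus F m (v ∘ Sum.inr) := by
  rw [coe_qOdd, coe_qPlus]; rfl

theorem polar_qOdd_two (v w : Unit ⊕ (Fin m ⊕ Fin m) → F) :
    polar (qOdd F m) v w = polar (qPlus F m) (v ∘ Sum.inr) (w ∘ Sum.inr) := by
  simp only [polar, qOdd_split, Pi.add_comp, Pi.add_apply, add_sq, CharTwo.two_eq_zero (R := F), zero_mul,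
    add_zero]
  ring

theorem sq_inj {a b : F} (h : a ^ 2 = b ^ 2) : a = b := by
  have h0 : (a + b) ^ 2 = 0 := by
    rw [add_sq, CharTwo.two_eq_zero (R := F), zero_mul, zero_mul, add_zero, h, CharTwo.add_self_eq_zero]
  exact CharTwo.add_eq_zero.1 ((pow_eq_zero_iff two_ne_zero).1 h0)

variable [Finite F]

/-- The square root. -/
noncomputable def root (c : F) : F := (Classical.choose (FiniteField.isSquare_of_char_two (ringChar.eq F 2) c))

theorem root_sq (c : F) : root c ^ 2 = c := by
  rw [pow_two]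
  exact (Classical.choose_spec (FiniteField.isSquare_of_char_two (ringChar.eq F 2) c)).symm

/-- The correction term of a symplectic map. -/
noncomputable def corr (h : polarGroup F m) : (Fin m ⊕ Fin m → F) →ₗ[F] F where
  toFun w := root (qPlus F m w + qPlus F m (h.1 w))
  map_add' x y := sq_inj (by
    rw [root_sq, add_sq, root_sq, root_sq, CharTwo.two_eq_zero (R := F), zero_mul, zero_mul, add_zero, LinearEquiv.map_add,
      q_add, q_add, h.2 x y]
    linear_combination polar (qPlus F m) x y * CharTwo.two_eq_zero (R := F))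
  map_smul' c x := sq_inj (by
    rw [RingHom.id_apply, smul_eq_mul, mul_pow, root_sq, root_sq, LinearEquiv.map_smul, q_smul, q_smul]; ring)

theorem corr_sq (h : polarGroup F m) (w : Fin m ⊕ Fin m → F) :
    corr h w ^ 2 = qPlus F m w + qPlus F m (h.1 w) := root_sq _

/-- The extension of a symplectic map to an isometry. -/
noncomputable def extMap (h : polarGroup F m) :
    (Unit ⊕ (Fin m ⊕ Fin m) → F) →ₗ[F] (Unit ⊕ (Fin m ⊕ Fin m) → F) where
  toFun v := Sum.elim (fun _ => v (.inl ()) + corr h (v ∘ Sum.inr)) (h.1 (v ∘ Sum.inr))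
  map_add' x y := funext fun i => by
    rcases i with i | i
    · simp [Pi.add_comp, map_add]; ring
    · simp [Pi.add_comp, map_add]
  map_smul' c x := funext fun i => by
    rcases i with i | i
    · simp [Pi.smul_comp, map_smul]; ring
    · simp [Pi.smul_comp, map_smul]

theorem extMap_mul (g h : polarGroup F m) (v : Unit ⊕ (Fin m ⊕ Fin m) → F) :
    extMap (g * h) v = extMap g (extMap h v) := by
  funext i
  rcases i with i | i
  · show v (.inl ()) + corr (g * h) (v ∘ Sum.inr) = v (.inl ()) + corr h (v ∘ Sum.inr) + corr g (h.1 (v ∘ Sum.inr))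
    rw [add_assoc]
    congr 1
    refine sq_inj ?_
    rw [corr_sq, add_sq, corr_sq, corr_sq, Subgroup.coe_mul, LinearEquiv.mul_apply,
      CharTwo.two_eq_zero (R := F), zero_mul, zero_mul, add_zero]
    linear_combination -qPlus F m (h.1 (v ∘ Sum.inr)) * CharTwo.two_eq_zero (R := F)
  · rfl

theorem extMap_one (v : Unit ⊕ (Fin m ⊕ Fin m) → F) : extMap (1 : polarGroup F m) v = v := by
  funext i
  rcases i with ⟨⟩ | i
  · show v (.inl ()) + corr 1 (v ∘ Sum.inr) = v (.inl ())
    have : corr (1 : polarGroup F m) (v ∘ Sum.inr) = 0 := sq_inj (by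
      rw [corr_sq, OneMemClass.coe_one, LinearEquiv.coe_one, id, zero_pow two_ne_zero, CharTwo.add_self_eq_zero])
    rw [this, add_zero]
  · rfl

/-- The homomorphism into the orthogonal group. -/
noncomputable def extHom : polarGroup F m →* oGroup (qOdd F m) where
  toFun h := ⟨LinearEquiv.ofLinear (extMap h) (extMap h⁻¹)
      (LinearMap.ext fun v => by rw [LinearMap.comp_apply, ← extMap_mul, mul_inv_cancel, extMap_one]; rfl)
      (LinearMap.ext fun v => by rw [LinearMap.comp_apply, ← extMap_mul, inv_mul_cancel, extMap_one]; rfl),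
    fun v => by
      show qOdd F m (Sum.elim _ _) = _
      rw [qOdd_split, qOdd_split, Sum.elim_inl, Sum.elim_comp_inr, add_sq, corr_sq,
        CharTwo.two_eq_zero (R := F), zero_mul, zero_mul, add_zero]
      linear_combination qPlus F m (h.1 (v ∘ Sum.inr)) * CharTwo.two_eq_zero (R := F)⟩
  map_one' := Subtype.ext (LinearEquiv.ext fun v => extMap_one v)
  map_mul' g h := Subtype.ext (LinearEquiv.ext fun v => extMap_mul g h v)

theorem extHom_bijective : Function.Bijective (extHom : polarGroup F m →* oGroup (qOdd F m)) := by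
  refine ⟨fun g h e => Subtype.ext (LinearEquiv.ext fun w => ?_), fun g => ?_⟩
  · exact congrArg (fun k : oGroup (qOdd F m) => k.1 (Sum.elim (fun _ => 0) w) ∘ Sum.inr) e
  obtain ⟨e₀, he₀⟩ : ∃ e₀ : Unit ⊕ (Fin m ⊕ Fin m) → F, Sum.elim (fun _ => 1) 0 = e₀ := ⟨_, rfl⟩
  have hge : g.1 e₀ = e₀ := by
    have hrad : g.1 e₀ ∘ Sum.inr = 0 := eq_zero_of_b (qPlus_nondeg m) fun y => by
      obtain ⟨z, hz⟩ := g.1.surjective (Sum.elim (fun _ => 0) y)
      have h := b_map g.2 e₀ z
      rw [hz, polar_qOdd_two, polar_qOdd_two, ← he₀, Sum.elim_comp_inr, Sum.elim_comp_inr, b_zero_left] at h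
      rw [← he₀]; exact h
    have hc : g.1 e₀ (.inl ()) = 1 := by
      refine sq_inj ?_
      have h := g.2 e₀
      rw [qOdd_split, qOdd_split, hrad, map_zero, add_zero, ← he₀, Sum.elim_comp_inr, map_zero, add_zero,
        Sum.elim_inl] at h
      rw [← he₀]; exact h
    funext i
    rcases i with ⟨⟩ | i
    · rw [hc, ← he₀]; rfl
    · have := congrFun hrad i
      rw [Function.comp_apply] at this
      rw [this, ← he₀]; rfl
  let em : (Fin m ⊕ Fin m → F) →ₗ[F] (Unit ⊕ (Fin m ⊕ Fin m) → F) :=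
    { toFun := fun w => Sum.elim (fun _ => 0) w
      map_add' := fun x y => funext fun i => by rcases i with i | i <;> simp
      map_smul' := fun c x => funext fun i => by rcases i with i | i <;> simp }
  let hl : (Fin m ⊕ Fin m → F) →ₗ[F] (Fin m ⊕ Fin m → F) :=
    (LinearMap.funLeft F F Sum.inr).comp (g.1.toLinearMap.comp em)
  have hinj : Function.Injective hl := by
    rw [← LinearMap.ker_eq_bot, LinearMap.ker_eq_bot']
    intro w hw
    have h1 : g.1 (em w) = g.1 ((g.1 (em w) (.inl ())) • e₀) := by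
      rw [map_smul, hge, ← he₀]
      funext i
      rcases i with ⟨⟩ | i
      · simp
      · simp only [Pi.smul_apply, Sum.elim_inr, Pi.zero_apply, smul_zero]
        exact congrFun hw i
    have h2 := congrArg (fun v => v ∘ Sum.inr) (g.1.injective h1)
    simpa [em, ← he₀, Pi.smul_comp] using h2
  let h : polarGroup F m := ⟨LinearEquiv.ofInjectiveEndo hl hinj, fun x y => by
    show polar (qPlus F m) (hl x) (hl y) = _
    have h1 := b_map g.2 (em x) (em y)
    rw [polar_qOdd_two, polar_qOdd_two] at h1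
    exact h1⟩
  refine ⟨h, Subtype.ext (LinearEquiv.ext fun v => ?_)⟩
  have hv : v = v (.inl ()) • e₀ + em (v ∘ Sum.inr) := by
    rw [← he₀]
    funext i
    rcases i with ⟨⟩ | i <;> simp [em]
  show extMap h v = g.1 v
  have hgv : g.1 v = v (.inl ()) • e₀ + g.1 (em (v ∘ Sum.inr)) := by
    conv_lhs => rw [hv]
    rw [map_add, map_smul, hge]
  rw [hgv, ← he₀]
  funext i
  rcases i with ⟨⟩ | i
  · show v (.inl ()) + corr h (v ∘ Sum.inr) = v (.inl ()) • (1 : F) + g.1 (em (v ∘ Sum.inr)) (.inl ())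
    rw [smul_eq_mul, mul_one]
    congr 1
    refine sq_inj ?_
    have h1 := g.2 (em (v ∘ Sum.inr))
    rw [qOdd_split, qOdd_split] at h1
    have h2 : qPlus F m (h.1 (v ∘ Sum.inr)) = qPlus F m (g.1 (em (v ∘ Sum.inr)) ∘ Sum.inr) := rfl
    have h3 : qPlus F m (em (v ∘ Sum.inr) ∘ Sum.inr) = qPlus F m (v ∘ Sum.inr) := rfl
    have h4 : em (v ∘ Sum.inr) (.inl ()) = 0 := rfl
    rw [h3, h4] at h1
    rw [corr_sq, h2]
    linear_combination -h1 + qPlus F m (g.1 (em (v ∘ Sum.inr)) ∘ Sum.inr) * CharTwo.two_eq_zero (R := F)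
  · show h.1 (v ∘ Sum.inr) i = v (.inl ()) • (0 : F) + g.1 (em (v ∘ Sum.inr)) (.inr i)
    rw [smul_zero, zero_add]
    rfl

end Cfsg.Agent.Orth
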