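/-
Duality on alternating four-by-four matrices commutes with congruence.
-/
import Cfsg.Agent.Lib.Orthogonal.Klein

set_option autoImplicit false

namespace Cfsg.Agent.OrthLow

open Matrix

variable {F : Type*} [Field F]

set_option maxHeartbeats 4000000 in
theorem star4_conj {M : Matrix (Fin 4) (Fin 4) F} (hM : Alt4 M) (g : Matrix (Fin 4) (Fin 4) F) :
    gᵀ * star4 (g * M * gᵀ) * g = g.det • star4 M := by
  obtain ⟨hd, hs⟩ := hM
  rw [det_fin_four]
  ext i j
  fin_cases i <;> fin_cases j <;>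
  · simp [star4, Matrix.mul_apply, Fin.sum_univ_four]
    simp only [hd 0, hd 1, hd 2, hd 3, hs 0 1, hs 0 2, hs 0 3, hs 1 2, hs 1 3, hs 2 3]
    ring

end Cfsg.Agent.OrthLow
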