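/-
The quadratic extension attached to an anisotropic binary form.
-/
import Cfsg.Agent.Lib.Orthogonal.Counts
import Cfsg.Agent.Lib.Orthogonal.OmegaIndex
import Cfsg.Agent.Lib.AutPOmega.MinusField
import Mathlib.LinearAlgebra.Basis.VectorSpace

set_option autoImplicit false
set_option linter.style.haveILetI false

namespace Cfsg.Agent.OrthLow

open QuadraticMap Cfsg.Agent.Orth

variable {F : Type*} [Field F] [Fintype F] {K : Type*} [Field K] [Algebra F K] [Finite K]

variable (F K) in
/-- Conjugation in the quadratic extension. -/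
noncomputable def sig : K →ₐ[F] K := FiniteField.frobeniusAlgHom F K

omit [Finite K] in
theorem sig_apply (x : K) : sig F K x = x ^ Fintype.card F := rfl

theorem sig_sig (hK : Nat.card K = Fintype.card F ^ 2) (x : K) : sig F K (sig F K x) = x := by
  haveI := Fintype.ofFinite K
  rw [sig_apply, sig_apply, ← pow_mul, ← pow_two, ← hK, Nat.card_eq_fintype_card, FiniteField.pow_card]

omit [Finite K] in
theorem sig_algebraMap (c : F) : sig F K (algebraMap F K c) = algebraMap F K c := (sig F K).commutes c

theorem sig_fix {x : K} (h : sig F K x = x) : x ∈ (algebraMap F K).range := by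
  classical
  haveI := Fintype.ofFinite K
  rw [sig_apply] at h
  by_contra hx
  set q := Fintype.card F
  have hq : 1 < q := Fintype.one_lt_card
  let s : Finset K := insert x (Finset.univ.image (algebraMap F K))
  have hne := FiniteField.X_pow_card_sub_X_ne_zero K hq
  have hsub : s ⊆ ((Polynomial.X : Polynomial K) ^ q - Polynomial.X).roots.toFinset := by
    intro y hy
    rw [Multiset.mem_toFinset, Polynomial.mem_roots hne]
    rcases Finset.mem_insert.1 hy with rfl | hy
    · simp [h, sub_eq_zero]
    · obtain ⟨z, -, rfl⟩ := Finset.mem_image.1 hy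
      simp [q, ← map_pow, FiniteField.pow_card, sub_eq_zero]
  have h1 := (Finset.card_le_card hsub).trans ((Multiset.toFinset_card_le _).trans (Polynomial.card_roots' _))
  rw [FiniteField.X_pow_card_sub_X_natDegree_eq K hq, Finset.card_insert_of_notMem (fun hm => hx (by
    obtain ⟨z, -, rfl⟩ := Finset.mem_image.1 hm; exact ⟨z, rfl⟩)),
    Finset.card_image_of_injective _ (algebraMap F K).injective, Finset.card_univ] at h1
  omega

/-- Coordinates in which the norm is the binary form. -/
theorem exists_param (hK : Nat.card K = Fintype.card F ^ 2) {a b : F}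
    (hab : ∀ z₁ z₂ : F, z₁ ^ 2 + a * z₁ * z₂ + b * z₂ ^ 2 = 0 → z₁ = 0 ∧ z₂ = 0) :
    ∃ L : (Fin 2 → F) ≃ₗ[F] K, L ![1, 0] = 1 ∧
      ∀ z, L z * sig F K (L z) = algebraMap F K (qBin F a b z) := by
  classical
  haveI := Fintype.ofFinite K
  have hfr : Module.finrank F K = 2 := by
    refine Nat.pow_right_injective (Fintype.one_lt_card (α := F)) ?_
    show Fintype.card F ^ Module.finrank F K = Fintype.card F ^ 2
    rw [← Module.card_eq_pow_finrank, ← hK, Nat.card_eq_fintype_card]
  obtain ⟨z, hz⟩ := AutPOmega.exists_root_ext (K := K) hab (by rw [hfr])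
  obtain ⟨h1, h2⟩ := AutPOmega.conj_root hab (s := sig F K) (map_add _) (map_mul _) sig_algebraMap
    (fun x => sig_fix) hz
  let L₀ : (Fin 2 → F) →ₗ[F] K :=
    { toFun := fun v => algebraMap F K (v 0) - z * algebraMap F K (v 1)
      map_add' := fun u v => by simp only [Pi.add_apply, map_add]; ring
      map_smul' := fun c v => by simp only [Pi.smul_apply, smul_eq_mul, map_mul, RingHom.id_apply, Algebra.smul_def]; ring }
  have hN : ∀ v, L₀ v * sig F K (L₀ v) = algebraMap F K (qBin F a b v) := fun v => by
    rw [qBin_apply]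
    show (algebraMap F K (v 0) - z * algebraMap F K (v 1)) * sig F K (algebraMap F K (v 0) - z * algebraMap F K (v 1)) = _
    rw [map_sub, map_mul, sig_algebraMap, sig_algebraMap]
    simp only [map_add, map_mul, map_pow]
    linear_combination (-algebraMap F K (v 0) * algebraMap F K (v 1)) * h1 + algebraMap F K (v 1) ^ 2 * h2
  have hinj : Function.Injective L₀ := by
    rw [injective_iff_map_eq_zero]
    intro v hv
    have h := hN v
    rw [hv, zero_mul, ← map_zero (algebraMap F K)] at h
    exact qBin_aniso hab ((algebraMap F K).injective h).symm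
  have hbij : Function.Bijective L₀ := (Nat.bijective_iff_injective_and_card _).2 ⟨hinj, by
    rw [hK, Nat.card_fun, Nat.card_fin, Nat.card_eq_fintype_card]⟩
  refine ⟨LinearEquiv.ofBijective L₀ hbij, ?_, hN⟩
  show algebraMap F K (![(1 : F), 0] 0) - z * algebraMap F K (![(1 : F), 0] 1) = 1
  simp

/-- A linear retraction onto the ground field. -/
theorem exists_retract : ∃ r : K →ₗ[F] F, ∀ c, r (algebraMap F K c) = c := by
  obtain ⟨r, hr⟩ := (Algebra.linearMap F K).exists_leftInverse_of_injective
    (LinearMap.ker_eq_bot.2 (algebraMap F K).injective)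
  exact ⟨r, fun c => LinearMap.congr_fun hr c⟩

end Cfsg.Agent.OrthLow
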