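/-
Alternating four-by-four matrices fixed by the twisted duality.
-/
import Cfsg.Agent.Lib.Orthogonal.Klein
import Cfsg.Agent.Lib.Orthogonal.QuadExt

set_option autoImplicit false

namespace Cfsg.Agent.OrthLow

open QuadraticMap Cfsg.Agent.Orth Matrix

variable {F : Type*} [Field F] [Fintype F] {K : Type*} [Field K] [Algebra F K] [Fintype K]

local notation "SU4" => Cfsg.SU 4 K (Fintype.card F)
local notation "MK" => Matrix (Fin 4) (Fin 4) K
local notation "I6" => (Fin 2 ⊕ Fin 2) ⊕ Fin 2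
local notation "σ" => sig F K

/-- The fixed points of the twisted duality. -/
def Twisted (M : MK) : Prop := Alt4 M ∧ star4 M = M.map σ

omit [Fintype K] [Algebra F K] [Fintype F] [Field F] in
theorem alt_star4 {M : MK} (_h : Alt4 M) : Alt4 (star4 M) :=
  ⟨fun i => by fin_cases i <;> simp [star4], fun i j => by fin_cases i <;> fin_cases j <;> simp [star4]⟩

omit [Fintype K] [Fintype F] [Algebra F K] [Field F] in
theorem emb6_row (x : Fin 3 ⊕ Fin 3 → K) :
    emb6 x 0 1 = x (.inl 0) ∧ emb6 x 0 2 = x (.inl 1) ∧ emb6 x 0 3 = x (.inl 2) ∧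
      pf (emb6 x) = x (.inl 0) * x (.inr 0) + x (.inl 1) * x (.inr 1) + x (.inl 2) * x (.inr 2) := by
  simp [pf, emb6]

theorem twisted_emb6 (hK : Nat.card K = Fintype.card F ^ 2) (u v w : K) :
    Twisted (F := F) (emb6 (Sum.elim ![u, v, w] ![σ u, σ v, σ w])) := by
  refine ⟨alt_emb6 _, ?_⟩
  ext i j
  fin_cases i <;> fin_cases j <;> simp [star4, emb6, sig_sig hK]

theorem twisted_tau (hK : Nat.card K = Fintype.card F ^ 2) {M : MK} (hM : Alt4 M) (c : K) :
    Twisted (F := F) (c • M + σ c • (star4 M).map σ) := by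
  obtain ⟨hd, hs⟩ := hM
  have hS := alt_star4 (M := M) ⟨hd, hs⟩
  refine ⟨⟨fun i => by simp [hd i, hS.1 i], fun i j => by simp [hs i j, hS.2 i j]; ring⟩, ?_⟩
  ext i j
  fin_cases i <;> fin_cases j <;>
    simp [star4, sig_sig hK, hd 0, hd 1, hd 2, hd 3, hs 0 1, hs 0 2, hs 0 3, hs 1 2, hs 1 3, hs 2 3] <;> ring

end Cfsg.Agent.OrthLow
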