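/-
PΩ⁻_6(q) and PSU_4(q): alternating matrices fixed by the twisted duality.
-/
import Cfsg.Agent.Lib.Orthogonal.KleinStar
import Cfsg.Agent.Lib.Orthogonal.KleinTwist
import Cfsg.Agent.Lib.Orthogonal.QuadExt
import Cfsg.Agent.Lib.Orthogonal.LowFive
import Cfsg.Agent.Lib.Classical.UnitaryStd
import Cfsg.Agent.Lib.Classical.PSL2Subfield
import Cfsg.Agent.S0278
import Cfsg.Agent.S0283

set_option autoImplicit false
set_option linter.style.haveILetI false

namespace Cfsg.Agent.OrthLow

open QuadraticMap Cfsg.Agent.Orth Matrix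

theorem bin_identity {F : Type*} [Field F] {a b x0 x1 y0 y1 s0 s1 : F}
    (h0 : y0 = 2 * s0 + a * s1 + x0 + a * x1) (h1 : y1 = a * s0 + 2 * b * s1 + b * x1) :
    ((s0 + x0) ^ 2 + a * (s0 + x0) * (s1 + x1) + b * (s1 + x1) ^ 2) - (s0 ^ 2 + a * s0 * s1 + b * s1 ^ 2) =
      x0 * y0 + x1 * y1 := by
  subst h0 h1; ring

theorem bin_solve {F : Type*} [Field F] {a b r0 r1 : F} (hD : 4 * b - a ^ 2 ≠ 0) :
    2 * ((2 * b * r0 - a * r1) / (4 * b - a ^ 2)) + a * ((2 * r1 - a * r0) / (4 * b - a ^ 2)) = r0 ∧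
      a * ((2 * b * r0 - a * r1) / (4 * b - a ^ 2)) + 2 * b * ((2 * r1 - a * r0) / (4 * b - a ^ 2)) = r1 := by
  constructor
  · rw [← mul_div_assoc, ← mul_div_assoc, ← add_div, div_eq_iff hD]; ring
  · rw [← mul_div_assoc, ← mul_div_assoc, ← add_div, div_eq_iff hD]; ring

variable {F : Type*} [Field F] [Fintype F] {K : Type*} [Field K] [Algebra F K] [Fintype K]

local notation "SU4" => Cfsg.SU 4 K (Fintype.card F)
local notation "MK" => Matrix (Fin 4) (Fin 4) K
local notation "I6" => (Fin 2 ⊕ Fin 2) ⊕ Fin 2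
local notation "σ" => sig F K

variable (a b : F) (L : (Fin 2 → F) ≃ₗ[F] K) (ν : K)

/-- Solve for the first binary component. -/
def solveMap : (I6 → F) →ₗ[F] (Fin 2 → F) where
  toFun v :=
    ![(2 * b * (v (.inl (.inr 0)) - v (.inl (.inl 0)) - a * v (.inl (.inl 1))) -
        a * (v (.inl (.inr 1)) - b * v (.inl (.inl 1)))) / (4 * b - a ^ 2),
      (2 * (v (.inl (.inr 1)) - b * v (.inl (.inl 1))) -
        a * (v (.inl (.inr 0)) - v (.inl (.inl 0)) - a * v (.inl (.inl 1)))) / (4 * b - a ^ 2)]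
  map_add' u v := by ext i; fin_cases i <;> simp <;> ring
  map_smul' c v := by ext i; fin_cases i <;> simp <;> ring

/-- The first hyperbolic component. -/
def headMap : (I6 → F) →ₗ[F] (Fin 2 → F) := LinearMap.funLeft F F (fun i => Sum.inl (Sum.inl i))

/-- The last component. -/
def tailMap : (I6 → F) →ₗ[F] (Fin 2 → F) := LinearMap.funLeft F F Sum.inr

/-- The three hermitian coordinates. -/
def triMap : (I6 → F) →ₗ[F] (Fin 3 → K) :=
  LinearMap.pi ![L.toLinearMap ∘ₗ (solveMap a b + headMap),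
    LinearMap.mulLeft F ν ∘ₗ L.toLinearMap ∘ₗ solveMap a b, L.toLinearMap ∘ₗ tailMap]

/-- Extend by conjugates. -/
noncomputable def conjExt : (Fin 3 → K) →ₗ[F] (Fin 3 ⊕ Fin 3 → K) where
  toFun t := Sum.elim t fun i => σ (t i)
  map_add' u v := by ext (i | i) <;> simp
  map_smul' c v := by ext (i | i) <;> simp

/-- The embedding into twisted alternating matrices. -/
noncomputable def embMinus : (I6 → F) →ₗ[F] MK :=
  (emb6 (F := K)).restrictScalars F ∘ₗ conjExt ∘ₗ triMap a b L ν

/-- The auxiliary component read off from a matrix. -/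
def readS : MK →ₗ[F] (Fin 2 → F) where
  toFun M := L.symm (ν⁻¹ * M 0 2)
  map_add' u v := by rw [Matrix.add_apply, mul_add, map_add]
  map_smul' c v := by rw [Matrix.smul_apply, mul_smul_comm, map_smul, RingHom.id_apply]

/-- The head component read off from a matrix. -/
def readU : MK →ₗ[F] (Fin 2 → F) where
  toFun M := L.symm (M 0 1) - readS L ν M
  map_add' u v := by rw [Matrix.add_apply, map_add, map_add]; abel
  map_smul' c v := by rw [Matrix.smul_apply, map_smul, map_smul, RingHom.id_apply, smul_sub]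

/-- The back direction of the dual pair of components. -/
def pairBack : (Fin 2 → F) × (Fin 2 → F) →ₗ[F] (Fin 2 → F) where
  toFun p := ![2 * p.1 0 + a * p.1 1 + p.2 0 + a * p.2 1, a * p.1 0 + 2 * b * p.1 1 + b * p.2 1]
  map_add' u v := by ext i; fin_cases i <;> simp <;> ring
  map_smul' c v := by ext i; fin_cases i <;> simp <;> ring

/-- The projection onto coordinates. -/
def projMinus : MK →ₗ[F] (I6 → F) where
  toFun M := Sum.elim (Sum.elim (readU L ν M) (pairBack a b (readS L ν M, readU L ν M))) (L.symm (M 0 3))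
  map_add' u v := by
    simp only [map_add, Matrix.add_apply]
    rw [show (readS L ν u + readS L ν v, readU L ν u + readU L ν v) =
      ((readS L ν u, readU L ν u) : (Fin 2 → F) × (Fin 2 → F)) + (readS L ν v, readU L ν v) from rfl, map_add]
    ext ((i | i) | i) <;> rfl
  map_smul' c v := by
    simp only [map_smul, Matrix.smul_apply, RingHom.id_apply]
    rw [show (c • readS L ν v, c • readU L ν v) =
      c • ((readS L ν v, readU L ν v) : (Fin 2 → F) × (Fin 2 → F)) from rfl, map_smul]
    ext ((i | i) | i) <;> rfl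

variable {a b L ν}

omit [Fintype F] [Fintype K] [Algebra F K] in
theorem solveMap_spec (hD : 4 * b - a ^ 2 ≠ 0) (v : I6 → F) :
    v (.inl (.inr 0)) = 2 * solveMap a b v 0 + a * solveMap a b v 1 + headMap v 0 + a * headMap v 1 ∧
      v (.inl (.inr 1)) = a * solveMap a b v 0 + 2 * b * solveMap a b v 1 + b * headMap v 1 := by
  obtain ⟨h0, h1⟩ := bin_solve (r0 := v (.inl (.inr 0)) - v (.inl (.inl 0)) - a * v (.inl (.inl 1)))
    (r1 := v (.inl (.inr 1)) - b * v (.inl (.inl 1))) hD
  have hT0 : solveMap a b v 0 = (2 * b * (v (.inl (.inr 0)) - v (.inl (.inl 0)) - a * v (.inl (.inl 1))) -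
      a * (v (.inl (.inr 1)) - b * v (.inl (.inl 1)))) / (4 * b - a ^ 2) := rfl
  have hT1 : solveMap a b v 1 = (2 * (v (.inl (.inr 1)) - b * v (.inl (.inl 1))) -
      a * (v (.inl (.inr 0)) - v (.inl (.inl 0)) - a * v (.inl (.inl 1)))) / (4 * b - a ^ 2) := rfl
  rw [← hT0, ← hT1] at h0 h1
  have hX : ∀ i, headMap v i = v (.inl (.inl i)) := fun i => rfl
  rw [hX, hX]
  exact ⟨by linear_combination -h0, by linear_combination -h1⟩

theorem embMinus_row (x : I6 → F) :
    embMinus a b L ν x 0 1 = L (solveMap a b x + headMap x) ∧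
      embMinus a b L ν x 0 2 = ν * L (solveMap a b x) ∧
      embMinus a b L ν x 0 3 = L (tailMap x) ∧
      pf (embMinus a b L ν x) = L (solveMap a b x + headMap x) * σ (L (solveMap a b x + headMap x)) +
        ν * L (solveMap a b x) * σ (ν * L (solveMap a b x)) + L (tailMap x) * σ (L (tailMap x)) :=
  emb6_row (conjExt (triMap a b L ν x))

theorem proj_embMinus (hD : 4 * b - a ^ 2 ≠ 0) (hν0 : ν ≠ 0) (x : I6 → F) :
    projMinus a b L ν (embMinus a b L ν x) = x := by
  obtain ⟨hu, hv, hw, -⟩ := embMinus_row (a := a) (b := b) (L := L) (ν := ν) x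
  have hS : readS L ν (embMinus a b L ν x) = solveMap a b x := by
    show L.symm (ν⁻¹ * embMinus a b L ν x 0 2) = _
    rw [hv, inv_mul_cancel_left₀ hν0, LinearEquiv.symm_apply_apply]
  have hU : readU L ν (embMinus a b L ν x) = headMap x := by
    show L.symm (embMinus a b L ν x 0 1) - readS L ν (embMinus a b L ν x) = _
    rw [hS, hu, LinearEquiv.symm_apply_apply, add_sub_cancel_left]
  show Sum.elim (Sum.elim (readU L ν (embMinus a b L ν x)) (pairBack a b (readS L ν _, readU L ν _)))
    (L.symm (embMinus a b L ν x 0 3)) = x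
  rw [hS, hU, hw, LinearEquiv.symm_apply_apply]
  ext ((i | i) | i)
  · rfl
  · fin_cases i
    · exact (solveMap_spec hD x).1.symm
    · exact (solveMap_spec hD x).2.symm
  · rfl

theorem emb_projMinus (hD : 4 * b - a ^ 2 ≠ 0) (hν0 : ν ≠ 0) {M : MK} (hT : Twisted (F := F) M) :
    embMinus a b L ν (projMinus a b L ν M) = M := by
  obtain ⟨hM, hst⟩ := hT
  have e23 : M 2 3 = σ (M 0 1) := by simpa [star4] using congrFun (congrFun hst 0) 1
  have e13 : -M 1 3 = σ (M 0 2) := by simpa [star4] using congrFun (congrFun hst 0) 2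
  have e12 : M 1 2 = σ (M 0 3) := by simpa [star4] using congrFun (congrFun hst 0) 3
  set S := readS L ν M with hSdef
  set U := readU L ν M with hUdef
  have hT : solveMap a b (projMinus a b L ν M) = S := by
    ext i
    fin_cases i
    · show (2 * b * (2 * S 0 + a * S 1 + U 0 + a * U 1 - U 0 - a * U 1) -
          a * (a * S 0 + 2 * b * S 1 + b * U 1 - b * U 1)) / (4 * b - a ^ 2) = S 0
      rw [div_eq_iff hD]; ring
    · show (2 * (a * S 0 + 2 * b * S 1 + b * U 1 - b * U 1) -
          a * (2 * S 0 + a * S 1 + U 0 + a * U 1 - U 0 - a * U 1)) / (4 * b - a ^ 2) = S 1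
      rw [div_eq_iff hD]; ring
  have h01 : L (solveMap a b (projMinus a b L ν M) + headMap (projMinus a b L ν M)) = M 0 1 := by
    rw [hT, show headMap (projMinus a b L ν M) = L.symm (M 0 1) - S from rfl, add_sub_cancel,
      LinearEquiv.apply_symm_apply]
  have h02 : ν * L (solveMap a b (projMinus a b L ν M)) = M 0 2 := by
    rw [hT]
    show ν * L (L.symm (ν⁻¹ * M 0 2)) = M 0 2
    rw [LinearEquiv.apply_symm_apply, mul_inv_cancel_left₀ hν0]
  have h03 : L (tailMap (projMinus a b L ν M)) = M 0 3 := L.apply_symm_apply _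
  conv_rhs => rw [← emb_proj6 hM]
  show emb6 (conjExt (triMap a b L ν (projMinus a b L ν M))) = emb6 (proj6 M)
  congr 1
  ext (i | i)
  · fin_cases i
    · exact h01
    · exact h02
    · exact h03
  · fin_cases i
    · exact (congrArg σ h01).trans e23.symm
    · exact (congrArg σ h02).trans e13.symm
    · exact (congrArg σ h03).trans e12.symm

theorem twisted_embMinus (hK : Nat.card K = Fintype.card F ^ 2) (x : I6 → F) :
    Twisted (F := F) (embMinus a b L ν x) := by
  have h := twisted_emb6 hK (triMap a b L ν x 0) (triMap a b L ν x 1) (triMap a b L ν x 2)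
  convert h using 2
  show emb6 (conjExt (F := F) (K := K) (triMap a b L ν x)) = _
  congr 1
  ext (i | i) <;> fin_cases i <;> rfl

theorem qMinus_embMinus (hD : 4 * b - a ^ 2 ≠ 0) (hν : ν * σ ν = -1)
    (hN : ∀ z, L z * σ (L z) = algebraMap F K (qBin F a b z)) (x : I6 → F) :
    algebraMap F K (qMinus F 2 a b x) = pf (embMinus a b L ν x) := by
  rw [(embMinus_row x).2.2.2, map_mul σ,
    show ν * L (solveMap a b x) * (σ ν * σ (L (solveMap a b x))) =
      (ν * σ ν) * (L (solveMap a b x) * σ (L (solveMap a b x))) by ring, hν,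
    hN, hN, hN, neg_one_mul, ← sub_eq_add_neg, ← map_sub, ← map_add]
  congr 1
  rw [coe_qMinus, Cfsg.quadFormMinus, Fin.sum_univ_two, qBin_apply, qBin_apply, qBin_apply]
  simp only [Pi.add_apply]
  rw [bin_identity (solveMap_spec hD x).1 (solveMap_spec hD x).2]
  rfl

theorem pomega_six_minus_aux (hK : Nat.card K = Fintype.card F ^ 2) {a b : F}
    (hab : ∀ z₁ z₂ : F, z₁ ^ 2 + a * z₁ * z₂ + b * z₂ ^ 2 = 0 → z₁ = 0 ∧ z₂ = 0) :
    Nonempty (Cfsg.POmega F (⇑(qMinus F 2 a b)) ≃* Cfsg.PSU 4 K (Fintype.card F)) := by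
  classical
  set q := Fintype.card F with hq
  obtain ⟨L, -, hN⟩ := exists_param hK hab
  have hD : 4 * b - a ^ 2 ≠ 0 := fun h => disc_ne hab (by linear_combination -h)
  obtain ⟨zν, hzν⟩ := exists_value (qBin_nondeg hab) (by simp) (-1 : F)
  obtain ⟨ν, hνdef⟩ : ∃ ν, L zν = ν := ⟨_, rfl⟩
  have hν : ν * σ ν = -1 := by rw [← hνdef, hN, hzν, map_neg, map_one]
  have hν0 : ν ≠ 0 := fun h => by rw [h, zero_mul] at hν; exact one_ne_zero (neg_eq_zero.1 hν.symm)
  let emb := embMinus a b L ν
  let proj := projMinus a b L ν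
  have hpe : ∀ x, proj (emb x) = x := proj_embMinus hD hν0
  have htw : ∀ x, Twisted (F := F) (emb x) := twisted_embMinus hK
  have hep : ∀ M : MK, Twisted (F := F) M → emb (proj M) = M := fun M hM => emb_projMinus hD hν0 hM
  have hσr : ∀ x : K, (σ : K →+* K) x = x ^ q := fun x => sig_apply x
  have hinv : ∀ g : SU4, g.1.1ᵀ * g.1.1.map σ = 1 := fun g =>
    (HermSU.mem_SU_iff hσr g.1).1 g.2
  let mat : SU4 →* MK :=
    { toFun := fun g => g.1.1, map_one' := rfl, map_mul' := fun _ _ => rfl }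
  let C : SU4 →* Module.End F MK :=
    { toFun := fun g => (congHom (mat g)).restrictScalars F
      map_one' := by rw [map_one, map_one]; rfl
      map_mul' := fun g h => by rw [map_mul, map_mul]; rfl }
  have hstab : ∀ (g : SU4) M, Twisted (F := F) M → Twisted (F := F) (g.1.1 * M * g.1.1ᵀ) := by
    intro g M ⟨hM, hst⟩
    refine ⟨alt4_conj hM _, ?_⟩
    have h1 := star4_conj hM g.1.1
    rw [g.1.2, one_smul, hst] at h1
    have hl : g.1.1.map σ * g.1.1ᵀ = 1 := mul_eq_one_comm.1 (hinv g)
    have hr' : g.1.1 * (g.1.1.map σ)ᵀ = 1 := by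
      have := congrArg Matrix.transpose hl
      rwa [Matrix.transpose_mul, Matrix.transpose_transpose, Matrix.transpose_one] at this
    calc star4 (g.1.1 * M * g.1.1ᵀ)
        = (g.1.1.map σ * g.1.1ᵀ) * star4 (g.1.1 * M * g.1.1ᵀ) * (g.1.1 * (g.1.1.map σ)ᵀ) := by
          rw [hl, hr', one_mul, mul_one]
      _ = g.1.1.map σ * (g.1.1ᵀ * star4 (g.1.1 * M * g.1.1ᵀ) * g.1.1) * (g.1.1.map σ)ᵀ := by
          simp only [mul_assoc]
      _ = _ := by rw [h1, Matrix.map_mul, Matrix.map_mul, Matrix.transpose_map]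
  have hst' : ∀ (g : SU4) x, emb (proj (C g (emb x))) = C g (emb x) := fun g x =>
    hep _ (hstab g _ (htw x))
  have hQemb : ∀ x, algebraMap F K (qMinus F 2 a b x) = pf (emb x) := qMinus_embMinus hD hν hN
  let ρ : SU4 →* Cfsg.isometryGroup F (⇑(qMinus F 2 a b)) :=
    repHom (qMinus F 2 a b) (coordHom emb proj hpe C hst') fun g x => by
      refine (algebraMap F K).injective ?_
      rw [hQemb, hQemb]
      show pf (emb (proj (C g (emb x)))) = _
      rw [hst']
      show pf (g.1.1 * emb x * g.1.1ᵀ) = _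
      rw [pf_conj (htw x).1, g.1.2, one_mul]
  have hker : ∀ g : SU4, g ∈ ρ.ker ↔ ∃ c : K, c * c = 1 ∧ mat g = c • (1 : MK) := by
    intro g
    rw [mem_ker_coord]
    constructor
    · intro h
      obtain ⟨lam, hlam⟩ : ∃ lam : K, σ lam ≠ lam := by
        by_contra hall
        push Not at hall
        have hsurj : Function.Surjective (algebraMap F K) := fun x => sig_fix (hall x)
        have hle := Nat.card_le_card_of_surjective _ hsurj
        rw [hK, Nat.card_eq_fintype_card, ← hq] at hle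
        have := Fintype.one_lt_card (α := F)
        rw [← hq] at this
        nlinarith
      have hfix : ∀ M : MK, Twisted (F := F) M → g.1.1 * M * g.1.1ᵀ = M := fun M hM => by
        rw [← hep M hM]; exact h _
      refine scalar_of_fix fun M hM => ?_
      show g.1.1 * M * g.1.1ᵀ = M
      set τ : MK := (star4 M).map σ with hτ
      have hττ : ∀ (c : K), Twisted (F := F) (c • M + σ c • τ) := twisted_tau hK hM
      have e1 := hfix _ (hττ lam)
      have e2 := hfix _ (hττ 1)
      rw [map_one, one_smul, one_smul] at e2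
      simp only [mul_add, add_mul, Matrix.mul_smul, Matrix.smul_mul] at e1 e2
      have e : (lam - σ lam) • (g.1.1 * M * g.1.1ᵀ) = (lam - σ lam) • M := by
        rw [sub_smul, sub_smul]
        have e2' := congrArg (fun N => σ lam • N) e2
        simp only [smul_add] at e2'
        linear_combination (norm := abel) e1 - e2'
      exact smul_right_injective MK (sub_ne_zero.2 fun h => hlam h.symm) e
    · rintro ⟨c, hc, hg⟩ x
      exact fix_of_scalar hc hg _
  have hcardK : Fintype.card K = q ^ 2 := by rw [← Nat.card_eq_fintype_card, hK]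
  have hq2 : 2 ≤ q := Fintype.one_lt_card
  obtain ⟨s, -, hsu, -⟩ := UnitaryStd.exists_setup (n := 4) hcardK (by norm_num)
  have hperf : commutator SU4 = ⊤ := by
    rw [eq_top_iff, ← UnitaryStd.closure_eq_top hsu (by norm_num) (fun h => absurd h (by norm_num)),
      Subgroup.closure_le]
    rintro A ⟨v, c, hv, hA⟩
    rw [commutator_eq_closure]
    exact Subgroup.subset_closure (UnitaryStd.mem_commutatorSet hsu (by norm_num) A hv hA)
  haveI := S0283.result (F := K) hcardK 4 (by norm_num) (fun h => absurd h.1 (by norm_num))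
  have hn : 2 ≤ Fintype.card I6 := by simp
  have hne : Fintype.card F ≠ 2 ∨ Fintype.card I6 ≠ 4 := Or.inr (by simp)
  have hsign : ∀ c : K, c * c = 1 → ∃ g : SU4, mat g = c • (1 : MK) := by
    intro c hc
    have hd : (c • (1 : MK)).det = 1 := by
      rw [Matrix.det_smul, Matrix.det_one, mul_one, Fintype.card_fin,
        show c ^ 4 = (c * c) * (c * c) by ring, hc, one_mul]
    refine ⟨⟨⟨c • 1, hd⟩, (HermSU.mem_SU_iff hσr _).2 ?_⟩, rfl⟩
    have hsc : σ c = c := by rcases mul_self_eq_one_iff.1 hc with rfl | rfl <;> simp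
    show (c • (1 : MK))ᵀ * (c • (1 : MK)).map σ = 1
    rw [show (c • (1 : MK)).map σ = c • (1 : MK) by
      ext i j; by_cases hij : i = j <;> simp [hij, hsc],
      Matrix.transpose_smul, Matrix.transpose_one, Matrix.smul_mul, one_mul, smul_smul, hc, one_smul]
  have hcard : Nat.card ρ.range * Nat.card (SpinVal F) = Nat.card (Cfsg.isometryGroup F (⇑(qMinus F 2 a b))) := by
    rw [card_isometryGroup _ rfl, card_oGroup_qMinus hab 2, card_spinVal_eq]
    have h1 := card_range_mul ρ
    rw [card_sign_group (G := SU4) (mat := fun g => mat g) (fun g h e => Subtype.ext (Subtype.ext e)) hker hsign] at h1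
    have hg : Nat.gcd 2 (Nat.card K - 1) = Nat.gcd 2 (Nat.card F - 1) := by
      rw [hK, Nat.card_eq_fintype_card, ← hq]
      have h1 : q ^ 2 % 2 = q % 2 := by rw [Nat.pow_mod]; rcases Nat.mod_two_eq_zero_or_one q with h | h <;> rw [h]
      have := Nat.pow_le_pow_left (show 1 ≤ q by omega) 2
      rw [Nat.gcd_rec, Nat.gcd_rec 2 (q - 1)]
      congr 1
      omega
    rw [hg] at h1
    rw [mul_comm 2 (Nat.gcd _ _), ← mul_assoc, h1, Nat.card_eq_fintype_card (α := F), ← hq]
    refine Nat.eq_of_mul_eq_mul_left (show 0 < q + 1 by omega) ?_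
    rw [← mul_assoc, S0278.result hcardK 4 (by norm_num)]
    simp only [Finset.prod_range_succ, Finset.prod_range_zero, one_mul, show Even 0 from ⟨0, rfl⟩,
      show ¬ Even 1 by decide, show Even 2 from ⟨1, rfl⟩, show ¬ Even 3 by decide, if_true, if_false]
    norm_num
    ring
  refine quot_center_equiv ρ (QuotientGroup.mk' _) (QuotientGroup.mk'_surjective _)
    (center_bot_of_simple (commutator_quot _ hperf)) (QuotientGroup.ker_mk' _).le (fun g hg => ?_)
    (omega_eq_range (qMinus_nondeg hab 2) hn hne _ (range_le_omega_of_perfect _ hperf) hcard)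
  rw [QuotientGroup.ker_mk', Subgroup.mem_center_iff]
  obtain ⟨c, -, hg'⟩ := (hker g).1 hg
  intro y
  refine Subtype.ext (Subtype.ext ?_)
  show y.1.1 * g.1.1 = g.1.1 * y.1.1
  rw [show g.1.1 = c • (1 : MK) from hg', Matrix.mul_smul, mul_one, Matrix.smul_mul, one_mul]

/-- PΩ⁻_6(q) ≅ PSU_4(q). -/
theorem pomega_six_minus {F : Type*} [Field F] [Fintype F] {K : Type*} [Field K] [Fintype K]
    (hK : Nat.card K = Fintype.card F ^ 2) {a b : F}
    (hab : ∀ z₁ z₂ : F, z₁ ^ 2 + a * z₁ * z₂ + b * z₂ ^ 2 = 0 → z₁ = 0 ∧ z₂ = 0) :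
    Nonempty (Cfsg.POmega F (⇑(qMinus F 2 a b)) ≃* Cfsg.PSU 4 K (Fintype.card F)) := by
  obtain ⟨f⟩ := PSL2Field.exists_ringHom (K := F) (F := K) (m := 2) (by rw [hK, Nat.card_eq_fintype_card])
  letI := f.toAlgebra
  exact pomega_six_minus_aux hK hab

end Cfsg.Agent.OrthLow
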