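/-
Totally singular half-dimensional subspaces for sums of squares.
-/
import Cfsg.Agent.Lib.Orthogonal.Frames

set_option autoImplicit false

namespace Cfsg.Agent.Orth

open QuadraticMap Module

variable {F : Type*} [Field F]

/-- The sum of squares. -/
def qSum (F : Type*) [Field F] (ι : Type) [Fintype ι] : QuadraticForm F (ι → F) :=
  ∑ i : ι, linMulLin (LinearMap.proj (R := F) (φ := fun _ => F) i) (LinearMap.proj i)

theorem qSum_apply {ι : Type} [Fintype ι] (v : ι → F) : qSum F ι v = ∑ i, v i ^ 2 := by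
  simp [qSum, _root_.sq]

theorem qSum_nondeg {ι : Type} [Fintype ι] [DecidableEq ι] (h2 : (2 : F) ≠ 0) :
    (polarBilin (qSum F ι)).Nondegenerate ∧ IsFrame (qSum F ι) (fun i => (Pi.single i 1 : ι → F)) := by
  have hp : ∀ x y : ι → F, polar (qSum F ι) x y = 2 * ∑ i, x i * y i := fun x y => by
    simp only [polar, qSum_apply, Pi.add_apply, ← Finset.sum_sub_distrib, Finset.mul_sum]
    exact Finset.sum_congr rfl fun i _ => by ring
  refine ⟨nondeg_of fun x hx => funext fun i => ?_, fun i j hij => ?_, fun i => ?_⟩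
  · have h := hx (Pi.single i 1)
    rw [hp] at h
    simpa [h2, Pi.single_apply] using h
  · rw [hp]; simp [Pi.single_apply, hij.symm]
  · rw [qSum_apply]; simp [Pi.single_apply]

theorem exists_half_singular_iff [Fintype F] (h2 : (2 : F) ≠ 0) (m : ℕ) :
    (∃ W : Submodule F (Fin (2 * m) → F), finrank F W = m ∧ ∀ w ∈ W, ∑ i, w i ^ 2 = 0) ↔
      IsSquare ((-1 : F) ^ m) := by
  classical
  let σ : Fin m ⊕ Fin m ≃ Fin (2 * m) := finSumFinEquiv.trans (finCongr (two_mul m).symm)
  let L : (Fin m ⊕ Fin m → F) ≃ₗ[F] (Fin (2 * m) → F) := LinearEquiv.funCongrLeft F F σ.symm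
  have hL : ∀ v, ∑ i, L v i ^ 2 = ∑ i, v i ^ 2 := fun v => by
    rw [← σ.sum_comp]
    simp [L, LinearMap.funLeft]
  constructor
  · rintro ⟨W, hW, hs⟩
    obtain ⟨hQ, hstd⟩ := qSum_nondeg (F := F) (ι := Fin m ⊕ Fin m) h2
    let W' : Submodule F (Fin m ⊕ Fin m → F) := W.map L.symm.toLinearMap
    have hW' : finrank F W' = m := by
      exact (LinearEquiv.finrank_map_eq L.symm W).trans hW
    obtain ⟨e, he, he1, he2⟩ := frame_of_singular h2 m (qSum F (Fin m ⊕ Fin m)) hQ
      (by rw [Module.finrank_fintype_fun_eq_card]; simp; omega) W' hW' (by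
        rintro x ⟨w, hw, rfl⟩
        rw [qSum_apply, ← hL, show L (L.symm.toLinearMap w) = w from L.apply_symm_apply w]
        exact hs w hw)
    have h := frame_class _ hQ h2 he hstd
    have e1 : ∏ i, qSum F (Fin m ⊕ Fin m) (e i) = (-1) ^ m := by
      rw [Fintype.prod_sum_type]; simp [he1, he2]
    have e2 : ∀ i : Fin m ⊕ Fin m, qSum F (Fin m ⊕ Fin m) (Pi.single i 1) = 1 := fun i => by
      rw [qSum_apply]; simp [Pi.single_apply]
    have e3 : ∏ i, qSum F (Fin m ⊕ Fin m) ((fun i => (Pi.single i 1 : Fin m ⊕ Fin m → F)) i) = 1 :=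
      Finset.prod_eq_one fun i _ => e2 i
    rw [e1, e3, sqc_one, sqc_eq_one_iff (pow_ne_zero _ (neg_ne_zero.2 one_ne_zero))] at h
    exact h
  · intro hsq
    obtain ⟨M, hM⟩ : ∃ M : (Fin m → F) →ₗ[F] (Fin m → F), ∀ x, ∑ i, M x i ^ 2 = -∑ i, x i ^ 2 := by
      rcases Nat.even_or_odd m with hm | hm
      · obtain ⟨k, rfl⟩ := hm
        obtain ⟨a, b, hab⟩ := exists_sum_sq (F := F) h2 one_ne_zero one_ne_zero (-1)
        let τ : Fin k ⊕ Fin k ≃ Fin (k + k) := finSumFinEquiv
        refine ⟨{ toFun := fun x i => Sum.elim (fun j => a * x (τ (.inl j)) + b * x (τ (.inr j)))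
                      (fun j => -b * x (τ (.inl j)) + a * x (τ (.inr j))) (τ.symm i)
                  map_add' := fun x y => funext fun i => by
                    rcases hi : τ.symm i with j | j <;> simp [hi] <;> ring
                  map_smul' := fun c x => funext fun i => by
                    rcases hi : τ.symm i with j | j <;> simp [hi] <;> ring }, fun x => ?_⟩
        rw [← τ.sum_comp, ← τ.sum_comp (fun i => x i ^ 2)]
        simp only [LinearMap.coe_mk, AddHom.coe_mk, Equiv.symm_apply_apply, Fintype.sum_sum_type, Sum.elim_inl,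
          Sum.elim_inr, ← Finset.sum_add_distrib, ← Finset.sum_neg_distrib]
        refine Finset.sum_congr rfl fun j _ => ?_
        linear_combination (x (τ (.inl j)) ^ 2 + x (τ (.inr j)) ^ 2) * hab
      · obtain ⟨i, hi⟩ := hsq
        rw [hm.neg_one_pow] at hi
        refine ⟨i • LinearMap.id, fun x => ?_⟩
        rw [← Finset.sum_neg_distrib]
        refine Finset.sum_congr rfl fun j _ => ?_
        simp only [LinearMap.smul_apply, LinearMap.id_coe, id_eq, Pi.smul_apply, smul_eq_mul]
        linear_combination (-(x j) ^ 2) * hi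
    let Φ : (Fin m → F) →ₗ[F] (Fin (2 * m) → F) :=
      L.toLinearMap.comp
        ({ toFun := fun x => Sum.elim x (M x)
           map_add' := fun x y => funext fun i => by rcases i with i | i <;> simp
           map_smul' := fun c x => funext fun i => by rcases i with i | i <;> simp } :
          (Fin m → F) →ₗ[F] (Fin m ⊕ Fin m → F))
    refine ⟨LinearMap.range Φ, ?_, ?_⟩
    · rw [LinearMap.finrank_range_of_inj, Module.finrank_fin_fun]
      intro x y h
      funext i
      exact congrFun (L.injective h) (Sum.inl i)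
    · rintro _ ⟨x, rfl⟩
      show ∑ i, L (Sum.elim x (M x)) i ^ 2 = 0
      rw [hL, Fintype.sum_sum_type]
      simp only [Sum.elim_inl, Sum.elim_inr, hM]
      ring

end Cfsg.Agent.Orth
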