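/-
PΩ⁺_6(q) and PSL_4(q).
-/
import Cfsg.Agent.Lib.Orthogonal.Klein

set_option autoImplicit false
set_option linter.style.haveILetI false

namespace Cfsg.Agent.OrthLow

open QuadraticMap Cfsg.Agent.Orth Matrix

variable {F : Type*} [Field F]

local notation "S" => Matrix.SpecialLinearGroup (Fin 4) F
local notation "M4" => Matrix (Fin 4) (Fin 4) F
local notation "I6" => Fin 3 ⊕ Fin 3

def slMat : S →* M4 where
  toFun g := g.1
  map_one' := rfl
  map_mul' _ _ := rfl

def congSL : S →* Module.End F M4 := congHom.comp slMat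

def rho6 : S →* Cfsg.isometryGroup F (⇑(qPlus F 3)) :=
  repHom (qPlus F 3)
    (coordHom emb6 proj6 proj_emb6 congSL fun g x => emb_proj6 (alt4_conj (alt_emb6 x) g.1))
    fun g x => by
      rw [qPlus_emb6, qPlus_emb6]
      show pf (emb6 (proj6 (g.1 * emb6 x * g.1ᵀ))) = _
      rw [emb_proj6 (alt4_conj (alt_emb6 x) g.1), pf_conj (alt_emb6 x), g.2, one_mul]

theorem mem_ker_rho6 (g : S) : g ∈ (rho6 (F := F)).ker ↔ ∃ c : F, c * c = 1 ∧ g.1 = c • (1 : M4) := by
  rw [rho6, mem_ker_coord]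
  constructor
  · intro h
    refine scalar_of_fix fun M hM => ?_
    rw [← emb_proj6 hM]
    exact h _
  · rintro ⟨c, hc, hg⟩ x
    exact fix_of_scalar hc hg _

/-- PΩ⁺_6(q) ≅ PSL_4(q). -/
theorem pomega_six_plus [Fintype F] :
    Nonempty (Cfsg.POmega F (⇑(qPlus F 3)) ≃* Matrix.ProjectiveSpecialLinearGroup (Fin 4) F) := by
  have hperf : commutator S = ⊤ := ClassicalSL.isPerfect_sl (by simp)
  have hn : 2 ≤ Fintype.card I6 := by simp
  have hne : Fintype.card F ≠ 2 ∨ Fintype.card I6 ≠ 4 := Or.inr (by simp)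
  have hker : Nat.card (rho6 (F := F)).ker = Nat.gcd 2 (Nat.card F - 1) := by
    refine card_sign_group (mat := fun g : S => g.1) Subtype.val_injective mem_ker_rho6 fun c hc => ?_
    refine ⟨⟨c • 1, ?_⟩, rfl⟩
    rw [Matrix.det_smul, Matrix.det_one, mul_one, Fintype.card_fin,
      show c ^ 4 = (c * c) * (c * c) by ring, hc, one_mul]
  have hcard : Nat.card (rho6 (F := F)).range * Nat.card (SpinVal F) =
      Nat.card (Cfsg.isometryGroup F (⇑(qPlus F 3))) := by
    rw [card_isometryGroup _ rfl, card_oGroup_qPlus 2, card_spinVal_eq]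
    have h1 := card_range_mul (rho6 (F := F))
    rw [hker] at h1
    rw [mul_comm 2 (Nat.gcd _ _), ← mul_assoc, h1]
    have h2 := ClassicalSL.card_sl_mul (ι := Fin 4) (F := F)
    rw [ClassicalSL.card_gl_fin rfl 4, Fin.prod_univ_four] at h2
    have hq := Finite.one_lt_card (α := F)
    refine Nat.eq_of_mul_eq_mul_left (show 0 < Nat.card F - 1 by omega) ?_
    rw [← mul_assoc, h2, Finset.prod_range_succ, Finset.prod_range_one]
    generalize Nat.card F = q
    simp only [Fin.val_zero, Fin.val_one, Fin.val_two, (by decide : ((3 : Fin 4) : ℕ) = 3), Nat.reduceAdd,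
      Nat.reduceMul]
    have e : ∀ n k : ℕ, q ^ (n + k) - q ^ k = q ^ k * (q ^ n - 1) := fun n k => by
      rw [Nat.mul_sub_one, ← pow_add, add_comm k]
    rw [e 4 0, e 3 1, e 2 2, e 1 3]
    ring
  refine quot_center_equiv (rho6 (F := F)) (QuotientGroup.mk' _) (QuotientGroup.mk'_surjective _) center_psl
    (QuotientGroup.ker_mk' _).le (fun g hg => ?_)
    (omega_eq_range (qPlus_nondeg 3) hn hne _ (range_le_omega_of_perfect _ hperf) hcard)
  rw [QuotientGroup.ker_mk', Matrix.SpecialLinearGroup.mem_center_iff]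
  obtain ⟨c, hc, hg'⟩ := (mem_ker_rho6 g).1 hg
  refine ⟨c, by rw [Fintype.card_fin, show c ^ 4 = (c * c) * (c * c) by ring, hc, one_mul], ?_⟩
  rw [hg', Matrix.scalar_apply, ← Matrix.smul_one_eq_diagonal]

end Cfsg.Agent.OrthLow
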