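/-
The representation of SL_2(q^2) on hermitian two-by-two matrices.
-/
import Cfsg.Agent.Lib.Orthogonal.LowDim
import Cfsg.Agent.Lib.Orthogonal.QuadExt
import Cfsg.Agent.Lib.Classical.DicksonProper
import Cfsg.Agent.Lib.Classical.PSL2Subfield

set_option autoImplicit false
set_option linter.style.haveILetI false

namespace Cfsg.Agent.OrthLow

open QuadraticMap Cfsg.Agent.Orth Matrix

variable {F : Type*} [Field F] [Fintype F] {K : Type*} [Field K] [Algebra F K] [Finite K]

local notation "S" => Matrix.SpecialLinearGroup (Fin 2) K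
local notation "MK" => Matrix (Fin 2) (Fin 2) K
local notation "I4" => (Fin 1 ⊕ Fin 1) ⊕ Fin 2
local notation "σ" => sig F K

/-- The congruence action. -/
noncomputable def congAct : S →* Module.End F MK where
  toFun g :=
    { toFun := fun M => g.1 * M * (g.1.map σ)ᵀ
      map_add' := fun u v => by rw [mul_add, add_mul]
      map_smul' := fun c v => by rw [Matrix.mul_smul, Matrix.smul_mul, RingHom.id_apply] }
  map_one' := LinearMap.ext fun M => by simp [Matrix.map_one]
  map_mul' g h := LinearMap.ext fun M => by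
    show (g * h).1 * M * ((g * h).1.map σ)ᵀ = g.1 * (h.1 * M * (h.1.map σ)ᵀ) * (g.1.map σ)ᵀ
    rw [Matrix.SpecialLinearGroup.coe_mul, Matrix.map_mul, Matrix.transpose_mul]
    simp only [mul_assoc]

theorem pomega_four_minus_aux (hK : Nat.card K = Fintype.card F ^ 2) {a b : F}
    (hab : ∀ z₁ z₂ : F, z₁ ^ 2 + a * z₁ * z₂ + b * z₂ ^ 2 = 0 → z₁ = 0 ∧ z₂ = 0) :
    Nonempty (Cfsg.POmega F (⇑(qMinus F 1 a b)) ≃* Matrix.ProjectiveSpecialLinearGroup (Fin 2) K) := by
  classical
  obtain ⟨L, hL1, hN⟩ := exists_param hK hab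
  obtain ⟨r, hr⟩ := exists_retract (F := F) (K := K)
  let emb : (I4 → F) →ₗ[F] MK :=
    { toFun := fun v => !![algebraMap F K (v (.inl (.inl 0))), L (fun i => v (.inr i));
        σ (L fun i => v (.inr i)), -algebraMap F K (v (.inl (.inr 0)))]
      map_add' := fun u v => by
        have : (fun i => (u + v) (.inr i)) = (fun i => u (.inr i)) + fun i => v (.inr i) := rfl
        rw [this, map_add]
        ext i j; fin_cases i <;> fin_cases j <;> simp [add_comm]
      map_smul' := fun c v => by
        have : (fun i => (c • v) (.inr i)) = c • fun i => v (.inr i) := rfl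
        rw [this, map_smul, RingHom.id_apply]
        ext i j; fin_cases i <;> fin_cases j <;> simp [Algebra.smul_def] }
  let proj : MK →ₗ[F] (I4 → F) :=
    { toFun := fun M => Sum.elim (Sum.elim (fun _ => r (M 0 0)) (fun _ => -r (M 1 1))) (L.symm (M 0 1))
      map_add' := fun u v => by ext ((i | i) | i) <;> simp [add_comm]
      map_smul' := fun c v => by ext ((i | i) | i) <;> simp }
  have hpe : ∀ x, proj (emb x) = x := by
    intro x
    ext ((i | i) | i)
    · obtain rfl : i = 0 := Subsingleton.elim _ _; simp [emb, proj, hr]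
    · obtain rfl : i = 0 := Subsingleton.elim _ _; simp [emb, proj, hr]
    · simp [emb, proj]
  have hherm : ∀ x, ((emb x).map σ)ᵀ = emb x := fun x => by
    ext i j; fin_cases i <;> fin_cases j <;> simp [emb, sig_sig hK]
  have hemb : ∀ M : MK, (M.map σ)ᵀ = M → emb (proj M) = M := by
    intro M hM
    have e00 : σ (M 0 0) = M 0 0 := congrFun (congrFun hM 0) 0
    have e11 : σ (M 1 1) = M 1 1 := congrFun (congrFun hM 1) 1
    have e10 : σ (M 0 1) = M 1 0 := congrFun (congrFun hM 1) 0
    obtain ⟨c, hc⟩ := sig_fix e00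
    obtain ⟨d, hd⟩ := sig_fix e11
    ext i j
    fin_cases i <;> fin_cases j <;> simp [emb, proj, e10, ← hc, ← hd, hr]
  have hst : ∀ (g : S) x, emb (proj (congAct (F := F) g (emb x))) = congAct (F := F) g (emb x) := fun g x => by
    refine hemb _ ?_
    show ((g.1 * emb x * (g.1.map σ)ᵀ).map σ)ᵀ = g.1 * emb x * (g.1.map σ)ᵀ
    rw [Matrix.map_mul, Matrix.map_mul, Matrix.transpose_mul, Matrix.transpose_mul, hherm,
      Matrix.transpose_map, Matrix.transpose_transpose, Matrix.map_map,
      show (σ : K → K) ∘ σ = id from funext (sig_sig hK), Matrix.map_id, mul_assoc]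
  have hQemb : ∀ x, algebraMap F K (qMinus F 1 a b x) = -(emb x).det := fun x => by
    rw [coe_qMinus, Cfsg.quadFormMinus, Fin.sum_univ_one, Matrix.det_fin_two]
    simp only [emb, LinearMap.coe_mk, AddHom.coe_mk]
    have h := hN fun i => x (.inr i)
    rw [qBin_apply] at h
    simp only [map_add, map_mul, map_pow] at h ⊢
    simp
    linear_combination -h
  let ρ : S →* Cfsg.isometryGroup F (⇑(qMinus F 1 a b)) :=
    repHom (qMinus F 1 a b) (coordHom emb proj hpe (congAct (F := F)) hst) fun g x => by
      refine (algebraMap F K).injective ?_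
      rw [hQemb, hQemb]
      show -(emb (proj (congAct (F := F) g (emb x)))).det = _
      rw [hst]
      show -(g.1 * emb x * (g.1.map σ)ᵀ).det = _
      rw [Matrix.det_mul, Matrix.det_mul, Matrix.det_transpose, g.2, one_mul,
        show (g.1.map σ).det = σ g.1.det from ((σ : K →+* K).map_det g.1).symm, g.2, map_one, mul_one]
  have hker : ρ.ker = Subgroup.center S := by
    ext g
    rw [mem_ker_coord]
    constructor
    · intro h
      have hM : ∀ M : MK, (M.map σ)ᵀ = M → g.1 * M * (g.1.map σ)ᵀ = M := fun M hM => by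
        rw [← hemb M hM]; exact h _
      have hA := hM !![1, 0; 0, 0] (by ext i j; fin_cases i <;> fin_cases j <;> simp)
      have hB := hM !![0, 0; 0, 1] (by ext i j; fin_cases i <;> fin_cases j <;> simp)
      have hC := hM !![0, 1; 1, 0] (by ext i j; fin_cases i <;> fin_cases j <;> simp)
      have a00 := congrFun (congrFun hA 0) 0
      have a11 := congrFun (congrFun hA 1) 1
      have b00 := congrFun (congrFun hB 0) 0
      have c01 := congrFun (congrFun hC 0) 1
      simp [Matrix.mul_apply, Fin.sum_univ_two] at a00 a11 b00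
      simp [Matrix.mul_apply, Fin.sum_univ_two, a11, b00] at c01
      have hg0 : g.1 0 0 ≠ 0 := fun h => by simp [h] at a00
      have h11 : g.1 1 1 = g.1 0 0 := by
        have e : σ (g.1 1 1) = σ (g.1 0 0) := mul_left_cancel₀ hg0 (c01.trans a00.symm)
        exact (σ : K →+* K).injective e
      have hd := g.2
      rw [Matrix.det_fin_two, b00, a11, h11] at hd
      rw [Matrix.SpecialLinearGroup.mem_center_iff]
      refine ⟨g.1 0 0, by simp [pow_two]; linear_combination hd, ?_⟩
      ext i j; fin_cases i <;> fin_cases j <;> simp [a11, b00, h11]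
    · intro h x
      show g.1 * emb x * (g.1.map σ)ᵀ = emb x
      obtain ⟨c, hc2, hc⟩ := Matrix.SpecialLinearGroup.mem_center_iff.1 h
      have hs : σ c = c := by
        rw [Fintype.card_fin, pow_two] at hc2
        rcases mul_self_eq_one_iff.1 hc2 with rfl | rfl <;> simp
      have hmap : (g.1.map σ)ᵀ = g.1 := by
        rw [← hc]
        ext i j; fin_cases i <;> fin_cases j <;> simp [hs]
      rw [hmap, ← hc, Matrix.scalar_commute c (fun r => Commute.all c r), mul_assoc, ← map_mul, ← pow_two]
      rw [Fintype.card_fin] at hc2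
      rw [hc2, map_one, mul_one]
  haveI := Fintype.ofFinite K
  have hQ := qMinus_nondeg hab 1
  have hn : 2 ≤ Fintype.card I4 := by simp
  have h4K : 4 ≤ Fintype.card K := by
    rw [← Nat.card_eq_fintype_card, hK]
    exact Nat.pow_le_pow_left (Fintype.one_lt_card (α := F)) 2
  have hcard : Nat.card ρ.range * Nat.card (SpinVal F) = Nat.card (Cfsg.isometryGroup F (⇑(qMinus F 1 a b))) := by
    rw [card_isometryGroup _ rfl, card_oGroup_qMinus hab 1, card_spinVal_eq]
    have h1 := card_range_mul ρ
    rw [hker, Dickson.card_center, Dickson.card_sl2_eq, hK] at h1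
    have hg : Nat.gcd 2 (Fintype.card F ^ 2 - 1) = Nat.gcd 2 (Fintype.card F - 1) := by
      have h1 : Fintype.card F ^ 2 % 2 = Fintype.card F % 2 := by rw [Nat.pow_mod]; rcases Nat.mod_two_eq_zero_or_one (Fintype.card F) with h | h <;> rw [h]
      have := Fintype.one_lt_card (α := F)
      have := Nat.pow_le_pow_left (show 1 ≤ Fintype.card F by omega) 2
      rw [Nat.gcd_rec, Nat.gcd_rec 2 (Fintype.card F - 1)]
      congr 1
      omega
    rw [hg] at h1
    rw [Nat.card_eq_fintype_card (α := F), mul_comm 2 (Nat.gcd _ _), ← mul_assoc, h1, Finset.prod_range_one]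
    rw [show (Fintype.card F ^ 2) ^ 2 - 1 = (Fintype.card F ^ 2 - 1) * (Fintype.card F ^ 2 + 1) by
      rw [sub_one_mul_add_one, pow_two (Fintype.card F ^ 2)]]
    norm_num
    ring
  have hperf : commutator S = ⊤ := by
    obtain ⟨c, hc0, hc2⟩ : ∃ c : K, c ≠ 0 ∧ c ^ 2 ≠ 1 := by
      have hlt : ({0, 1, -1} : Finset K).card < (Finset.univ : Finset K).card := by
        rw [Finset.card_univ]
        exact lt_of_le_of_lt Finset.card_le_three (by omega)
      obtain ⟨c, -, hc⟩ := Finset.exists_mem_notMem_of_card_lt_card hlt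
      simp only [Finset.mem_insert, Finset.mem_singleton, not_or] at hc
      refine ⟨c, hc.1, fun h => ?_⟩
      rcases sq_eq_one_iff.1 h with h | h
      exacts [hc.2.1 h, hc.2.2 h]
    exact SL2.commutator_eq_top hc0 hc2
  have hrange : ρ.range = Cfsg.Omega F (⇑(qMinus F 1 a b)) := by
    rcases eq_or_ne (Fintype.card F) 2 with h2 | h2
    · refine omega_eq_range_of_two ρ hperf ?_
      rw [← hcard, card_spinVal_eq, Nat.card_eq_fintype_card (α := F), h2]
      norm_num
    · exact omega_eq_range hQ hn (Or.inl h2) ρ (range_le_omega_of_perfect ρ hperf) hcard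
  exact quot_center_equiv ρ (QuotientGroup.mk' _) (QuotientGroup.mk'_surjective _) center_psl
    (QuotientGroup.ker_mk' _).le (by rw [QuotientGroup.ker_mk', hker]) hrange

/-- PΩ⁻_4(q) ≅ PSL_2(q²). -/
theorem pomega_four_minus {F : Type*} [Field F] [Fintype F] {K : Type*} [Field K] [Finite K]
    (hK : Nat.card K = Fintype.card F ^ 2) {a b : F}
    (hab : ∀ z₁ z₂ : F, z₁ ^ 2 + a * z₁ * z₂ + b * z₂ ^ 2 = 0 → z₁ = 0 ∧ z₂ = 0) :
    Nonempty (Cfsg.POmega F (⇑(qMinus F 1 a b)) ≃* Matrix.ProjectiveSpecialLinearGroup (Fin 2) K) := by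
  obtain ⟨f⟩ := PSL2Field.exists_ringHom (K := F) (F := K) (m := 2) (by rw [hK, Nat.card_eq_fintype_card])
  letI := f.toAlgebra
  exact pomega_four_minus_aux hK hab

end Cfsg.Agent.OrthLow
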