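/-
The two-dimensional orthogonal groups are dihedral.
-/
import Cfsg.Agent.Lib.Orthogonal.Counts
import Cfsg.Agent.Lib.TwoGroups.Lifts
import Mathlib.Algebra.QuadraticAlgebra.Basic
import Mathlib.RingTheory.IntegralDomain

set_option autoImplicit false

namespace Cfsg.Agent.Orth

open QuadraticMap

theorem dihedral_of_card {G : Type*} [Group G] [Finite G] {n : ℕ} {a g : G} (ha : orderOf a = n) (hg : g * g = 1)
    (h : g * a * g⁻¹ = a⁻¹) (hmem : g ∉ Subgroup.zpowers a) (hcard : Nat.card G = 2 * n) :
    Nonempty (G ≃* DihedralGroup n) := by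
  obtain ⟨e⟩ := TwoLift.dihedral_equiv ha hg h hmem (H := Subgroup.closure ({a, g} : Set G)) rfl
  have htop : Subgroup.closure ({a, g} : Set G) = ⊤ :=
    Subgroup.eq_top_of_card_eq _ (by rw [Nat.card_congr e.toEquiv, DihedralGroup.nat_card, hcard])
  exact ⟨(Subgroup.topEquiv.symm.trans (MulEquiv.subgroupCongr htop.symm)).trans e⟩

instance finite_oGroup {F V : Type*} [Field F] [AddCommGroup V] [Module F V] [Finite V]
    (Q : QuadraticForm F V) : Finite (oGroup Q) :=
  Finite.of_injective (fun g => (g.1 : V → V)) fun _ _ h => Subtype.ext (DFunLike.coe_injective h)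

variable (F : Type*) [Field F]

/-- The diagonal isometries of the hyperbolic plane. -/
def torusPlus : Fˣ →* oGroup (qPlus F 1) where
  toFun c := ⟨LinearEquiv.piCongrRight fun x : Fin 1 ⊕ Fin 1 =>
      LinearEquiv.smulOfUnit (Sum.elim (fun _ => c) (fun _ => c⁻¹) x), fun v => by
    simp [qPlus, LinearEquiv.smulOfUnit, Units.smul_def]; field_simp⟩
  map_one' := Subtype.ext (LinearEquiv.ext fun v => funext fun x => by
    cases x <;> simp [LinearEquiv.smulOfUnit])
  map_mul' c d := Subtype.ext (LinearEquiv.ext fun v => funext fun x => by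
    cases x <;> simp [LinearEquiv.smulOfUnit, Units.smul_def] <;> ring)

theorem torusPlus_apply (c : Fˣ) (v : Fin 1 ⊕ Fin 1 → F) (x : Fin 1 ⊕ Fin 1) :
    (torusPlus F c).1 v x = (Sum.elim (fun _ => c) (fun _ => c⁻¹) x : Fˣ) * v x := rfl

/-- GO⁺₂(q) is dihedral. -/
theorem dihedral_plus [Finite F] : Nonempty (oGroup (qPlus F 1) ≃* DihedralGroup (Nat.card F - 1)) := by
  classical
  obtain ⟨u, hu⟩ := IsCyclic.exists_generator (α := Fˣ)
  have hinj : Function.Injective (torusPlus F) := fun c d h => Units.ext (by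
    have h1 := congrArg (fun g : oGroup (qPlus F 1) => g.1 (fun _ => 1) (Sum.inl 0)) h
    simpa [torusPlus_apply] using h1)
  let s : oGroup (qPlus F 1) := ⟨LinearEquiv.funCongrLeft F F (Equiv.sumComm _ _), fun v => by
    simp [qPlus, LinearMap.funLeft, mul_comm]⟩
  have hs : ∀ v x, s.1 v x = v (Sum.swap x) := fun v x => rfl
  have hnat : Nat.card F - 1 = Nat.card Fˣ := by
    rw [Nat.card_congr unitsEquivNeZero, Nat.card_congr (Equiv.optionSubtypeNe (0 : F)).symm,
      Finite.card_option, Nat.add_sub_cancel]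
  refine dihedral_of_card (a := torusPlus F u) (g := s) ?_ ?_ ?_ ?_ ?_
  · rw [orderOf_injective _ hinj, orderOf_eq_card_of_forall_mem_zpowers hu, hnat]
  · exact Subtype.ext (LinearEquiv.ext fun v => funext fun x => by
      show s.1 (s.1 v) x = v x
      rw [hs, hs, Sum.swap_swap])
  · rw [← map_inv, mul_inv_eq_iff_eq_mul]
    refine Subtype.ext (LinearEquiv.ext fun v => funext fun x => ?_)
    show s.1 ((torusPlus F u).1 v) x = (torusPlus F u⁻¹).1 (s.1 v) x
    rw [hs, torusPlus_apply, torusPlus_apply, hs]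
    cases x <;> simp
  · rintro ⟨k, hk⟩
    have h1 := congrArg (fun g : oGroup (qPlus F 1) => g.1 (Pi.single (Sum.inl 0) 1) (Sum.inr 0)) hk
    simp only [← map_zpow, torusPlus_apply, hs] at h1
    simp at h1
  · rw [card_oGroup_qPlus 0]; simp

variable {F}

/-- GO⁻₂(q) is dihedral. -/
theorem dihedral_minus [Finite F] {a b : F}
    (hab : ∀ z₁ z₂ : F, z₁ ^ 2 + a * z₁ * z₂ + b * z₂ ^ 2 = 0 → z₁ = 0 ∧ z₂ = 0) :
    Nonempty (oGroup (qBin F a b) ≃* DihedralGroup (Nat.card F + 1)) := by
  classical
  haveI : Fact (∀ r : F, r ^ 2 ≠ -b + a * r) :=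
    ⟨fun r h => one_ne_zero (α := F) (neg_eq_zero.1 (hab r (-1) (by linear_combination h)).2)⟩
  let K := QuadraticAlgebra F (-b) a
  let e : (Fin 2 → F) ≃ₗ[F] K :=
    { toFun := fun v => ⟨v 0, v 1⟩
      map_add' := fun _ _ => rfl
      map_smul' := fun _ _ => rfl
      invFun := fun z => ![z.re, z.im]
      left_inv := fun v => by funext i; fin_cases i <;> rfl
      right_inv := fun _ => rfl }
  haveI : Finite K := Finite.of_equiv _ e.toEquiv
  have hQ : ∀ v, qBin F a b v = QuadraticAlgebra.norm (e v) := fun v => by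
    rw [qBin_apply, QuadraticAlgebra.norm_def]
    show _ = v 0 * v 0 + a * v 0 * v 1 - -b * v 1 * v 1
    ring
  let N : Subgroup Kˣ := (Units.map (QuadraticAlgebra.norm : K →* F)).ker
  have hN : ∀ z : N, QuadraticAlgebra.norm ((z : Kˣ) : K) = 1 := fun z => congrArg Units.val z.2
  haveI : IsCyclic N := inferInstance
  let T : N →* oGroup (qBin F a b) :=
    { toFun := fun z => ⟨(e.trans 
          { toFun := fun x => ((z : Kˣ) : K) * x
            invFun := fun x => (((z : Kˣ)⁻¹ : Kˣ) : K) * x
            map_add' := fun x y => mul_add _ x y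
            map_smul' := fun c x => mul_smul_comm c _ x
            left_inv := fun x => Units.inv_mul_cancel_left (z : Kˣ) x
            right_inv := fun x => Units.mul_inv_cancel_left (z : Kˣ) x }).trans e.symm, fun v => by
        rw [hQ, hQ]
        show QuadraticAlgebra.norm (e (e.symm (((z : Kˣ) : K) * e v))) = _
        rw [e.apply_symm_apply, map_mul, hN, one_mul]⟩
      map_one' := Subtype.ext (LinearEquiv.ext fun v => by
        show e.symm (((1 : Kˣ) : K) * e v) = v
        rw [Units.val_one, one_mul, e.symm_apply_apply])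
      map_mul' := fun z w => Subtype.ext (LinearEquiv.ext fun v => by
        show e.symm (((z * w : N) : Kˣ) * e v) = e.symm (((z : Kˣ) : K) * e (e.symm (((w : Kˣ) : K) * e v)))
        rw [e.apply_symm_apply, Subgroup.coe_mul, Units.val_mul, mul_assoc]) }
  have hT : ∀ (z : N) v, (T z).1 v = e.symm (((z : Kˣ) : K) * e v) := fun _ _ => rfl
  obtain ⟨u, hu⟩ := IsCyclic.exists_generator (α := N)
  have hinj : Function.Injective T := fun z w h => Subtype.ext (Units.ext (by
    have h1 := congrArg (fun g : oGroup (qBin F a b) => e (g.1 (e.symm 1))) h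
    simp only [hT, LinearEquiv.apply_symm_apply, mul_one] at h1
    exact h1))
  have hcardN : Nat.card N = Nat.card F + 1 := by
    rw [← card_norm_one hab]
    refine Nat.card_congr
      { toFun := fun z => ⟨e.symm ((z : Kˣ) : K), by rw [hQ, e.apply_symm_apply]; exact hN z⟩
        invFun := fun v => ⟨Units.mk0 (e v.1) (fun h => zero_ne_one (α := F) (by
          rw [← v.2, hQ, h, QuadraticAlgebra.norm_zero])), Units.ext (by simp [← hQ, v.2])⟩
        left_inv := fun z => Subtype.ext (Units.ext (e.apply_symm_apply _))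
        right_inv := fun v => Subtype.ext (e.symm_apply_apply _) }
  let S : K →ₗ[F] K :=
    { toFun := star
      map_add' := fun x y => star_add x y
      map_smul' := fun c x => QuadraticAlgebra.ext (show c * x.re + a * (c * x.im) = c * (x.re + a * x.im) by ring)
        (show -(c * x.im) = c * -x.im by ring) }
  have hS : Function.Involutive S := fun x => star_star x
  let s : oGroup (qBin F a b) := ⟨(e.trans (LinearEquiv.ofInvolutive S hS)).trans e.symm, fun v => by
    rw [hQ, hQ]
    show QuadraticAlgebra.norm (e (e.symm (star (e v)))) = _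
    rw [e.apply_symm_apply, QuadraticAlgebra.norm_star]⟩
  have hs : ∀ v, s.1 v = e.symm (star (e v)) := fun _ => rfl
  refine dihedral_of_card (a := T u) (g := s) ?_ ?_ ?_ ?_ ?_
  · rw [orderOf_injective _ hinj, orderOf_eq_card_of_forall_mem_zpowers hu, hcardN]
  · exact Subtype.ext (LinearEquiv.ext fun v => by
      show s.1 (s.1 v) = v
      rw [hs, hs, e.apply_symm_apply, star_star, e.symm_apply_apply])
  · rw [← map_inv, mul_inv_eq_iff_eq_mul]
    refine Subtype.ext (LinearEquiv.ext fun v => ?_)
    show s.1 ((T u).1 v) = (T u⁻¹).1 (s.1 v)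
    rw [hs, hT, e.apply_symm_apply, hT, hs, e.apply_symm_apply, star_mul']
    congr 2
    have h1 := QuadraticAlgebra.algebraMap_norm_eq_mul_star ((u : Kˣ) : K)
    rw [hN u, map_one] at h1
    rw [Subgroup.coe_inv, Units.val_inv_eq_inv_val]
    exact eq_inv_of_mul_eq_one_right h1.symm
  · rintro ⟨k, hk⟩
    have hk' : T (u ^ k) = s := by rw [map_zpow]; exact hk
    have h1 : ∀ x : K, ((u ^ k : N) : Kˣ) * x = star x := fun x => by
      have h := congrArg (fun g : oGroup (qBin F a b) => e (g.1 (e.symm x))) hk'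
      simpa only [hT, hs, LinearEquiv.apply_symm_apply] using h
    have h2 := h1 1
    rw [star_one, mul_one] at h2
    have h3 := h1 ⟨0, 1⟩
    rw [h2, one_mul] at h3
    have hre : (0 : F) = 0 + a * 1 := congrArg QuadraticAlgebra.re h3
    have him : (1 : F) = -1 := congrArg QuadraticAlgebra.im h3
    exact disc_ne hab (by linear_combination (-a) * hre - 2 * b * him)
  · rw [card_oGroup_bin hab]

end Cfsg.Agent.Orth
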