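/-
The four-dimensional representation of SL_2 × SL_2.
-/
import Cfsg.Agent.Lib.Orthogonal.LowDim
import Cfsg.Agent.Lib.Classical.DicksonProper

set_option autoImplicit false

namespace Cfsg.Agent.OrthLow

open QuadraticMap Cfsg.Agent.Orth Matrix

variable {F : Type*} [Field F]

local notation "SL2" => Matrix.SpecialLinearGroup (Fin 2) F
local notation "M2" => Matrix (Fin 2) (Fin 2) F
local notation "I4" => Fin 2 ⊕ Fin 2

def emb4 : (I4 → F) →ₗ[F] M2 where
  toFun v := !![v (.inl 0), v (.inl 1); -v (.inr 1), v (.inr 0)]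
  map_add' u v := by ext i j; fin_cases i <;> fin_cases j <;> simp [add_comm]
  map_smul' c v := by ext i j; fin_cases i <;> fin_cases j <;> simp

def proj4 : M2 →ₗ[F] (I4 → F) where
  toFun M := Sum.elim ![M 0 0, M 0 1] ![M 1 1, -M 1 0]
  map_add' u v := by ext (i | i) <;> fin_cases i <;> simp [add_comm]
  map_smul' c v := by ext (i | i) <;> fin_cases i <;> simp

theorem proj_emb4 (x : I4 → F) : proj4 (emb4 x) = x := by
  ext (i | i) <;> fin_cases i <;> simp [emb4, proj4]

theorem emb_proj4 (M : M2) : emb4 (proj4 M) = M := by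
  ext i j; fin_cases i <;> fin_cases j <;> simp [emb4, proj4]

/-- Left and right multiplication on two-by-two matrices. -/
def biMul : SL2 × SL2 →* Module.End F M2 where
  toFun g :=
    { toFun := fun M => g.1.1 * M * g.2⁻¹.1
      map_add' := fun u v => by rw [mul_add, add_mul]
      map_smul' := fun c v => by rw [Matrix.mul_smul, Matrix.smul_mul, RingHom.id_apply] }
  map_one' := LinearMap.ext fun M => by simp
  map_mul' g h := LinearMap.ext fun M => by
    show (g * h).1.1 * M * (g * h).2⁻¹.1 = g.1.1 * (h.1.1 * M * h.2⁻¹.1) * g.2⁻¹.1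
    rw [Prod.fst_mul, Prod.snd_mul, _root_.mul_inv_rev, Matrix.SpecialLinearGroup.coe_mul, Matrix.SpecialLinearGroup.coe_mul]
    simp only [mul_assoc]

theorem qPlus_emb4 (x : I4 → F) : qPlus F 2 x = (emb4 x).det := by
  rw [coe_qPlus, Cfsg.quadFormPlus, Fin.sum_univ_two, emb4, Matrix.det_fin_two]
  simp

/-- The representation of `SL_2 × SL_2` on the two-by-two matrices. -/
def rho4 : SL2 × SL2 →* Cfsg.isometryGroup F (⇑(qPlus F 2)) :=
  repHom (qPlus F 2) (coordHom emb4 proj4 proj_emb4 biMul fun _ _ => emb_proj4 _) fun g x => by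
    rw [qPlus_emb4, qPlus_emb4]
    show (emb4 (proj4 (biMul g (emb4 x)))).det = _
    rw [emb_proj4]
    show (g.1.1 * emb4 x * g.2⁻¹.1).det = _
    rw [Matrix.det_mul, Matrix.det_mul, g.1.2, g.2⁻¹.2, one_mul, mul_one]

theorem ker_rho4 : (rho4 (F := F)).ker =
    (Subgroup.center SL2).map ((MonoidHom.id SL2).prod (MonoidHom.id SL2)) := by
  ext g
  rw [rho4, mem_ker_coord]
  constructor
  · intro h
    have hM : ∀ M : M2, g.1.1 * M * g.2⁻¹.1 = M := fun M => by
      rw [← emb_proj4 M]; exact h _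
    have h1 := hM 1
    rw [mul_one, ← Matrix.SpecialLinearGroup.coe_mul, ← Matrix.SpecialLinearGroup.coe_one] at h1
    have h12 : g.1 = g.2 := mul_inv_eq_one.1 (Subtype.ext h1)
    have key : ∀ M : M2, g.1.1 * M = M * g.1.1 := fun M => by
      conv_rhs => rw [← hM M]
      rw [← h12, mul_assoc, ← Matrix.SpecialLinearGroup.coe_mul, inv_mul_cancel,
        Matrix.SpecialLinearGroup.coe_one, mul_one]
    refine ⟨g.1, Subgroup.mem_center_iff.2 fun y => Subtype.ext ?_, Prod.ext rfl h12⟩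
    rw [Matrix.SpecialLinearGroup.coe_mul, Matrix.SpecialLinearGroup.coe_mul]
    exact (key y.1).symm
  · rintro ⟨z, hz, rfl⟩ x
    show z.1 * emb4 x * z⁻¹.1 = emb4 x
    obtain ⟨c, -, hc⟩ := Matrix.SpecialLinearGroup.mem_center_iff.1 hz
    rw [← hc, Matrix.scalar_commute c (fun r => Commute.all c r), mul_assoc, hc,
      ← Matrix.SpecialLinearGroup.coe_mul, mul_inv_cancel, Matrix.SpecialLinearGroup.coe_one, mul_one]

/-- PΩ⁺_4(q) ≅ PSL_2(q) × PSL_2(q). -/
theorem pomega_four_plus [Fintype F] (h3 : 3 ≤ Fintype.card F) :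
    Nonempty (Cfsg.POmega F (⇑(qPlus F 2)) ≃*
      Matrix.ProjectiveSpecialLinearGroup (Fin 2) F × Matrix.ProjectiveSpecialLinearGroup (Fin 2) F) := by
  have hQ := qPlus_nondeg (F := F) 2
  have hn : 2 ≤ Fintype.card I4 := by simp
  have hne : Fintype.card F ≠ 2 ∨ Fintype.card I4 ≠ 4 := Or.inl (by omega)
  have hle : (rho4 (F := F)).range ≤ Cfsg.Omega F (⇑(qPlus F 2)) := by
    rintro _ ⟨g, rfl⟩
    have e : g = (g.1, 1) * (1, g.2) := by simp
    rw [e, map_mul]
    exact mul_mem (sl2_le_omega hQ hn hne h3 ((rho4 (F := F)).comp (MonoidHom.inl _ _)) ⟨g.1, rfl⟩)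
      (sl2_le_omega hQ hn hne h3 ((rho4 (F := F)).comp (MonoidHom.inr _ _)) ⟨g.2, rfl⟩)
  have hcard : Nat.card (rho4 (F := F)).range * Nat.card (SpinVal F) =
      Nat.card (Cfsg.isometryGroup F (⇑(qPlus F 2))) := by
    rw [card_isometryGroup _ rfl, card_oGroup_qPlus 1, card_spinVal_eq]
    have h1 := card_range_mul (rho4 (F := F))
    rw [ker_rho4, Subgroup.card_map_of_injective (f := (MonoidHom.id (Matrix.SpecialLinearGroup (Fin 2) F)).prod (MonoidHom.id _))
      (fun a b h => congrArg Prod.fst h),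
      Dickson.card_center, Nat.card_prod, Dickson.card_sl2_eq] at h1
    rw [mul_comm 2 (Nat.gcd _ _), ← mul_assoc, h1, Finset.prod_range_one]
    norm_num
    ring
  refine quot_center_equiv (rho4 (F := F))
    (MonoidHom.prodMap (QuotientGroup.mk' _) (QuotientGroup.mk' _))
    ((QuotientGroup.mk'_surjective _).prodMap (QuotientGroup.mk'_surjective _))
    (center_prod center_psl center_psl) ?_ ?_ (omega_eq_range hQ hn hne _ hle hcard)
  · intro g hg
    rw [MonoidHom.ker_prodMap, QuotientGroup.ker_mk', Subgroup.mem_prod] at hg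
    exact Subgroup.mem_center_iff.2 fun y =>
      Prod.ext (Subgroup.mem_center_iff.1 hg.1 y.1) (Subgroup.mem_center_iff.1 hg.2 y.2)
  · rw [ker_rho4, MonoidHom.ker_prodMap, QuotientGroup.ker_mk']
    rintro _ ⟨z, hz, rfl⟩
    exact ⟨hz, hz⟩

end Cfsg.Agent.OrthLow
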