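/-
The three-dimensional representation of SL_2.
-/
import Cfsg.Agent.Lib.Orthogonal.LowDim
import Cfsg.Agent.Lib.Classical.DicksonProper

set_option autoImplicit false

namespace Cfsg.Agent.OrthLow

open QuadraticMap Cfsg.Agent.Orth Matrix

variable {F : Type*} [Field F]

local notation "SL2" => Matrix.SpecialLinearGroup (Fin 2) F
local notation "M2" => Matrix (Fin 2) (Fin 2) F
local notation "I3" => Unit ⊕ (Fin 1 ⊕ Fin 1)

def emb3 : (I3 → F) →ₗ[F] M2 where
  toFun v := !![v (.inl ()), v (.inr (.inl 0)); v (.inr (.inr 0)), -v (.inl ())]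
  map_add' u v := by ext i j; fin_cases i <;> fin_cases j <;> simp [add_comm]
  map_smul' c v := by ext i j; fin_cases i <;> fin_cases j <;> simp

def proj3 : M2 →ₗ[F] (I3 → F) where
  toFun M := Sum.elim (fun _ => M 0 0) (Sum.elim (fun _ => M 0 1) (fun _ => M 1 0))
  map_add' u v := by ext (i | i | i) <;> rfl
  map_smul' c v := by ext (i | i | i) <;> rfl

theorem proj_emb3 (x : I3 → F) : proj3 (emb3 x) = x := by
  ext (i | i | i)
  · rfl
  · obtain rfl : i = 0 := Subsingleton.elim _ _; rfl
  · obtain rfl : i = 0 := Subsingleton.elim _ _; rfl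

theorem emb_proj3 {M : M2} (h : M.trace = 0) : emb3 (proj3 M) = M := by
  rw [Matrix.trace_fin_two] at h
  ext i j; fin_cases i <;> fin_cases j <;> simp [emb3, proj3]
  linear_combination -h

theorem trace_emb3 (x : I3 → F) : (emb3 x).trace = 0 := by simp [emb3, Matrix.trace_fin_two]

/-- Conjugation on two-by-two matrices. -/
def conj2 : SL2 →* Module.End F M2 where
  toFun g :=
    { toFun := fun M => g.1 * M * g⁻¹.1
      map_add' := fun u v => by rw [mul_add, add_mul]
      map_smul' := fun c v => by rw [Matrix.mul_smul, Matrix.smul_mul, RingHom.id_apply] }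
  map_one' := LinearMap.ext fun M => by simp
  map_mul' g h := LinearMap.ext fun M => by
    show (g * h).1 * M * (g * h)⁻¹.1 = g.1 * (h.1 * M * h⁻¹.1) * g⁻¹.1
    rw [_root_.mul_inv_rev, Matrix.SpecialLinearGroup.coe_mul, Matrix.SpecialLinearGroup.coe_mul]
    simp only [mul_assoc]

theorem trace_conj2 (g : SL2) (M : M2) : (conj2 g M).trace = M.trace := by
  show (g.1 * M * g⁻¹.1).trace = _
  rw [Matrix.trace_mul_comm, ← mul_assoc, ← Matrix.SpecialLinearGroup.coe_mul, inv_mul_cancel,
    Matrix.SpecialLinearGroup.coe_one, one_mul]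

theorem stable3 (g : SL2) (x : I3 → F) : emb3 (proj3 (conj2 g (emb3 x))) = conj2 g (emb3 x) :=
  emb_proj3 (by rw [trace_conj2, trace_emb3])

theorem qOdd_emb3 (x : I3 → F) : qOdd F 1 x = -(emb3 x).det := by
  rw [coe_qOdd, Cfsg.quadFormOdd, Fin.sum_univ_one, emb3, Matrix.det_fin_two]
  simp; ring

/-- The adjoint representation. -/
def rho3 : SL2 →* Cfsg.isometryGroup F (⇑(qOdd F 1)) :=
  repHom (qOdd F 1) (coordHom emb3 proj3 proj_emb3 conj2 stable3) fun g x => by
    rw [qOdd_emb3, qOdd_emb3]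
    show -(emb3 (proj3 (conj2 g (emb3 x)))).det = _
    rw [stable3]
    show -(g.1 * emb3 x * g⁻¹.1).det = _
    rw [Matrix.det_mul, Matrix.det_mul, g.2, g⁻¹.2, one_mul, mul_one]

theorem ker_rho3 : (rho3 (F := F)).ker = Subgroup.center SL2 := by
  ext g
  rw [rho3, mem_ker_coord]
  constructor
  · intro h
    have key : ∀ x : I3 → F, g.1 * emb3 x = emb3 x * g.1 := fun x => by
      have h1 : g.1 * emb3 x * g⁻¹.1 = emb3 x := h x
      conv_rhs => rw [← h1]
      rw [mul_assoc, ← Matrix.SpecialLinearGroup.coe_mul, inv_mul_cancel, Matrix.SpecialLinearGroup.coe_one, mul_one]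
    have ha := key (Sum.elim (fun _ => 0) (Sum.elim (fun _ => 1) fun _ => 0))
    have hb := key (Sum.elim (fun _ => 0) (Sum.elim (fun _ => 0) fun _ => 1))
    have a00 := congrFun (congrFun ha 0) 0
    have a01 := congrFun (congrFun ha 0) 1
    have b00 := congrFun (congrFun hb 0) 0
    simp [emb3, Matrix.mul_apply, Fin.sum_univ_two] at a00 a01 b00
    have hd := g.2
    rw [Matrix.det_fin_two, ← a00, ← a01, b00] at hd
    rw [Matrix.SpecialLinearGroup.mem_center_iff]
    refine ⟨g.1 0 0, by simp [pow_two]; simpa using hd, ?_⟩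
    ext i j; fin_cases i <;> fin_cases j <;> simp [← a00, ← a01, b00]
  · intro h x
    show g.1 * emb3 x * g⁻¹.1 = emb3 x
    obtain ⟨c, -, hc⟩ := Matrix.SpecialLinearGroup.mem_center_iff.1 h
    rw [← hc, Matrix.scalar_commute c (fun r => Commute.all c r), mul_assoc, hc,
      ← Matrix.SpecialLinearGroup.coe_mul, mul_inv_cancel, Matrix.SpecialLinearGroup.coe_one, mul_one]

/-- PΩ_3(q) ≅ PSL_2(q). -/
theorem pomega_three [Fintype F] (hodd : Odd (Fintype.card F)) :
    Nonempty (Cfsg.POmega F (⇑(qOdd F 1)) ≃* Matrix.ProjectiveSpecialLinearGroup (Fin 2) F) := by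
  have h2 : (2 : F) ≠ 0 := fun h => by
    haveI : CharP F 2 := (CharP.charP_iff_prime_eq_zero Nat.prime_two).2 (by exact_mod_cast h)
    have := FiniteField.even_card_of_char_two (F := F) (ringChar.eq F 2)
    have := Nat.odd_iff.1 hodd
    omega
  have hQ := qOdd_nondeg (F := F) h2 1
  have hn : 2 ≤ Fintype.card I3 := by simp
  have hne : Fintype.card F ≠ 2 ∨ Fintype.card I3 ≠ 4 := Or.inr (by simp)
  have hle := sl2_le_omega hQ hn hne (K := F) (by
    have := Fintype.one_lt_card (α := F)
    have := Nat.odd_iff.1 hodd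
    omega) (rho3 (F := F))
  have hcard : Nat.card (rho3 (F := F)).range * Nat.card (SpinVal F) = Nat.card (Cfsg.isometryGroup F (⇑(qOdd F 1))) := by
    rw [card_isometryGroup _ rfl, card_oGroup_qOdd h2, (card_spinVal).1 h2]
    have h1 := card_range_mul (rho3 (F := F))
    rw [ker_rho3, Dickson.card_center, Dickson.card_sl2_eq, Nat.gcd_eq_left
      (show 2 ∣ Nat.card F - 1 by rw [Nat.card_eq_fintype_card]; have := Nat.odd_iff.1 hodd; omega)] at h1
    simp only [Finset.prod_range_one, one_pow, pow_one, mul_one, zero_add]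
    rw [mul_assoc 2 (Nat.card F), ← h1]; ring
  exact quot_center_equiv (rho3 (F := F)) (QuotientGroup.mk' _) (QuotientGroup.mk'_surjective _) center_psl
    (QuotientGroup.ker_mk' _).le (by rw [QuotientGroup.ker_mk', ker_rho3])
    (omega_eq_range hQ hn hne _ hle hcard)

end Cfsg.Agent.OrthLow
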