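/-
Two Sylow 2-subgroups of the orthogonal group of plus type over the field with two elements meet non-trivially.
-/
import Cfsg.Agent.Lib.Orthogonal.Counts
import Cfsg.Agent.Lib.Orthogonal.Matrix
import Cfsg.Agent.Lib.Orthogonal.MaxSingular
import Mathlib.GroupTheory.Sylow

set_option autoImplicit false

namespace Cfsg.Agent.OrthSylTwo

open QuadraticMap Module Cfsg.Agent.Orth
open scoped Pointwise

variable {F : Type*} [Field F] [Fintype F] {ι : Type} [Fintype ι] [DecidableEq ι] {Q : QuadraticForm F (ι → F)}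

/-- The pointwise stabiliser of a subspace. -/
def fixer (Q : QuadraticForm F (ι → F)) (A : Submodule F (ι → F)) : Subgroup (Cfsg.isometryGroup F (⇑Q)) where
  carrier := {g | ∀ a ∈ A, (isoEquiv Q g).1 a = a}
  one_mem' a _ := by simp
  mul_mem' {g h} hg hh a ha := by
    show (isoEquiv Q (g * h)).1 a = a
    rw [map_mul, Subgroup.coe_mul, LinearEquiv.mul_apply, hh a ha, hg a ha]
  inv_mem' {g} hg a ha := by
    show (isoEquiv Q g⁻¹).1 a = a
    rw [map_inv, Subgroup.coe_inv]
    exact (LinearEquiv.symm_apply_eq _).2 (hg a ha).symm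

omit [Fintype F] in
theorem fixer_conj (c : Cfsg.isometryGroup F (⇑Q)) (A : Submodule F (ι → F)) :
    fixer Q (A.map ((isoEquiv Q c).1 : (ι → F) →ₗ[F] (ι → F))) ≤ MulAut.conj c • fixer Q A := by
  intro g hg
  rw [Subgroup.mem_pointwise_smul_iff_inv_smul_mem, MulAut.smul_def, MulAut.inv_apply, MulAut.conj_symm_apply]
  intro a ha
  simp only [map_mul, map_inv, Subgroup.coe_mul, Subgroup.coe_inv, LinearEquiv.mul_apply]
  have h : (isoEquiv Q g).1 ((isoEquiv Q c).1 a) = (isoEquiv Q c).1 a := hg _ ⟨a, ha, rfl⟩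
  rw [h]
  exact (isoEquiv Q c).1.symm_apply_apply a

theorem exists_ne_one (hF : Fintype.card F = 2) (hQ : (polarBilin Q).Nondegenerate) (A B : Submodule F (ι → F))
    (hd : finrank F A + finrank F B + 2 ≤ Fintype.card ι) :
    ∃ g, g ≠ 1 ∧ g ∈ fixer Q A ∧ g ∈ fixer Q B := by
  classical
  let S := perp Q (A ⊔ B)
  have hS : 2 ≤ finrank F S := by
    have h := finrank_perp_eq hQ (A ⊔ B)
    have h' := Submodule.finrank_add_le_finrank_add_finrank A B
    rw [Module.finrank_fintype_fun_eq_card] at h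
    show 2 ≤ finrank F (perp Q (A ⊔ B))
    omega
  have fin : ∀ e ∈ oGroup Q, (∃ x, e x ≠ x) → (∀ a, (∀ s ∈ S, polar Q a s = 0) → e a = a) →
      ∃ g, g ≠ 1 ∧ g ∈ fixer Q A ∧ g ∈ fixer Q B := by
    rintro e he ⟨x, hx⟩ hfix
    refine ⟨(isoEquiv Q).symm ⟨e, he⟩, fun h => hx ?_, fun a ha => ?_, fun a ha => ?_⟩
    · have h1 := congrArg (isoEquiv Q) h
      rw [MulEquiv.apply_symm_apply, map_one] at h1
      rw [show e = 1 from congrArg Subtype.val h1]
      rfl
    · rw [MulEquiv.apply_symm_apply]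
      exact hfix a fun s hs => hs a (Submodule.mem_sup_left ha)
    · rw [MulEquiv.apply_symm_apply]
      exact hfix a fun s hs => hs a (Submodule.mem_sup_right ha)
  by_cases hsing : ∃ a ∈ S, Q a ≠ 0
  · obtain ⟨a, haS, ha⟩ := hsing
    obtain ⟨r, hr, hrr⟩ := exists_isRefl ha
    obtain ⟨x, hx⟩ : ∃ x, polar Q x a ≠ 0 := by
      by_contra h
      push Not at h
      exact ha (by rw [eq_zero_of_b hQ fun y => (b_comm a y).trans (h y), map_zero])
    refine fin r hr ⟨x, fun e => ?_⟩ fun b hb => hrr.fix (hb a haS)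
    rw [hrr.2, sub_eq_self, smul_eq_zero] at e
    exact e.elim (fun e => (div_ne_zero hx ha) e) fun e => ha (by rw [e, map_zero])
  · push Not at hsing
    obtain ⟨u, hu, hu0⟩ := Submodule.exists_mem_ne_zero_of_ne_bot (show S ≠ ⊥ from fun h => by
      rw [h, finrank_bot] at hS; omega)
    obtain ⟨y, hy, hyu⟩ : ∃ y ∈ S, y ∉ Submodule.span F {u} := by
      by_contra h
      push Not at h
      have h1 := Submodule.finrank_mono (show S ≤ Submodule.span F {u} from h)
      rw [finrank_span_singleton hu0] at h1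
      omega
    have huy : polar Q u y = 0 := by
      rw [polar, hsing _ (S.add_mem hu hy), hsing _ hu, hsing _ hy, sub_zero, sub_zero]
    obtain ⟨e, he, hes⟩ := exists_siegel (hsing u hu) huy
    obtain ⟨x, hx⟩ : ∃ x, polar Q u x ≠ 0 := by
      by_contra h
      push Not at h
      exact hu0 (eq_zero_of_b hQ h)
    refine fin e he ⟨x, fun h => hyu ?_⟩ fun b hb => hes.fix (hb u hu) (hb y hy)
    rw [hes x, hsing y hy] at h
    refine Submodule.mem_span_singleton.2 ⟨polar Q x y / polar Q x u, ?_⟩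
    rw [b_comm u x] at hx
    have h2 : polar Q x u • y = polar Q x y • u := by
      rw [← sub_eq_zero]
      simpa [add_sub_assoc] using h
    rw [div_eq_inv_mul, mul_smul, ← h2, smul_smul, inv_mul_cancel₀ hx, one_smul]

section plus

variable {k : ℕ}

set_option quotPrecheck false in
local notation "QP" => qPlus F (k + 1)

set_option quotPrecheck false in
local notation "VP" => (Fin (k + 1) ⊕ Fin (k + 1) → F)

/-- The singular subspace spanned by all but the last of the first basis vectors. -/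
def singSpace (F : Type*) [Field F] (k : ℕ) : Submodule F (Fin (k + 1) ⊕ Fin (k + 1) → F) where
  carrier := {v | (∀ i, v (.inr i) = 0) ∧ v (.inl (Fin.last k)) = 0}
  zero_mem' := ⟨fun _ => rfl, rfl⟩
  add_mem' {a b} ha hb := ⟨fun i => by simp [ha.1 i, hb.1 i], by simp [ha.2, hb.2]⟩
  smul_mem' c a ha := ⟨fun i => by simp [ha.1 i], by simp [ha.2]⟩

theorem finrank_singSpace : finrank F (singSpace F k) ≤ k := by
  let f : (Fin k → F) →ₗ[F] (Fin (k + 1) ⊕ Fin (k + 1) → F) :=
    { toFun := fun c => Sum.elim (Fin.snoc (α := fun _ => F) c 0) 0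
      map_add' := fun a b => funext fun x => by
        rcases x with i | i
        · cases i using Fin.lastCases <;> simp
        · simp
      map_smul' := fun c a => funext fun x => by
        rcases x with i | i
        · cases i using Fin.lastCases <;> simp
        · simp }
  have hle : singSpace F k ≤ LinearMap.range f := fun v hv => ⟨fun i => v (.inl i.castSucc), funext fun x => by
    rcases x with i | i
    · cases i using Fin.lastCases with
      | last => simp [f, hv.2]
      | cast i => simp [f]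
    · simp [f, hv.1 i]⟩
  exact (Submodule.finrank_mono hle).trans ((LinearMap.finrank_range_le f).trans (by simp))

theorem fixer_pow_eight (hF : Fintype.card F = 2) (g : Cfsg.isometryGroup F (⇑(qPlus F (k + 1))))
    (hg : g ∈ fixer (qPlus F (k + 1)) (singSpace F k)) : g ^ 8 = 1 := by
  classical
  have h01 : ∀ c : F, c = 0 ∨ c = 1 := fun c => by
    have hu : ({0, 1} : Finset F) = Finset.univ := Finset.eq_univ_of_card _ (by simp [hF])
    have h := Finset.mem_univ c
    rw [← hu] at h
    simpa using h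
  have h2 : (2 : F) = 0 := by
    rcases h01 2 with h | h
    · exact h
    · exact absurd (show (1 : F) = 0 by linear_combination h) one_ne_zero
  let e := (isoEquiv QP g).1
  have hQe : ∀ v, QP (e v) = QP v := (isoEquiv QP g).2
  have hB : ∀ x y, polar QP x y = ∑ i, (x (.inl i) * y (.inr i) + x (.inr i) * y (.inl i)) := fun x y => by
    rw [polar, coe_qPlus]
    simp only [Cfsg.quadFormPlus, Pi.add_apply, ← Finset.sum_sub_distrib]
    exact Finset.sum_congr rfl fun i _ => by ring
  let ev : Fin (k + 1) → (Fin (k + 1) ⊕ Fin (k + 1) → F) := fun i => Pi.single (.inl i) 1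
  -- the orthogonal of the singular space is stable
  have hcoord : ∀ v (i : Fin k), e v (.inr i.castSucc) = v (.inr i.castSucc) := fun v i => by
    have hm : ev i.castSucc ∈ singSpace F k :=
      ⟨fun j => by simp [ev], by simp [ev, Fin.castSucc_ne_last, (Fin.castSucc_ne_last i).symm]⟩
    have h := b_map (isoEquiv QP g).2 v (ev i.castSucc)
    rw [hg _ hm, hB, hB] at h
    simpa [ev, Pi.single_apply] using h
  let M := fun v => e (e v) - v
  have hMadd : ∀ a b, M (a + b) = M a + M b := fun a b => by simp only [M, map_add]; abel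
  have hMsmul : ∀ (c : F) a, M (c • a) = c • M a := fun c a => by simp only [M, map_smul, smul_sub]
  have hM0 : ∀ a ∈ singSpace F k, M a = 0 := fun a ha => by
    show e (e a) - a = 0
    rw [hg a ha, hg a ha, sub_self]
  have hME : ∀ v (i : Fin k), M v (.inr i.castSucc) = 0 := fun v i => by
    show e (e v) (.inr i.castSucc) - v (.inr i.castSucc) = 0
    rw [hcoord, hcoord, sub_self]
  let p : (Fin (k + 1) ⊕ Fin (k + 1) → F) → F × F := fun v => (v (.inl (Fin.last k)), v (.inr (Fin.last k)))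
  let a₀ := ev (Fin.last k)
  let b₀ : Fin (k + 1) ⊕ Fin (k + 1) → F := Pi.single (.inr (Fin.last k)) 1
  have hE : ∀ v, (∀ i : Fin k, v (.inr i.castSucc) = 0) → QP v = (p v).1 * (p v).2 ∧
      v - ((p v).1 • a₀ + (p v).2 • b₀) ∈ singSpace F k := fun v hv => by
    refine ⟨?_, fun i => ?_, ?_⟩
    · rw [coe_qPlus, Cfsg.quadFormPlus, Fin.sum_univ_castSucc]
      simp [hv, p]
    · cases i using Fin.lastCases with
      | last => simp [p, a₀, b₀, ev]
      | cast i => simp [p, a₀, b₀, ev, hv i, Fin.castSucc_ne_last]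
    · simp [p, a₀, b₀, ev]
  have hBE : ∀ v w, (∀ i : Fin k, v (.inr i.castSucc) = 0) → (∀ i : Fin k, w (.inr i.castSucc) = 0) →
      polar QP v w = (p v).1 * (p w).2 + (p v).2 * (p w).1 := fun v w hv hw => by
    rw [hB, Fin.sum_univ_castSucc]
    simp [hv, hw, p]
  have ha₀ : ∀ i : Fin k, a₀ (.inr i.castSucc) = 0 := fun i => by simp [a₀, ev]
  have hb₀ : ∀ i : Fin k, b₀ (.inr i.castSucc) = 0 := fun i => by simp [b₀, Fin.castSucc_ne_last]
  have pa : p a₀ = (1, 0) := by simp [p, a₀, ev]
  have pb : p b₀ = (0, 1) := by simp [p, b₀]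
  have hea : ∀ i : Fin k, e a₀ (.inr i.castSucc) = 0 := fun i => (hcoord _ i).trans (ha₀ i)
  have heb : ∀ i : Fin k, e b₀ (.inr i.castSucc) = 0 := fun i => (hcoord _ i).trans (hb₀ i)
  have plin : ∀ v, (∀ i : Fin k, v (.inr i.castSucc) = 0) →
      p (e v) = (p v).1 • p (e a₀) + (p v).2 • p (e b₀) := fun v hv => by
    have h := hg _ (hE v hv).2
    rw [map_sub, map_add, map_smul, map_smul] at h
    have h' : e v = ((p v).1 • e a₀ + (p v).2 • e b₀) + (v - ((p v).1 • a₀ + (p v).2 • b₀)) := by rw [← h]; abel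
    have hz := (hE v hv).2
    refine Prod.ext ?_ ?_
    · show e v (.inl (Fin.last k)) = _
      rw [h', Pi.add_apply, hz.2, add_zero]; rfl
    · show e v (.inr (Fin.last k)) = _
      rw [h', Pi.add_apply, hz.1, add_zero]; rfl
  have hswap : p (e a₀) = (1, 0) ∧ p (e b₀) = (0, 1) ∨ p (e a₀) = (0, 1) ∧ p (e b₀) = (1, 0) := by
    have qa : (p (e a₀)).1 * (p (e a₀)).2 = 0 := by rw [← (hE _ hea).1, hQe, (hE _ ha₀).1, pa]; simp
    have qb : (p (e b₀)).1 * (p (e b₀)).2 = 0 := by rw [← (hE _ heb).1, hQe, (hE _ hb₀).1, pb]; simp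
    have qab : (p (e a₀)).1 * (p (e b₀)).2 + (p (e a₀)).2 * (p (e b₀)).1 = 1 := by
      rw [← hBE _ _ hea heb, b_map (isoEquiv QP g).2, hBE _ _ ha₀ hb₀, pa, pb]; simp
    rcases pe : p (e a₀) with ⟨x, y⟩
    rcases pf : p (e b₀) with ⟨z, w⟩
    simp only [pe, pf] at qa qb qab ⊢
    rcases h01 x with rfl | rfl <;> rcases h01 y with rfl | rfl <;> rcases h01 z with rfl | rfl <;>
      rcases h01 w with rfl | rfl <;> simp_all
  have hp2 : ∀ v, (∀ i : Fin k, v (.inr i.castSucc) = 0) → M v ∈ singSpace F k := fun v hv => by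
    have hev : ∀ i : Fin k, e v (.inr i.castSucc) = 0 := fun i => (hcoord _ i).trans (hv i)
    have h1 : p (e (e v)) = p v := by
      rw [plin _ hev, plin _ hv]
      rcases hswap with ⟨e1, e2⟩ | ⟨e1, e2⟩ <;> simp [e1, e2, Prod.ext_iff]
    refine ⟨fun i => ?_, ?_⟩
    · cases i using Fin.lastCases with
      | last => show e (e v) _ - v _ = 0; exact sub_eq_zero.2 (congrArg Prod.snd h1)
      | cast i => exact hME v i
    · show e (e v) _ - v _ = 0; exact sub_eq_zero.2 (congrArg Prod.fst h1)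
  have hM4 : ∀ v, M (M (M v)) = 0 := fun v => hM0 _ (hp2 _ (hME v))
  have he2 : ∀ v, e (e v) = v + M v := fun v => by simp [M]
  have he4 : ∀ v, e (e (e (e v))) = v + M (M v) := fun v => by
    rw [he2 (e (e v)), he2 v, hMadd]
    have : M v + M v = 0 := by rw [← two_smul F, h2, zero_smul]
    linear_combination (norm := abel) this
  apply (isoEquiv QP).injective
  refine Subtype.ext (LinearEquiv.ext fun v => ?_)
  rw [map_pow, map_one, SubgroupClass.coe_pow]
  show e (e (e (e (e (e (e (e v))))))) = v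
  rw [he4, he4, hMadd, hMadd, hM4 (M v)]
  have : M (M v) + M (M v) = 0 := by rw [← two_smul F, h2, zero_smul]
  linear_combination (norm := abel) this

theorem sylow_meet_succ (hF : Fintype.card F = 2)
    (H : Sylow 2 (Cfsg.isometryGroup F (⇑QP))) (x : Cfsg.isometryGroup F (⇑QP)) :
    (H : Subgroup (Cfsg.isometryGroup F (⇑QP))) ⊓ MulAut.conj x • (H : Subgroup _) ≠ ⊥ := by
  have hK : IsPGroup 2 (fixer QP (singSpace F k)) := fun g => ⟨3, Subtype.ext (fixer_pow_eight hF g.1 g.2)⟩
  obtain ⟨H₀, hH₀⟩ := hK.exists_le_sylow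
  obtain ⟨c, hc⟩ := MulAction.exists_smul_eq (Cfsg.isometryGroup F (⇑QP)) H₀ H
  have hle : ∀ y, fixer QP ((singSpace F k).map ((isoEquiv QP (y * c)).1 : VP →ₗ[F] VP)) ≤
      MulAut.conj y • (H : Subgroup _) := fun y => by
    refine (fixer_conj (y * c) _).trans ?_
    rw [← hc, Sylow.coe_subgroup_smul, ← mul_smul, ← map_mul]
    exact Subgroup.pointwise_smul_le_pointwise_smul_iff.2 hH₀
  have hfr : ∀ y : Cfsg.isometryGroup F (⇑QP),
      finrank F ((singSpace F k).map ((isoEquiv QP y).1 : VP →ₗ[F] VP)) ≤ k := fun y => by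
    rw [LinearEquiv.finrank_map_eq]; exact finrank_singSpace
  obtain ⟨g, hg1, hgA, hgB⟩ := exists_ne_one hF (qPlus_nondeg (k + 1))
    ((singSpace F k).map ((isoEquiv QP (1 * c)).1 : VP →ₗ[F] VP))
    ((singSpace F k).map ((isoEquiv QP (x * c)).1 : VP →ₗ[F] VP)) (by
      have := hfr (1 * c); have := hfr (x * c)
      rw [Fintype.card_sum, Fintype.card_fin]
      omega)
  intro h
  apply hg1
  rw [← Subgroup.mem_bot, ← h]
  refine ⟨?_, hle x hgB⟩
  have h1 := hle 1 hgA
  rwa [map_one, one_smul] at h1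

theorem sylow_meet (hF : Fintype.card F = 2) {m : ℕ} (hm : 1 ≤ m)
    (H : Sylow 2 (Cfsg.isometryGroup F (⇑(qPlus F m)))) (x : Cfsg.isometryGroup F (⇑(qPlus F m))) :
    (H : Subgroup (Cfsg.isometryGroup F (⇑(qPlus F m)))) ⊓ MulAut.conj x • (H : Subgroup _) ≠ ⊥ := by
  obtain ⟨k, rfl⟩ : ∃ k, m = k + 1 := ⟨m - 1, by omega⟩
  exact sylow_meet_succ hF H x

end plus

end Cfsg.Agent.OrthSylTwo
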